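import Cfsg.Agent.Lib.H10.J3WComp

set_option autoImplicit false
set_option linter.unusedSectionVars false

/-! Groups generated by additive permutations given by bit operations; regular orbits and bases. -/

namespace H10.BitOrb

open H10.BitPar H10.J3Comp H10.J3Order

variable {n : ℕ} {V : Type*} [AddCommGroup V] {dec : ℕ → V}

/-- the code of a vector -/
noncomputable def code (hc : Coding n dec) (v : V) : ℕ := Classical.choose (hc.surj v)

theorem code_lt (hc : Coding n dec) (v : V) : code hc v < 2 ^ n := (Classical.choose_spec (hc.surj v)).1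
theorem dec_code (hc : Coding n dec) (v : V) : dec (code hc v) = v := (Classical.choose_spec (hc.surj v)).2
theorem code_dec (hc : Coding n dec) {x : ℕ} (hx : x < 2 ^ n) : code hc (dec x) = x :=
  hc.inj _ _ (code_lt hc _) hx (dec_code hc _)

/-- the permutation with the given operations -/
noncomputable def act (hc : Coding n dec) (l : List (ℕ × ℕ)) : Equiv.Perm V :=
  if h : okOps n l = true then
    { toFun := fun v => dec (runF l (code hc v))
      invFun := fun v => dec (runF l.reverse (code hc v))
      left_inv := fun v => by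
        show dec (runF l.reverse (code hc (dec (runF l (code hc v))))) = v
        rw [code_dec hc (runF_lt h (code_lt hc v))]
        have := runF_reverse (okOps_reverse h) (code hc v)
        rw [List.reverse_reverse] at this
        rw [this, dec_code hc]
      right_inv := fun v => by
        show dec (runF l (code hc (dec (runF l.reverse (code hc v))))) = v
        rw [code_dec hc (runF_lt (okOps_reverse h) (code_lt hc v)), runF_reverse h, dec_code hc] }
  else 1

theorem rep_act (hc : Coding n dec) {l : List (ℕ × ℕ)} (hl : okOps n l = true) : Rep n dec (act hc l) l := by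
  intro x hx
  unfold act
  rw [dif_pos hl]
  show dec (runF l (code hc (dec x))) = _
  rw [code_dec hc hx]

theorem act_dec (hc : Coding n dec) {l : List (ℕ × ℕ)} (hl : okOps n l = true) {x : ℕ} (hx : x < 2 ^ n) :
    act hc l (dec x) = dec (runF l x) := rep_act hc hl x hx

theorem act_unique (hc : Coding n dec) {l : List (ℕ × ℕ)} (hl : okOps n l = true) {g : Equiv.Perm V}
    (h : Rep n dec g l) : g = act hc l := by
  ext v
  obtain ⟨x, hx, rfl⟩ := hc.surj v
  rw [h x hx, act_dec hc hl hx]

theorem act_mem (hc : Coding n dec) {l : List (ℕ × ℕ)} (hl : okOps n l = true) {H : Subgroup (Equiv.Perm V)} :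
    act hc l ∈ H ↔ IsRep n dec H l := by
  constructor
  · intro h; exact ⟨_, h, rep_act hc hl⟩
  · rintro ⟨g, hg, hr⟩
    rw [← act_unique hc hl hr]; exact hg

theorem act_append (hc : Coding n dec) {l m : List (ℕ × ℕ)} (hl : okOps n l = true) (hm : okOps n m = true) :
    act hc (l ++ m) = act hc m * act hc l :=
  (act_unique hc (okOps_append hl hm) (Rep.mul hl (rep_act hc hm) (rep_act hc hl))).symm

theorem act_nil (hc : Coding n dec) : act hc [] = 1 :=
  (act_unique hc rfl (g := 1) (fun _ _ => rfl)).symm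

theorem act_reverse (hc : Coding n dec) {l : List (ℕ × ℕ)} (hl : okOps n l = true) :
    act hc l.reverse = (act hc l)⁻¹ :=
  (act_unique hc (okOps_reverse hl) (Rep.inv hl (rep_act hc hl))).symm

theorem act_congr (hc : Coding n dec) {l m : List (ℕ × ℕ)} (hl : okOps n l = true) (hm : okOps n m = true)
    (h : ∀ x < 2 ^ n, runF l x = runF m x) : act hc l = act hc m := by
  ext v
  obtain ⟨x, hx, rfl⟩ := hc.surj v
  rw [act_dec hc hl hx, act_dec hc hm hx, h x hx]

theorem runF_eq_of_basis {l m : List (ℕ × ℕ)} (h : ∀ k < n, runF l (2 ^ k) = runF m (2 ^ k)) :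
    ∀ x < 2 ^ n, runF l x = runF m x := by
  have hz : ∀ l : List (ℕ × ℕ), runF l 0 = 0 := by
    intro l
    have := runF_xor l 0 0
    simpa using this
  intro x hx
  induction n generalizing x with
  | zero =>
    have : x = 0 := by simpa using hx
    subst this
    rw [hz, hz]
  | succ k ih =>
    by_cases hb : x.testBit k = true
    · have h1 : x ^^^ 2 ^ k < 2 ^ k := by
        apply Nat.lt_pow_two_of_testBit
        intro i hi
        rw [Nat.testBit_xor, Nat.testBit_two_pow]
        rcases Nat.eq_or_lt_of_le hi with rfl | hi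
        · simp [hb]
        · have : x.testBit i = false := Nat.testBit_eq_false_of_lt (lt_of_lt_of_le hx (Nat.pow_le_pow_right (by norm_num) hi))
          simp [this]; omega
      have h2 : x = (x ^^^ 2 ^ k) ^^^ 2 ^ k := by rw [Nat.xor_assoc, Nat.xor_self, Nat.xor_zero]
      generalize x ^^^ 2 ^ k = y at h1 h2
      rw [h2, runF_xor, runF_xor, h k (Nat.lt_succ_self k), ih (fun i hi => h i (Nat.lt_succ_of_lt hi)) _ h1]
    · apply ih (fun i hi => h i (Nat.lt_succ_of_lt hi))
      apply Nat.lt_pow_two_of_testBit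
      intro i hi
      rcases Nat.eq_or_lt_of_le hi with rfl | hi
      · simpa using hb
      · exact Nat.testBit_eq_false_of_lt (lt_of_lt_of_le hx (Nat.pow_le_pow_right (by norm_num) hi))

theorem act_eq_of_sameOps (hc : Coding n dec) {l m : List (ℕ × ℕ)} (hl : okOps n l = true) (hm : okOps n m = true)
    (h : sameOps n l m = true) : act hc l = act hc m :=
  act_congr hc hl hm (runF_eq_of_basis (sameOps_iff.1 h))

/-! ### bases -/

/-- an element of `C` fixing the listed vectors is trivial -/
structure Base (n : ℕ) {V : Type*} [AddCommGroup V] (dec : ℕ → V) (C : Subgroup (Equiv.Perm V)) (B : List ℕ) : Prop where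
  lt : ∀ b ∈ B, b < 2 ^ n
  one : ∀ g ∈ C, (∀ b ∈ B, g (dec b) = dec b) → g = 1

theorem Base.mono {C K : Subgroup (Equiv.Perm V)} {B : List ℕ} (h : Base n dec C B) (hK : K ≤ C) : Base n dec K B :=
  ⟨h.lt, fun g hg => h.one g (hK hg)⟩

def eqAt (B : List ℕ) (l m : List (ℕ × ℕ)) : Bool := List.rec (motive := fun _ => Bool) true
  (fun b _ ih => cond (Nat.beq (runF l b) (runF m b)) ih false) B

theorem eqAt_iff {B : List ℕ} {l m : List (ℕ × ℕ)} : eqAt B l m = true ↔ ∀ b ∈ B, runF l b = runF m b := by
  induction B with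
  | nil => exact iff_of_true rfl (fun b hb => by simp at hb)
  | cons b B ih =>
    have h1 : eqAt (b :: B) l m = cond (Nat.beq (runF l b) (runF m b)) (eqAt B l m) false := rfl
    rw [h1]
    cases h2 : Nat.beq (runF l b) (runF m b) with
    | true =>
      have h3 := Nat.eq_of_beq_eq_true h2
      rw [cond_true, ih]
      constructor
      · intro h c hc
        rcases List.mem_cons.1 hc with rfl | hc
        · exact h3
        · exact h c hc
      · intro h c hc; exact h c (List.mem_cons_of_mem _ hc)
    | false =>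
      have h3 := Nat.ne_of_beq_eq_false h2
      rw [cond_false]
      exact iff_of_false (by simp) (fun h => h3 (h b List.mem_cons_self))

theorem Base.eq {C : Subgroup (Equiv.Perm V)} {B : List ℕ} (hB : Base n dec C B) {g h : Equiv.Perm V}
    (hg : g ∈ C) (hh : h ∈ C) (e : ∀ b ∈ B, g (dec b) = h (dec b)) : g = h := by
  have h1 := hB.one (h⁻¹ * g) (C.mul_mem (C.inv_mem hh) hg) (fun b hb => by
    show h.symm (g (dec b)) = _
    rw [e b hb, Equiv.symm_apply_apply])
  rw [inv_mul_eq_one] at h1
  exact h1.symm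

theorem Base.act_eq (hc : Coding n dec) {C : Subgroup (Equiv.Perm V)} {B : List ℕ} (hB : Base n dec C B)
    {l m : List (ℕ × ℕ)} (hl : okOps n l = true) (hm : okOps n m = true) (h1 : act hc l ∈ C) (h2 : act hc m ∈ C)
    (h : eqAt B l m = true) : act hc l = act hc m := by
  apply hB.eq h1 h2
  intro b hb
  rw [act_dec hc hl (hB.lt b hb), act_dec hc hm (hB.lt b hb), eqAt_iff.1 h b hb]

/-! ### generated groups -/

/-- the group generated by the listed operations -/
def gen (hc : Coding n dec) (gens : List (List (ℕ × ℕ))) : Subgroup (Equiv.Perm V) :=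
  Subgroup.closure {g | ∃ l ∈ gens, g = act hc l}

theorem act_mem_gen (hc : Coding n dec) {gens : List (List (ℕ × ℕ))} {l : List (ℕ × ℕ)} (hl : l ∈ gens) :
    act hc l ∈ gen hc gens := Subgroup.subset_closure ⟨l, hl, rfl⟩

theorem gen_le (hc : Coding n dec) {gens : List (List (ℕ × ℕ))} {C : Subgroup (Equiv.Perm V)}
    (h : ∀ l ∈ gens, act hc l ∈ C) : gen hc gens ≤ C := by
  unfold gen
  rw [Subgroup.closure_le]
  rintro _ ⟨l, hl, rfl⟩
  exact h l hl

theorem rep_gen (hc : Coding n dec) {gens : List (List (ℕ × ℕ))} (hok : okAll n gens = true) :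
    ∀ l ∈ gens, okOps n l = true ∧ IsRep n dec (gen hc gens) l := by
  intro l hl
  have h1 := okAll_mem hok l hl
  exact ⟨h1, (act_mem hc h1).1 (act_mem_gen hc hl)⟩

theorem inv_gen (hc : Coding n dec) {gens : List (List (ℕ × ℕ))} (hok : okAll n gens = true) {S : ℕ}
    (h : invAll n gens S = true) : Inv n dec (gen hc gens) S := by
  refine inv_closure hc h (okAll_mem hok) ?_
  rintro _ ⟨l, hl, rfl⟩
  exact ⟨l, hl, rep_act hc (okAll_mem hok l hl)⟩

theorem orbit_gen (hc : Coding n dec) {gens : List (List (ℕ × ℕ))} (hok : okAll n gens = true) {k b S : ℕ}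
    (hb : b < 2 ^ n) (hS : S = bfs n gens k (Nat.pow 2 b)) (hinv : invAll n gens S = true) (hbS : S.testBit b = true) :
    MulAction.orbit (gen hc gens) (dec b) = toSet n dec S := by
  apply Set.Subset.antisymm
  · exact Inv.orbit_subset hc (inv_gen hc hok hinv) hb hbS
  · rw [hS]; exact bfs_orbit hc (rep_gen hc hok) k hb

theorem stab_eq_bot {C : Subgroup (Equiv.Perm V)} {b : ℕ} (hB : Base n dec C [b]) : stab C (dec b) = ⊥ := by
  rw [eq_bot_iff]
  rintro g ⟨hg, hgb⟩
  rw [Subgroup.mem_bot]
  refine hB.one g hg ?_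
  intro c hc
  rw [List.mem_singleton.1 hc]; exact hgb

theorem card_of_base (hc : Coding n dec) {C : Subgroup (Equiv.Perm V)} {b S : ℕ} (hB : Base n dec C [b])
    (hS : MulAction.orbit C (dec b) = toSet n dec S) : Nat.card C = pc n S := by
  have := finite_V hc
  rw [card_eq C (dec b), stab_eq_bot hB, Subgroup.card_bot, mul_one, hS, ncard_toSet hc]

theorem mem_iff_of_base {C K : Subgroup (Equiv.Perm V)} (hKC : K ≤ C) {b S : ℕ} (hB : Base n dec C [b])
    (hS : MulAction.orbit K (dec b) = toSet n dec S) {g : Equiv.Perm V} (hg : g ∈ C) :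
    g ∈ K ↔ g (dec b) ∈ toSet n dec S := by
  rw [← hS]
  constructor
  · intro h; exact mem_orbit_iff.2 ⟨g, h, rfl⟩
  · intro h
    obtain ⟨k, hk, hkb⟩ := mem_orbit_iff.1 h
    have : k = g := by
      apply hB.eq (hKC hk) hg
      intro c hc
      rw [List.mem_singleton.1 hc]; exact hkb
    rw [← this]; exact hk

theorem act_mem_iff_of_base (hc : Coding n dec) {C K : Subgroup (Equiv.Perm V)} (hKC : K ≤ C) {b S : ℕ}
    (hB : Base n dec C [b]) (hS : MulAction.orbit K (dec b) = toSet n dec S) {l : List (ℕ × ℕ)}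
    (hl : okOps n l = true) (hg : act hc l ∈ C) :
    act hc l ∈ K ↔ S.testBit (runF l b) = true := by
  have hb := hB.lt b (by simp)
  rw [mem_iff_of_base hKC hB hS hg, act_dec hc hl hb, mem_toSet hc (runF_lt hl hb)]

/-- regular action from the order -/
theorem base_of_card (hc : Coding n dec) {C : Subgroup (Equiv.Perm V)} {b : ℕ} (hb : b < 2 ^ n)
    (h : Nat.card C ≤ (MulAction.orbit C (dec b)).ncard) : Base n dec C [b] := by
  have := finite_V hc
  refine ⟨fun c hcb => by rw [List.mem_singleton.1 hcb]; exact hb, ?_⟩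
  have h1 := card_eq C (dec b)
  have h2 : Nat.card (stab C (dec b)) = 1 := by
    have h3 : 0 < (MulAction.orbit C (dec b)).ncard := by
      rw [Set.ncard_pos (Set.toFinite _)]; exact ⟨_, MulAction.mem_orbit_self _⟩
    have h4 : 0 < Nat.card (stab C (dec b)) := Nat.card_pos
    rw [h1] at h
    have h5 : (MulAction.orbit C (dec b)).ncard * Nat.card (stab C (dec b)) ≤ (MulAction.orbit C (dec b)).ncard * 1 := by
      rw [mul_one]; exact h
    have := Nat.le_of_mul_le_mul_left h5 h3
    omega
  intro g hg hgb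
  have h3 : g ∈ stab C (dec b) := ⟨hg, hgb b (by simp)⟩
  rw [(Subgroup.card_eq_one).1 h2, Subgroup.mem_bot] at h3
  exact h3

theorem act_wOps_mem (hc : Coding n dec) {H : Subgroup (Equiv.Perm V)} {gs : List (List (ℕ × ℕ))}
    (hgs : ∀ l ∈ gs, okOps n l = true ∧ act hc l ∈ H) (w : List ℕ) :
    okOps n (wOps gs w) = true ∧ act hc (wOps gs w) ∈ H := by
  have h1 := wOps_rep (n := n) (dec := dec) (H := H) (gs := gs) (fun l hl => ⟨(hgs l hl).1, (act_mem hc (hgs l hl).1).1 (hgs l hl).2⟩) w
  exact ⟨h1.1, (act_mem hc h1.1).2 h1.2⟩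

end H10.BitOrb
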