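import Cfsg.Agent.Lib.H10.BitGrp

set_option autoImplicit false
set_option linter.unusedSectionVars false

/-! Spans as bit sets; the commutator space of an additive permutation. -/

namespace H10.BitOrb

open H10.BitPar

variable {n : ℕ} {V : Type*} [AddCommGroup V] {dec : ℕ → V}

/-- span of the vectors with the given codes -/
def spanS (n : ℕ) (L : List ℕ) : ℕ := List.rec (motive := fun _ => ℕ) 1 (fun b _ ih => Nat.lor ih (trans n b n ih)) L

def allLt2 (n : ℕ) (L : List ℕ) : Bool := allLt (Nat.pow 2 n) L

theorem toSet_one (hc : Coding n dec) : toSet n dec 1 = {0} := by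
  have h1 : (1 : ℕ) = Nat.pow 2 0 := rfl
  rw [h1, toSet_pow hc (Nat.two_pow_pos n), dec_zero hc]

theorem toSet_spanS (hc : Coding n dec) {L : List ℕ} (hL : ∀ b ∈ L, b < 2 ^ n) :
    toSet n dec (spanS n L) = (AddSubgroup.closure {v | ∃ b ∈ L, v = dec b} : Set V) := by
  induction L with
  | nil =>
    have h1 : spanS n [] = 1 := rfl
    rw [h1, toSet_one hc]
    have : {v | ∃ b ∈ ([] : List ℕ), v = dec b} = (∅ : Set V) := by
      ext v; simp
    rw [this, AddSubgroup.closure_empty]; rfl
  | cons b L ih =>
    have hb : b < 2 ^ n := hL b List.mem_cons_self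
    have ih' := ih (fun b hb => hL b (List.mem_cons_of_mem _ hb))
    have h1 : spanS n (b :: L) = Nat.lor (spanS n L) (BitPar.trans n b n (spanS n L)) := rfl
    rw [h1, toSet_union hc]
    ext v
    rw [Set.mem_union, mem_toSet_trans hc hb, ih']
    have h2 : {v | ∃ c ∈ b :: L, v = dec c} = insert (dec b) {v | ∃ c ∈ L, v = dec c} := by
      ext w
      simp only [Set.mem_setOf_eq, List.mem_cons, exists_eq_or_imp, Set.mem_insert_iff]
    rw [h2, SetLike.mem_coe, SetLike.mem_coe, SetLike.mem_coe]
    have h3 : AddSubgroup.closure {v | ∃ c ∈ L, v = dec c} ≤ AddSubgroup.closure (insert (dec b) {v | ∃ c ∈ L, v = dec c}) :=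
      AddSubgroup.closure_mono (Set.subset_insert _ _)
    have h4 : dec b ∈ AddSubgroup.closure (insert (dec b) {v | ∃ c ∈ L, v = dec c}) :=
      AddSubgroup.subset_closure (Set.mem_insert _ _)
    constructor
    · rintro (h | h)
      · exact h3 h
      · have := AddSubgroup.sub_mem _ (h3 h) h4
        rwa [add_sub_cancel_right] at this
    · intro h
      -- the union is a subgroup
      let U : AddSubgroup V :=
        { carrier := {v | v ∈ AddSubgroup.closure {v | ∃ c ∈ L, v = dec c} ∨ v + dec b ∈ AddSubgroup.closure {v | ∃ c ∈ L, v = dec c}}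
          zero_mem' := Or.inl (AddSubgroup.zero_mem _)
          add_mem' := by
            rintro x y (hx | hx) (hy | hy)
            · exact Or.inl (AddSubgroup.add_mem _ hx hy)
            · exact Or.inr (by rw [add_assoc]; exact AddSubgroup.add_mem _ hx hy)
            · exact Or.inr (by rw [add_right_comm]; exact AddSubgroup.add_mem _ hx hy)
            · left
              have := AddSubgroup.add_mem _ hx hy
              rwa [add_add_add_comm, add_self hc, add_zero] at this
          neg_mem' := by
            intro x hx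
            have : -x = x := by rw [neg_eq_iff_add_eq_zero]; exact add_self hc x
            rw [this]; exact hx }
      have h5 : AddSubgroup.closure (insert (dec b) {v | ∃ c ∈ L, v = dec c}) ≤ U := by
        rw [AddSubgroup.closure_le]
        intro x hx
        rcases hx with rfl | hx
        · right; show dec b + dec b ∈ _; rw [add_self hc]; exact AddSubgroup.zero_mem _
        · left; exact AddSubgroup.subset_closure hx
      exact h5 h

/-- codes of `v + g v` for the basis vectors -/
def movedL (n : ℕ) (l : List (ℕ × ℕ)) : List ℕ := (List.range n).map fun k => Nat.xor (Nat.pow 2 k) (runF l (Nat.pow 2 k))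

theorem closure_basis (hc : Coding n dec) : AddSubgroup.closure {v | ∃ k < n, v = dec (2 ^ k)} = (⊤ : AddSubgroup V) := by
  rw [eq_top_iff]
  intro v _
  obtain ⟨x, hx, rfl⟩ := hc.surj v
  have key : ∀ m ≤ n, ∀ x < 2 ^ m, dec x ∈ AddSubgroup.closure {v | ∃ k < n, v = dec (2 ^ k)} := by
    intro m
    induction m with
    | zero =>
      intro _ x hx
      have : x = 0 := by simpa using hx
      rw [this, dec_zero hc]; exact AddSubgroup.zero_mem _
    | succ k ih =>
      intro hk x hx
      by_cases hb : x.testBit k = true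
      · have h1 : x ^^^ 2 ^ k < 2 ^ k := by
          apply Nat.lt_pow_two_of_testBit
          intro i hi
          rw [Nat.testBit_xor, Nat.testBit_two_pow]
          rcases Nat.eq_or_lt_of_le hi with rfl | hi
          · simp [hb]
          · have : x.testBit i = false := Nat.testBit_eq_false_of_lt (lt_of_lt_of_le hx (Nat.pow_le_pow_right (by norm_num) hi))
            simp [this]; omega
        have h2 : x = (x ^^^ 2 ^ k) ^^^ 2 ^ k := by rw [Nat.xor_assoc, Nat.xor_self, Nat.xor_zero]
        generalize x ^^^ 2 ^ k = y at h1 h2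
        rw [h2, hc.xor]
        exact AddSubgroup.add_mem _ (ih (by omega) y h1) (AddSubgroup.subset_closure ⟨k, by omega, rfl⟩)
      · apply ih (by omega)
        apply Nat.lt_pow_two_of_testBit
        intro i hi
        rcases Nat.eq_or_lt_of_le hi with rfl | hi
        · simpa using hb
        · exact Nat.testBit_eq_false_of_lt (lt_of_lt_of_le hx (Nat.pow_le_pow_right (by norm_num) hi))
  exact key n le_rfl x hx

theorem lt_movedL {l : List (ℕ × ℕ)} (hl : okOps n l = true) : ∀ b ∈ movedL n l, b < 2 ^ n := by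
  intro b hb
  obtain ⟨k, hk, rfl⟩ := List.mem_map.1 hb
  have hk' := List.mem_range.1 hk
  have h1 : (2 : ℕ) ^ k < 2 ^ n := Nat.pow_lt_pow_right (by norm_num) hk'
  exact Nat.xor_lt_two_pow h1 (runF_lt hl h1)

/-- the commutator space -/
theorem toSet_moved (hc : Coding n dec) {l : List (ℕ × ℕ)} (hl : okOps n l = true)
    (hadd : ∀ u v, act hc l (u + v) = act hc l u + act hc l v) :
    toSet n dec (spanS n (movedL n l)) = {v | ∃ w, v = w + act hc l w} := by
  rw [toSet_spanS hc (lt_movedL hl)]
  let f : V →+ V := AddMonoidHom.mk' (fun w => w + act hc l w) (fun u v => by rw [hadd]; exact add_add_add_comm _ _ _ _)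
  have h1 : AddSubgroup.closure {v | ∃ b ∈ movedL n l, v = dec b} = f.range := by
    have h2 : {v | ∃ b ∈ movedL n l, v = dec b} = f '' {v | ∃ k < n, v = dec (2 ^ k)} := by
      ext v
      constructor
      · rintro ⟨b, hb, rfl⟩
        obtain ⟨k, hk, rfl⟩ := List.mem_map.1 hb
        have hk' := List.mem_range.1 hk
        have h1 : (2 : ℕ) ^ k < 2 ^ n := Nat.pow_lt_pow_right (by norm_num) hk'
        refine ⟨_, ⟨k, hk', rfl⟩, ?_⟩
        show dec (2 ^ k) + act hc l (dec (2 ^ k)) = dec (2 ^ k ^^^ runF l (2 ^ k))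
        rw [hc.xor, act_dec hc hl h1]
      · rintro ⟨_, ⟨k, hk, rfl⟩, rfl⟩
        have h1 : (2 : ℕ) ^ k < 2 ^ n := Nat.pow_lt_pow_right (by norm_num) hk
        refine ⟨2 ^ k ^^^ runF l (2 ^ k), List.mem_map.2 ⟨k, List.mem_range.2 hk, rfl⟩, ?_⟩
        show dec (2 ^ k) + act hc l (dec (2 ^ k)) = dec (2 ^ k ^^^ runF l (2 ^ k))
        rw [hc.xor, act_dec hc hl h1]
    rw [h2, ← AddMonoidHom.map_closure, closure_basis hc, ← AddMonoidHom.range_eq_map]
  rw [h1]
  ext v
  constructor
  · rintro ⟨w, rfl⟩; exact ⟨w, rfl⟩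
  · rintro ⟨w, rfl⟩; exact ⟨w, rfl⟩

/-- the centralizer preserves the commutator space -/
theorem centralizer_le_sstab (hc : Coding n dec) {H : Subgroup (Equiv.Perm V)} (hadd : Additive' H) {l : List (ℕ × ℕ)}
    (hl : okOps n l = true) (hlH : act hc l ∈ H) {g : Equiv.Perm V} (hg : g ∈ H) (hcomm : g * act hc l = act hc l * g) :
    g ∈ sstab H (toSet n dec (spanS n (movedL n l))) := by
  have key : ∀ g ∈ H, g * act hc l = act hc l * g → ∀ v, v ∈ toSet n dec (spanS n (movedL n l)) →
      g v ∈ toSet n dec (spanS n (movedL n l)) := by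
    intro g hg hcomm v hv
    rw [toSet_moved hc hl (hadd _ hlH)] at hv ⊢
    obtain ⟨w, rfl⟩ := hv
    refine ⟨g w, ?_⟩
    rw [hadd g hg]
    congr 1
    exact congrArg (fun σ : Equiv.Perm V => σ w) hcomm
  refine ⟨hg, fun v => ⟨fun h => ?_, key g hg hcomm v⟩⟩
  have h1 : g⁻¹ * act hc l = act hc l * g⁻¹ := by
    rw [inv_mul_eq_iff_eq_mul, ← mul_assoc, hcomm, mul_assoc, mul_inv_cancel, mul_one]
  have := key g⁻¹ (H.inv_mem hg) h1 _ h
  have h2 : g⁻¹ (g v) = v := g.symm_apply_apply v
  rwa [h2] at this

end H10.BitOrb
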