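import Cfsg.Agent.Lib.H10.BitSpan

set_option autoImplicit false
set_option linter.unusedSectionVars false

/-! Fast evaluation in the kernel of words in linear maps over the field with two elements by packed tables. -/

namespace H10.BitTab

open H10.BitPar H10.BitOrb H10.J3Comp H10.J3Order

/-- evaluate the argument before the call (kernel) -/
def force (f : ℕ → ℕ) (x : ℕ) : ℕ := Nat.rec (motive := fun _ => ℕ) (f 0) (fun n _ => f (Nat.succ n)) x

theorem force_eq (f : ℕ → ℕ) (x : ℕ) : force f x = f x := by cases x <;> rfl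

/-- forced version of `runF` -/
def runG (l : List (ℕ × ℕ)) : ℕ → ℕ := List.rec (motive := fun _ => ℕ → ℕ) (fun x => x)
  (fun p _ ih x => force ih (Nat.xor x (Nat.shiftLeft (Nat.land (Nat.shiftRight x p.2) 1) p.1))) l

theorem runG_eq (l : List (ℕ × ℕ)) (x : ℕ) : runG l x = runF l x := by
  induction l generalizing x with
  | nil => rfl
  | cons p l ih =>
    have h1 : runG (p :: l) x = force (runG l) (x ^^^ ((x >>> p.2) &&& 1) <<< p.1) := rfl
    rw [h1, force_eq, ih, runF_cons]
    congr 1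
    rw [opF_eq]
    have h2 : (x >>> p.2) &&& 1 = (x.testBit p.2).toNat := by
      rw [Nat.and_one_is_mod, Nat.testBit_eq_decide_div_mod_eq, Nat.shiftRight_eq_div_pow]
      rcases Nat.mod_two_eq_zero_or_one (x / 2 ^ p.2) with h | h <;> simp [h]
    rw [h2]
    cases x.testBit p.2
    · simp
    · simp [Nat.shiftLeft_eq]

def sameG (n : ℕ) (l m : List (ℕ × ℕ)) : Bool := (List.range n).all fun k => Nat.beq (runG l (Nat.pow 2 k)) (runG m (Nat.pow 2 k))

theorem sameG_eq (n : ℕ) (l m : List (ℕ × ℕ)) : sameG n l m = sameOps n l m := by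
  unfold sameG sameOps
  simp only [runG_eq]

/-- `2 ^ k` copies of `col`, spaced by `w` bits -/
def rp (w col : ℕ) : ℕ → ℕ := Nat.rec (motive := fun _ => ℕ) col
  (fun k ih => Nat.lor ih (Nat.shiftLeft ih (Nat.mul w (Nat.pow 2 k))))

/-- table of the linear map with the given columns -/
def tbl (w : ℕ) (cols : List ℕ) : ℕ → ℕ → ℕ := List.rec (motive := fun _ => ℕ → ℕ → ℕ) (fun _ T => T)
  (fun c _ ih k T => force (ih (Nat.succ k)) (Nat.lor T (Nat.shiftLeft (Nat.xor T (rp w c k)) (Nat.mul w (Nat.pow 2 k))))) cols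

/-- concatenation of `W`-bit numbers -/
def pack (W : ℕ) (L : List ℕ) : ℕ := List.rec (motive := fun _ => ℕ) 0
  (fun T _ ih => Nat.lor T (Nat.shiftLeft ih W)) L

/-- entry `c` of table `i` -/
def look (W w B i c : ℕ) : ℕ :=
  Nat.mod (Nat.shiftRight B (Nat.add (Nat.mul W i) (Nat.mul w c))) (Nat.pow 2 w)

/-- image of `x` under map number `i` -/
def app (n a B0 B1 i x : ℕ) : ℕ :=
  Nat.xor (look (Nat.mul n (Nat.pow 2 a)) n B0 i (Nat.mod x (Nat.pow 2 a)))
    (look (Nat.mul n (Nat.pow 2 (Nat.sub n a))) n B1 i (Nat.shiftRight x a))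

def evP (n a B0 B1 : ℕ) (w : List ℕ) : ℕ → ℕ := List.rec (motive := fun _ => ℕ → ℕ) (fun x => x)
  (fun i _ ih x => force ih (app n a B0 B1 i x)) w

def mkB0 (n a : ℕ) (cs : List (List ℕ)) : ℕ := pack (Nat.mul n (Nat.pow 2 a)) (cs.map fun c => tbl n (c.take a) 0 0)
def mkB1 (n a : ℕ) (cs : List (List ℕ)) : ℕ := pack (Nat.mul n (Nat.pow 2 (Nat.sub n a))) (cs.map fun c => tbl n (c.drop a) 0 0)

/-- the images of the basis vectors -/
def colsOf (n : ℕ) (l : List (ℕ × ℕ)) : List ℕ := (List.range n).map fun k => runG l (Nat.pow 2 k)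

/-! ### correctness -/

/-- the table `T` contains the values of `φ` on the numbers `< 2 ^ k` -/
structure Enc (w : ℕ) (φ : ℕ → ℕ) (k T : ℕ) : Prop where
  bit : ∀ c < 2 ^ k, ∀ i < w, T.testBit (w * c + i) = (φ c).testBit i
  lt : T < 2 ^ (w * 2 ^ k)

theorem Enc.step {w k T T' : ℕ} {φ ψ χ : ℕ → ℕ} (h : Enc w φ k T) (h' : Enc w ψ k T')
    (h1 : ∀ c < 2 ^ k, χ c = φ c) (h2 : ∀ c < 2 ^ k, χ (2 ^ k + c) = ψ c) :
    Enc w χ (k + 1) (T ||| T' <<< (w * 2 ^ k)) := by
  constructor
  · intro c hc i hi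
    rw [Nat.testBit_or, Nat.testBit_shiftLeft]
    by_cases hck : c < 2 ^ k
    · have h3 : ¬ (w * c + i ≥ w * 2 ^ k) := by
        have : w * (c + 1) ≤ w * 2 ^ k := Nat.mul_le_mul_left _ hck
        rw [Nat.mul_succ] at this
        omega
      rw [h.bit c hck i hi, h1 c hck, decide_eq_false h3, Bool.false_and, Bool.or_false]
    · obtain ⟨d, rfl⟩ := Nat.exists_eq_add_of_le (not_lt.1 hck)
      have hd : d < 2 ^ k := by rw [pow_succ] at hc; omega
      have h3 : w * (2 ^ k + d) + i ≥ w * 2 ^ k := by rw [Nat.mul_add]; omega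
      have h4 : w * (2 ^ k + d) + i - w * 2 ^ k = w * d + i := by rw [Nat.mul_add]; omega
      have h5 : T.testBit (w * (2 ^ k + d) + i) = false :=
        Nat.testBit_eq_false_of_lt (lt_of_lt_of_le h.lt (Nat.pow_le_pow_right (by norm_num) h3))
      rw [h5, decide_eq_true h3, h4, h'.bit d hd i hi, h2 d hd, Bool.true_and, Bool.false_or]
  · have e : w * 2 ^ (k + 1) = w * 2 ^ k + w * 2 ^ k := by rw [pow_succ]; ring
    rw [e]
    apply Nat.or_lt_two_pow
    · exact lt_of_lt_of_le h.lt (Nat.pow_le_pow_right (by norm_num) (Nat.le_add_right _ _))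
    · rw [Nat.shiftLeft_eq, pow_add]
      exact Nat.mul_lt_mul_of_pos_right h'.lt (Nat.two_pow_pos _)

theorem Enc.xor {w k T T' : ℕ} {φ ψ : ℕ → ℕ} (h : Enc w φ k T) (h' : Enc w ψ k T') :
    Enc w (fun c => φ c ^^^ ψ c) k (T ^^^ T') := by
  constructor
  · intro c hc i hi
    rw [Nat.testBit_xor, Nat.testBit_xor, h.bit c hc i hi, h'.bit c hc i hi]
  · exact Nat.xor_lt_two_pow h.lt h'.lt

theorem rp_enc {w col : ℕ} (hcol : col < 2 ^ w) (k : ℕ) : Enc w (fun _ => col) k (rp w col k) := by
  induction k with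
  | zero =>
    constructor
    · intro c hc i hi
      have : c = 0 := by simpa using hc
      subst this
      show col.testBit (w * 0 + i) = _
      rw [Nat.mul_zero, Nat.zero_add]
    · show col < _
      rw [pow_zero, mul_one]; exact hcol
  | succ k ih =>
    exact Enc.step ih ih (fun _ _ => rfl) (fun _ _ => rfl)

theorem tbl_enc {w : ℕ} {φ : ℕ → ℕ} (hφ : ∀ x y, φ (x ^^^ y) = φ x ^^^ φ y) (cols : List ℕ) (k T : ℕ)
    (hT : Enc w φ k T) (hcols : ∀ j, j < cols.length → cols.getD j 0 = φ (2 ^ (k + j)))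
    (hlt : ∀ j, j < cols.length → φ (2 ^ (k + j)) < 2 ^ w) : Enc w φ (k + cols.length) (tbl w cols k T) := by
  induction cols generalizing k T with
  | nil => exact hT
  | cons c cols ih =>
    have h0 : c = φ (2 ^ k) := by simpa using hcols 0 (by simp)
    have h0' : φ (2 ^ k) < 2 ^ w := by simpa using hlt 0 (by simp)
    have h1 : Enc w φ (k + 1) (T ||| (T ^^^ rp w c k) <<< (w * 2 ^ k)) := by
      refine Enc.step hT (Enc.xor hT (rp_enc (by rw [h0]; exact h0') k)) (fun _ _ => rfl) ?_
      intro d hd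
      have h2 : 2 ^ k + d = d ^^^ 2 ^ k := by
        have hdb : d.testBit k = false := Nat.testBit_eq_false_of_lt hd
        rw [add_comm]; exact add_pow_eq_xor hdb
      rw [h2, hφ, h0]
    have h2 := ih (k + 1) _ h1 (fun j hj => by
      have := hcols (j + 1) (by simpa using hj)
      rw [List.getD_cons_succ] at this
      rw [this, Nat.add_assoc, Nat.add_comm 1 j]) (fun j hj => by
      have := hlt (j + 1) (by simpa using hj)
      rwa [Nat.add_assoc, Nat.add_comm 1 j])
    have h3 : k + (c :: cols).length = k + 1 + cols.length := by simp; omega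
    rw [h3]
    have h4 : tbl w (c :: cols) k T = force (tbl w cols (k + 1)) (T ||| (T ^^^ rp w c k) <<< (w * 2 ^ k)) := rfl
    rw [h4, force_eq]
    exact h2

theorem tbl_enc0 {w : ℕ} {φ : ℕ → ℕ} (hφ : ∀ x y, φ (x ^^^ y) = φ x ^^^ φ y) (cols : List ℕ)
    (hcols : ∀ j, j < cols.length → cols.getD j 0 = φ (2 ^ j))
    (hlt : ∀ j, j < cols.length → φ (2 ^ j) < 2 ^ w) : Enc w φ cols.length (tbl w cols 0 0) := by
  have h0 : φ 0 = 0 := by
    have := hφ 0 0
    simpa using this
  have h := tbl_enc hφ cols 0 0 ⟨fun c hc i hi => by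
      have : c = 0 := by simpa using hc
      subst this
      rw [h0]; simp, Nat.two_pow_pos _⟩ (by simpa using hcols) (by simpa using hlt)
  rwa [Nat.zero_add] at h

theorem testBit_pack {W : ℕ} (hW : 0 < W) {L : List ℕ} (hL : ∀ T ∈ L, T < 2 ^ W) {i j : ℕ} (hi : i < L.length) (hj : j < W) :
    (pack W L).testBit (W * i + j) = (L.getD i 0).testBit j := by
  induction L generalizing i with
  | nil => simp at hi
  | cons T L ih =>
    have h1 : pack W (T :: L) = T ||| (pack W L) <<< W := rfl
    rw [h1, Nat.testBit_or, Nat.testBit_shiftLeft]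
    cases i with
    | zero =>
      have : ¬ (W * 0 + j ≥ W) := by omega
      rw [decide_eq_false this, Nat.mul_zero, Nat.zero_add, List.getD_cons_zero, Bool.false_and, Bool.or_false]
    | succ i =>
      have h2 : W * (i + 1) + j ≥ W := by rw [Nat.mul_succ]; omega
      have h3 : W * (i + 1) + j - W = W * i + j := by rw [Nat.mul_succ]; omega
      have h4 : T.testBit (W * (i + 1) + j) = false :=
        Nat.testBit_eq_false_of_lt (lt_of_lt_of_le (hL T List.mem_cons_self) (Nat.pow_le_pow_right (by norm_num) h2))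
      rw [decide_eq_true h2, h3, h4, List.getD_cons_succ, Bool.true_and, Bool.false_or]
      exact ih (fun T hT => hL T (List.mem_cons_of_mem _ hT)) (by simpa using hi)

theorem look_eq {n k : ℕ} (hn : 0 < n) {L : List ℕ} {φ : ℕ → ℕ → ℕ} (hL : ∀ i, i < L.length → Enc n (φ i) k (L.getD i 0))
    {i c : ℕ} (hi : i < L.length) (hc : c < 2 ^ k) (hφ : φ i c < 2 ^ n) :
    look (n * 2 ^ k) n (pack (n * 2 ^ k) L) i c = φ i c := by
  apply Nat.eq_of_testBit_eq
  intro j
  show ((pack (n * 2 ^ k) L >>> (n * 2 ^ k * i + n * c)) % 2 ^ n).testBit j = _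
  rw [Nat.testBit_mod_two_pow, Nat.testBit_shiftRight]
  by_cases hj : j < n
  · rw [decide_eq_true hj, Bool.true_and]
    have h1 : n * 2 ^ k * i + n * c + j = n * 2 ^ k * i + (n * c + j) := by ring
    have h2 : n * c + j < n * 2 ^ k := by
      have : n * (c + 1) ≤ n * 2 ^ k := Nat.mul_le_mul_left _ hc
      rw [Nat.mul_succ] at this
      omega
    rw [h1, testBit_pack (Nat.mul_pos hn (Nat.two_pow_pos _)) ?_ hi h2, (hL i hi).bit c hc j hj]
    intro T hT
    obtain ⟨m, hm, rfl⟩ := List.mem_iff_getElem.1 hT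
    have := (hL m hm).lt
    rwa [List.getD_eq_getElem _ _ hm] at this
  · rw [decide_eq_false hj, Bool.false_and]
    exact (Nat.testBit_eq_false_of_lt (lt_of_lt_of_le hφ (Nat.pow_le_pow_right (by norm_num) (not_lt.1 hj)))).symm

theorem runF_zero (l : List (ℕ × ℕ)) : runF l 0 = 0 := by
  have := runF_xor l 0 0
  simpa using this

theorem mod_xor_shift (n a x : ℕ) : (x % 2 ^ a) ^^^ ((x >>> a) <<< a) = x := by
  apply Nat.eq_of_testBit_eq
  intro i
  rw [Nat.testBit_xor, Nat.testBit_mod_two_pow, Nat.testBit_shiftLeft, Nat.testBit_shiftRight]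
  by_cases h : i < a
  · have h2 : ¬ (i ≥ a) := by omega
    simp [h, h2]
  · have h2 : i ≥ a := by omega
    have h3 : a + (i - a) = i := by omega
    simp [h, h2, h3]

/-- the data are right: `B0`, `B1` come from the columns of the maps `gs` -/
structure TabOK (n a : ℕ) (gs : List (List (ℕ × ℕ))) (B0 B1 : ℕ) : Prop where
  han : a ≤ n
  hn : 0 < n
  ok : ∀ l ∈ gs, okOps n l = true
  b0 : B0 = mkB0 n a (gs.map (colsOf n))
  b1 : B1 = mkB1 n a (gs.map (colsOf n))

theorem getD_map' {α β : Type*} (f : α → β) (L : List α) (i : ℕ) (hi : i < L.length) (d : α) (e : β) :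
    (L.map f).getD i e = f (L.getD i d) := by
  rw [List.getD_eq_getElem _ _ (by simpa using hi), List.getD_eq_getElem _ _ hi, List.getElem_map]

theorem colsOf_getD {n : ℕ} (l : List (ℕ × ℕ)) {k : ℕ} (hk : k < n) : (colsOf n l).getD k 0 = runF l (2 ^ k) := by
  unfold colsOf
  rw [getD_map' _ _ k (by simpa using hk) 0 0, List.getD_eq_getElem _ _ (by simpa using hk), List.getElem_range, runG_eq]; rfl

theorem length_colsOf (n : ℕ) (l : List (ℕ × ℕ)) : (colsOf n l).length = n := by simp [colsOf]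

theorem app_eq {n a : ℕ} {gs : List (List (ℕ × ℕ))} {B0 B1 : ℕ} (h : TabOK n a gs B0 B1) {i x : ℕ} (hi : i < gs.length)
    (hx : x < 2 ^ n) : app n a B0 B1 i x = runF (gs.getD i []) x := by
  have hok : okOps n (gs.getD i []) = true := by
    rw [List.getD_eq_getElem _ _ hi]; exact h.ok _ (List.getElem_mem hi)
  have hokj : ∀ j, j < gs.length → okOps n (gs.getD j []) = true := by
    intro j hj
    rw [List.getD_eq_getElem _ _ hj]; exact h.ok _ (List.getElem_mem hj)
  have h0 : look (n * 2 ^ a) n B0 i (x % 2 ^ a) = runF (gs.getD i []) (x % 2 ^ a) := by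
    rw [h.b0]
    unfold mkB0
    have hlen : ((gs.map (colsOf n)).map fun c => tbl n (c.take a) 0 0).length = gs.length := by simp
    refine look_eq (φ := fun j x => runF (gs.getD j []) x) h.hn ?_ (by rw [hlen]; exact hi)
      (Nat.mod_lt _ (Nat.two_pow_pos a)) ?_
    · intro j hj
      rw [hlen] at hj
      rw [getD_map' _ _ j (by simpa using hj) [] 0, getD_map' _ _ j hj [] []]
      have hl : ((colsOf n (gs.getD j [])).take a).length = a := by
        rw [List.length_take, length_colsOf]; exact Nat.min_eq_left h.han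
      have := tbl_enc0 (w := n) (φ := fun x => runF (gs.getD j []) x) (runF_xor _) ((colsOf n (gs.getD j [])).take a) ?_ ?_
      · rwa [hl] at this
      · intro m hm
        rw [hl] at hm
        rw [List.getD_eq_getElem _ _ (by rw [hl]; exact hm), List.getElem_take]
        have := colsOf_getD (n := n) (gs.getD j []) (k := m) (lt_of_lt_of_le hm h.han)
        rwa [List.getD_eq_getElem _ _ (by rw [length_colsOf]; exact lt_of_lt_of_le hm h.han)] at this
      · intro m hm
        rw [hl] at hm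
        exact runF_lt (hokj j hj) (Nat.pow_lt_pow_right (by norm_num) (lt_of_lt_of_le hm h.han))
    · exact runF_lt hok (lt_of_le_of_lt (Nat.mod_le _ _) hx)
  have h1 : look (n * 2 ^ (n - a)) n B1 i (x >>> a) = runF (gs.getD i []) ((x >>> a) <<< a) := by
    rw [h.b1]
    unfold mkB1
    have hlen : ((gs.map (colsOf n)).map fun c => tbl n (c.drop a) 0 0).length = gs.length := by simp
    have hxa : x >>> a < 2 ^ (n - a) := by
      rw [Nat.shiftRight_eq_div_pow, Nat.div_lt_iff_lt_mul (Nat.two_pow_pos a), ← pow_add, Nat.sub_add_cancel h.han]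
      exact hx
    refine look_eq (φ := fun j x => runF (gs.getD j []) (x <<< a)) h.hn ?_ (by rw [hlen]; exact hi) hxa ?_
    · intro j hj
      rw [hlen] at hj
      rw [getD_map' _ _ j (by simpa using hj) [] 0, getD_map' _ _ j hj [] []]
      have hl : ((colsOf n (gs.getD j [])).drop a).length = n - a := by
        rw [List.length_drop, length_colsOf]
      have := tbl_enc0 (w := n) (φ := fun x => runF (gs.getD j []) (x <<< a)) (fun x y => by
          rw [Nat.shiftLeft_xor_distrib, runF_xor]) ((colsOf n (gs.getD j [])).drop a) ?_ ?_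
      · rwa [hl] at this
      · intro m hm
        rw [hl] at hm
        rw [List.getD_eq_getElem _ _ (by rw [hl]; exact hm), List.getElem_drop]
        have := colsOf_getD (n := n) (gs.getD j []) (k := a + m) (by omega)
        rw [List.getD_eq_getElem _ _ (by rw [length_colsOf]; omega)] at this
        rw [this, Nat.shiftLeft_eq, ← pow_add, Nat.add_comm]
      · intro m hm
        rw [hl] at hm
        rw [Nat.shiftLeft_eq, ← pow_add]
        exact runF_lt (hokj j hj) (Nat.pow_lt_pow_right (by norm_num) (by omega))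
    · apply runF_lt hok
      rw [Nat.shiftLeft_eq]
      calc x >>> a * 2 ^ a = x / 2 ^ a * 2 ^ a := by rw [Nat.shiftRight_eq_div_pow]
        _ ≤ x := Nat.div_mul_le_self _ _
        _ < 2 ^ n := hx
  have h2 : app n a B0 B1 i x = look (n * 2 ^ a) n B0 i (x % 2 ^ a) ^^^ look (n * 2 ^ (n - a)) n B1 i (x >>> a) := rfl
  rw [h2, h0, h1, ← runF_xor, mod_xor_shift n]

theorem evP_eq {n a : ℕ} {gs : List (List (ℕ × ℕ))} {B0 B1 : ℕ} (h : TabOK n a gs B0 B1) {w : List ℕ}
    (hw : ∀ i ∈ w, i < gs.length) {x : ℕ} (hx : x < 2 ^ n) : evP n a B0 B1 w x = runF (wOps gs w) x := by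
  induction w generalizing x with
  | nil => rfl
  | cons i w ih =>
    have h1 : wOps gs (i :: w) = gs.getD i [] ++ wOps gs w := by simp [wOps]
    have h2 : evP n a B0 B1 (i :: w) x = evP n a B0 B1 w (app n a B0 B1 i x) := force_eq _ _
    have hi : i < gs.length := hw i List.mem_cons_self
    have hok : okOps n (gs.getD i []) = true := by
      rw [List.getD_eq_getElem _ _ hi]; exact h.ok _ (List.getElem_mem hi)
    rw [h1, h2, app_eq h hi hx, runF_append]
    exact ih (fun i hi => hw i (List.mem_cons_of_mem _ hi)) (runF_lt hok hx)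

end H10.BitTab
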