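import Cfsg.Agent.Lib.H41.FrP1a
import Cfsg.Agent.Lib.H60.FrJ
import Cfsg.Agent.Lib.H63.FrPhiAll

set_option autoImplicit false

/-! Piece P9 of FRAMES: reduction to one vector. -/

namespace H10.FrF4

open Matrix H96.Fr H63.FrPhiAll

variable {ι F : Type*} [Fintype ι] [DecidableEq ι] [Field F] {K : Subgroup ((ι → F) ≃ₗ[F] (ι → F))}

/-- it suffices to have one `j` -/
theorem phi_one (D : Dat K) {v : ι → F} (hv : v ⬝ᵥ v = 1) {j : ι} (h : rf v * rf (e j) ∈ K) : Phi K v := by
  refine ⟨hv, fun l => ?_⟩
  by_cases hjl : j = l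
  · subst hjl; exact h
  · have h4 : rf v * rf (e l) = (rf v * rf (e j)) * sg j l := by
      rw [← rf_e_mul hjl]
      calc rf v * rf (e l) = rf v * 1 * rf (e l) := by group
        _ = rf v * (rf (e j) * rf (e j)) * rf (e l) := by rw [rf_rf (e_dot_e j)]
        _ = _ := by group
    rw [h4]
    exact K.mul_mem h (D.sg j l hjl)

theorem phi_map (D : Dat K) {k : (ι → F) ≃ₗ[F] (ι → F)} (hk : k ∈ K) {v : ι → F} (hv : Phi K v) {j j' : ι}
    (hj : k (e j) = e j') : Phi K (k v) := by
  have hiso := D.iso k hk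
  refine phi_one D (j := j') (by rw [hiso]; exact hv.1) ?_
  have h1 : rf (k v) = k * rf v * k⁻¹ := by rw [conj_rf hiso hv.1]; group
  have h2 : rf (e j') = k * rf (e j) * k⁻¹ := by rw [conj_rf hiso (e_dot_e j), hj]; group
  rw [h1, h2]
  have h3 : k * rf v * k⁻¹ * (k * rf (e j) * k⁻¹) = k * (rf v * rf (e j)) * k⁻¹ := by group
  rw [h3]
  exact K.mul_mem (K.mul_mem hk (hv.2 j)) (K.inv_mem hk)

theorem exists_notMem {I : Finset ι} (h : I.card < Fintype.card ι) : ∃ l, l ∉ I := by
  by_contra hne
  push Not at hne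
  have h2 := Finset.card_le_card (fun x _ => hne x : (Finset.univ : Finset ι) ⊆ I)
  rw [Finset.card_univ] at h2
  omega

theorem phi_sg (D : Dat K) (hN : 3 ≤ Fintype.card ι) {v : ι → F} (hv : Phi K v) {a l : ι} (hal : a ≠ l) : Phi K (sg a l v) := by
  obtain ⟨j, hj⟩ := exists_notMem (I := ({a, l} : Finset ι)) (by rw [Finset.card_pair hal]; omega)
  rw [Finset.mem_insert, Finset.mem_singleton] at hj
  refine phi_map D (D.sg a l hal) hv (j := j) (j' := j) ?_
  rw [H41.FrP1a.sg_e, if_neg hj]

theorem ex_perm {I I' : Finset ι} (h : I.card = I'.card) (h2 : 2 ≤ I.card) :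
    ∃ σ : Equiv.Perm ι, Equiv.Perm.sign σ = 1 ∧ (∀ i, i ∈ I → σ i ∈ I') ∧ (∀ i, i ∉ I → σ i ∉ I') := by
  classical
  let ee : {x // x ∈ I} ≃ {x // x ∈ I'} := Finset.equivOfCardEq h
  let τ : Equiv.Perm ι := ee.extendSubtype
  have h1 : ∀ i, i ∈ I → τ i ∈ I' := fun i hi => ee.extendSubtype_mem i hi
  have h3 : ∀ i, i ∉ I → τ i ∉ I' := fun i hi => ee.extendSubtype_not_mem i hi
  rcases Int.units_eq_one_or (Equiv.Perm.sign τ) with hs | hs
  · exact ⟨τ, hs, h1, h3⟩
  · obtain ⟨x, hx, y, hy, hxy⟩ := Finset.one_lt_card.1 (show 1 < I.card by omega)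
    refine ⟨τ * Equiv.swap x y, ?_, ?_, ?_⟩
    · rw [Equiv.Perm.sign_mul, hs, Equiv.Perm.sign_swap hxy]; rfl
    · intro i hi
      rw [Equiv.Perm.mul_apply]
      apply h1
      rw [Equiv.swap_apply_def]
      split_ifs <;> assumption
    · intro i hi
      rw [Equiv.Perm.mul_apply, Equiv.swap_apply_of_ne_of_ne (by rintro rfl; exact hi hx) (by rintro rfl; exact hi hy)]
      exact h3 i hi

/-- finish: one vector suffices -/
theorem finish (D : Dat K) (hN : 6 ≤ Fintype.card ι) {I : Finset ι} (hI : I.card = 4) {h : ι → F} (hh : Phi K h)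
    (h0 : ∀ i, i ∉ I → h i = 0) (h1 : ∀ i ∈ I, 4 * (h i * h i) = 1) (h2 : (2:F) ≠ 0) : F4 K := by
  classical
  rintro v ⟨I', hI', hv0, hv1⟩
  obtain ⟨σ, hσ, hσ1, hσ2⟩ := ex_perm (hI.trans hI'.symm) (by omega)
  have hw : Phi K (pm σ h) := by
    obtain ⟨j⟩ : Nonempty ι := Fintype.card_pos_iff.1 (by omega)
    exact phi_map D (D.pm σ hσ) hh (pm_e σ j)
  set w := pm σ h with hwd
  have hwk : ∀ k, w k = h (σ.symm k) := fun k => rfl
  have hw0 : ∀ k, k ∉ I' → w k = 0 := by
    intro k hk
    rw [hwk]
    apply h0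
    intro hh
    have := hσ1 _ hh
    rw [Equiv.apply_symm_apply] at this
    exact hk this
  have hw1 : ∀ k ∈ I', 4 * (w k * w k) = 1 := by
    intro k hk
    rw [hwk]
    apply h1
    by_contra hh
    have := hσ2 _ hh
    rw [Equiv.apply_symm_apply] at this
    exact this hk
  have h4 : (4:F) ≠ 0 := by
    have : (4:F) = 2 * 2 := by norm_num
    rw [this]; exact mul_ne_zero h2 h2
  obtain ⟨l, hl⟩ := exists_notMem (I := I') (by omega)
  have key : ∀ J : Finset ι, J ⊆ I' → Phi K (fun k => if k ∈ J then v k else w k) := by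
    intro J
    induction J using Finset.induction_on with
    | empty =>
      intro _
      simpa using hw
    | insert a J ha ih =>
      intro hJ
      have h5 := ih (fun x hx => hJ (Finset.mem_insert_of_mem hx))
      have haI : a ∈ I' := hJ (Finset.mem_insert_self a J)
      have hal : a ≠ l := fun hh => hl (hh ▸ haI)
      have hlJ : l ∉ J := fun hh => hl (hJ (Finset.mem_insert_of_mem hh))
      have h6 : (v a - w a) * (v a + w a) = 0 := by
        have e1 := hv1 a haI
        have e2 := hw1 a haI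
        have : 4 * ((v a - w a) * (v a + w a)) = 0 := by linear_combination e1 - e2
        exact (mul_eq_zero.1 this).resolve_left h4
      rcases mul_eq_zero.1 h6 with h7 | h7
      · have h8 : (fun k => if k ∈ insert a J then v k else w k) = (fun k => if k ∈ J then v k else w k) := by
          funext k
          by_cases hk : k = a
          · subst hk
            simp only [Finset.mem_insert, true_or, if_true, if_neg ha]
            linear_combination h7
          · simp only [Finset.mem_insert, hk, false_or]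
        rw [h8]; exact h5
      · have h8 : (fun k => if k ∈ insert a J then v k else w k) = sg a l (fun k => if k ∈ J then v k else w k) := by
          funext k
          rw [sg_apply]
          by_cases hk : k = a
          · subst hk
            simp only [Finset.mem_insert, true_or, if_true, if_neg ha]
            linear_combination h7
          · by_cases hkl : k = l
            · subst hkl
              simp only [Finset.mem_insert, hk, false_or, hlJ, if_false, or_true, if_true, hw0 k hl, neg_zero]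
            · simp only [Finset.mem_insert, hk, hkl, false_or, if_false]
        rw [h8]
        exact phi_sg D (by omega) h5 hal
  have h9 := key I' (Finset.Subset.refl _)
  have h10 : (fun k => if k ∈ I' then v k else w k) = v := by
    funext k
    by_cases hk : k ∈ I'
    · rw [if_pos hk]
    · rw [if_neg hk, hw0 k hk, hv0 k hk]
  rw [h10] at h9
  exact h9

theorem f4_of (D : Dat K) (hN : 6 ≤ Fintype.card ι) {I : Finset ι} (hI : I.card = 4) {v : ι → F} (hv : Phi K v)
    (h0 : ∀ k, k ∉ I → v k = 0) (h4 : ∀ k ∈ I, 4 * (v k * v k) = 1) : F4 K := by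
  refine finish D hN hI hv h0 h4 ?_
  intro h2
  obtain ⟨k, hk⟩ := Finset.card_pos.1 (show 0 < I.card by omega)
  have := h4 k hk
  have h5 : (4:F) = 0 := by
    have : (4:F) = 2 * 2 := by norm_num
    rw [this, h2, mul_zero]
  rw [h5, zero_mul] at this
  exact zero_ne_one this

end H10.FrF4
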