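import Cfsg.Agent.Lib.H19.Carm2

/-!
# A homomorphism from the alternating group of degree 12, glued from degrees 8 and 5
-/

set_option autoImplicit false

namespace H10.HNAlt

open Equiv Equiv.Perm H19.Carm

universe u

/-- even permutations of `Fin 8` fixing `7` lie in the group generated by the `(0 1 i+2)`, `i < 5` -/
theorem mem_gen_five (σ : Perm (Fin 8)) (h7 : σ 7 = 7) (hs1 : sign σ = 1) : σ ∈ gen (ep 6) 5 := by
  have hs : ∀ k : Fin 8, k ≠ 1 → k ≠ 7 → swap 0 1 * swap 1 k ∈ gen (ep 6) 5 := by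
    intro k hk hk7
    by_cases hk0 : k = 0
    · subst hk0
      rw [swap_comm 1 0, swap_mul_self]
      exact Subgroup.one_mem _
    · have h1 : (k : ℕ) ≠ 0 := fun h => hk0 (Fin.ext (by simpa using h))
      have h2 : (k : ℕ) ≠ 1 := fun h => hk (Fin.ext (by simpa using h))
      have h7' : (k : ℕ) ≠ 7 := fun h => hk7 (Fin.ext (by simpa using h))
      have h3 : (k : ℕ) - 2 < 5 := by have := k.2; omega
      have h4 : k = ⟨(k : ℕ) - 2 + 2, by omega⟩ := Fin.ext (by simp; omega)
      have h6 : (k : ℕ) - 2 < 6 := by omega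
      rw [h4]
      have := ep_eq (m := 6) h6
      rw [← this]
      exact mem_gen h3
  have hsw : ∀ x y : Fin 8, x ≠ 7 → y ≠ 7 → x ≠ y → swap 0 1 * swap x y ∈ gen (ep 6) 5 := by
    intro x y hx7 hy7 hxy
    by_cases hx : x = 1
    · subst hx; exact hs y hxy.symm hy7
    by_cases hy : y = 1
    · subst hy; rw [swap_comm x 1]; exact hs x hxy hx7
    · have h1 := swap_mul_swap_mul_swap (x := y) (y := 1) (z := x) hy hxy.symm
      rw [swap_comm y 1] at h1
      have h2 : swap 0 1 * swap x y = (swap 0 1 * swap 1 x) *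
          ((swap 0 1 * swap 1 y)⁻¹ * (swap 0 1 * swap 1 x)) := by
        rw [← h1, mul_inv_rev, swap_inv, swap_inv]
        have h3 : swap 1 y * swap (0 : Fin 8) 1 * (swap 0 1 * swap 1 x) =
            swap 1 y * (swap 0 1 * swap 0 1) * swap 1 x := by group
        rw [h3, swap_mul_self, mul_one]
        group
      rw [h2]
      exact Subgroup.mul_mem _ (hs x hx hx7) (Subgroup.mul_mem _ (Subgroup.inv_mem _ (hs y hy hy7)) (hs x hx hx7))
  have key : ∀ τ : Perm {x : Fin 8 // x ≠ 7},
      (sign (ofSubtype τ) = 1 → ofSubtype τ ∈ gen (ep 6) 5) ∧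
      (sign (ofSubtype τ) = -1 → swap 0 1 * ofSubtype τ ∈ gen (ep 6) 5) := by
    intro τ
    induction τ using Equiv.Perm.swap_induction_on with
    | one =>
      rw [map_one]
      refine ⟨fun _ => Subgroup.one_mem _, fun h => ?_⟩
      rw [Equiv.Perm.sign_one] at h
      exact absurd h (by decide)
    | swap_mul f x y hxy ih =>
      obtain ⟨ih1, ih2⟩ := ih
      have hxy' : (x : Fin 8) ≠ y := fun h => hxy (Subtype.ext h)
      rw [map_mul, ofSubtype_swap_eq, Equiv.Perm.sign_mul, sign_swap hxy']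
      constructor
      · intro h
        have hf : sign (ofSubtype f) = -1 := by
          rcases Int.units_eq_one_or (sign (ofSubtype f)) with h' | h'
          · rw [h'] at h; exact absurd h (by decide)
          · exact h'
        have h1 : swap (x : Fin 8) y * ofSubtype f = (swap 0 1 * swap (x : Fin 8) y)⁻¹ * (swap 0 1 * ofSubtype f) := by
          rw [mul_inv_rev, swap_inv, swap_inv, mul_assoc, ← mul_assoc (swap 0 1), swap_mul_self,
            one_mul]
        rw [h1]
        exact Subgroup.mul_mem _ (Subgroup.inv_mem _ (hsw x y x.2 y.2 hxy')) (ih2 hf)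
      · intro h
        have hf : sign (ofSubtype f) = 1 := by
          rcases Int.units_eq_one_or (sign (ofSubtype f)) with h' | h'
          · exact h'
          · rw [h'] at h; exact absurd h (by decide)
        have h1 : swap 0 1 * (swap (x : Fin 8) y * ofSubtype f) = (swap 0 1 * swap (x : Fin 8) y) * ofSubtype f := by group
        rw [h1]
        exact Subgroup.mul_mem _ (hsw x y x.2 y.2 hxy') (ih1 hf)
  have hp : ∀ x : Fin 8, x ≠ 7 ↔ σ x ≠ 7 := by
    intro x
    rw [not_iff_not]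
    constructor
    · rintro rfl; exact h7
    · intro h; exact σ.injective (h.trans h7.symm)
  have h1 : ofSubtype (Perm.subtypePerm (p := fun x : Fin 8 => x ≠ 7) σ (fun x => (hp x).symm)) = σ := by
    apply ofSubtype_subtypePerm
    intro x hx hx'
    subst hx'
    exact hx h7
  have := (key (Perm.subtypePerm (p := fun x : Fin 8 => x ≠ 7) σ (fun x => (hp x).symm))).1
  rw [h1] at this
  exact this hs1

variable {G : Type u} [Group G]

theorem commute_closure {s : Set G} {v : G} (h : ∀ a ∈ s, Commute v a) {a : G} (ha : a ∈ Subgroup.closure s) :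
    Commute v a := by
  induction ha using Subgroup.closure_induction with
  | mem x hx => exact h x hx
  | one => exact Commute.one_right v
  | mul x y _ _ hx hy => exact hx.mul_right hy
  | inv x _ hx => exact hx.inv_right

/-- the glueing theorem -/
theorem exists_alt12 (q : ℕ → G) (hq : Rel q 6) (x0 x1 v : G)
    (c0 : x0 ^ 3 = 1) (c1 : x1 ^ 3 = 1) (cv : v ^ 3 = 1)
    (s01 : (x0 * x1) ^ 2 = 1) (s0v : (x0 * v) ^ 2 = 1) (s1v : (x1 * v) ^ 2 = 1)
    (h0 : ∀ i < 6, Commute x0 (q i)) (h1 : ∀ i < 6, Commute x1 (q i)) (hv : ∀ i < 5, Commute v (q i))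
    (hR : (v * (q 5 * v * (q 5)⁻¹)) ^ 2 = 1) :
    ∃ φ : alternatingGroup (Fin 12) →* G, φ (ea 10 0) = x0 := by
  obtain ⟨ψ, hψ⟩ := exists_hom 6 q hq
  -- everything commutes with x0, x1
  have hall : ∀ w : G, (∀ i < 6, Commute w (q i)) → ∀ a : alternatingGroup (Fin 8), Commute w (ψ a) := by
    intro w hw a
    have ha : a ∈ gen (ea 6) 6 := by rw [gen_ea]; trivial
    have : ψ a ∈ Subgroup.closure (q '' {i | i < 6}) := by
      have h2 : ψ a ∈ (gen (ea 6) 6).map ψ := ⟨a, ha, rfl⟩
      unfold gen at h2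
      rw [MonoidHom.map_closure] at h2
      refine Subgroup.closure_mono ?_ h2
      rintro _ ⟨_, ⟨i, hi, rfl⟩, rfl⟩
      exact ⟨i, hi, (hψ i hi).symm⟩
    refine commute_closure ?_ this
    rintro _ ⟨i, hi, rfl⟩
    exact hw i hi
  have hst : ∀ a : alternatingGroup (Fin 8), (a : Perm (Fin 8)) 7 = 7 → Commute v (ψ a) := by
    intro a ha
    have h2 := mem_gen_five (a : Perm (Fin 8)) ha (mem_alternatingGroup.1 a.2)
    have h3 : gen (ep 6) 5 = (gen (ea 6) 5).map (alternatingGroup (Fin 8)).subtype := by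
      unfold gen
      rw [MonoidHom.map_closure]
      congr 1
      rw [← Set.image_comp]
      rfl
    rw [h3] at h2
    obtain ⟨τ, hτ, hτσ⟩ := h2
    have h4 : τ = a := Subtype.ext hτσ
    rw [← h4]
    have h5 : ψ τ ∈ (gen (ea 6) 5).map ψ := ⟨τ, hτ, rfl⟩
    unfold gen at h5
    rw [MonoidHom.map_closure] at h5
    refine commute_closure ?_ h5
    rintro _ ⟨_, ⟨i, hi, rfl⟩, rfl⟩
    have hi' : i < 5 := hi
    rw [hψ i (by omega)]
    exact hv i hi'
  haveI : MulAction.IsMultiplyPretransitive (alternatingGroup (Fin 8)) (Fin 8) 2 := by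
    have := alternatingGroup.isMultiplyPretransitive (Fin 8)
    exact MulAction.isMultiplyPretransitive_of_le (n := Nat.card (Fin 8) - 2) (by simp) (by simp)
  have h2t : ∀ p r : Fin 8, p ≠ r → ∃ a : alternatingGroup (Fin 8), (a : Perm (Fin 8)) 7 = p ∧
      (a : Perm (Fin 8)) 0 = r := by
    intro p r hpr
    have h70 : (7 : Fin 8) ≠ 0 := by decide
    obtain ⟨a, ha, hb⟩ := (MulAction.is_two_pretransitive_iff (G := alternatingGroup (Fin 8)) (α := Fin 8)).1
      inferInstance h70 hpr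
    exact ⟨a, ha, hb⟩
  have h1t : ∀ p : Fin 8, ∃ a : alternatingGroup (Fin 8), (a : Perm (Fin 8)) 7 = p := by
    intro p
    have : ∃ r : Fin 8, p ≠ r := ⟨if p = 0 then 1 else 0, by split_ifs with h <;> simp [h]⟩
    obtain ⟨r, hr⟩ := this
    obtain ⟨a, ha, _⟩ := h2t p r hr
    exact ⟨a, ha⟩
  choose t ht using h1t
  let X : Fin 8 → G := fun p => ψ (t p) * v * (ψ (t p))⁻¹
  have hX : ∀ a : alternatingGroup (Fin 8), ψ a * v * (ψ a)⁻¹ = X ((a : Perm (Fin 8)) 7) := by
    intro a
    set p := (a : Perm (Fin 8)) 7 with hp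
    have h3 : (((t p)⁻¹ * a : alternatingGroup (Fin 8)) : Perm (Fin 8)) 7 = 7 := by
      show ((t p : Perm (Fin 8))⁻¹ * (a : Perm (Fin 8))) 7 = 7
      rw [Perm.mul_apply, ← hp, Perm.inv_eq_iff_eq]
      exact (ht p).symm
    have h4 := hst _ h3
    rw [map_mul, map_inv] at h4
    have h5 : v * ((ψ (t p))⁻¹ * ψ a) = (ψ (t p))⁻¹ * ψ a * v := h4.eq
    show ψ a * v * (ψ a)⁻¹ = ψ (t p) * v * (ψ (t p))⁻¹
    have h6 : ψ a * v = ψ (t p) * (v * ((ψ (t p))⁻¹ * ψ a)) := by rw [h5]; group
    rw [h6]; group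
  have hXc : ∀ p, X p ^ 3 = 1 := by
    intro p
    show (ψ (t p) * v * (ψ (t p))⁻¹) ^ 3 = 1
    rw [conj_pow, cv, mul_one, mul_inv_cancel]
  have hX7 : X 7 = v := by
    have := hX 1
    rw [map_one, one_mul, inv_one, mul_one] at this
    exact this.symm
  have hX0 : X 0 = q 5 * v * (q 5)⁻¹ := by
    have := hX (ea 6 5)
    rw [hψ 5 (by norm_num)] at this
    rw [this]
    congr 1
  have hconj : ∀ (a : alternatingGroup (Fin 8)) (p : Fin 8), ψ a * X p * (ψ a)⁻¹ = X ((a : Perm (Fin 8)) p) := by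
    intro a p
    have h3 := hX (a * t p)
    rw [map_mul] at h3
    have h4 : (((a * t p : alternatingGroup (Fin 8))) : Perm (Fin 8)) 7 = (a : Perm (Fin 8)) p := by
      show ((a : Perm (Fin 8)) * (t p : Perm (Fin 8))) 7 = _
      rw [Perm.mul_apply, ht]
    rw [h4] at h3
    rw [← h3]
    show ψ a * (ψ (t p) * v * (ψ (t p))⁻¹) * (ψ a)⁻¹ = _
    group
  have hXs : ∀ p r : Fin 8, p ≠ r → (X p * X r) ^ 2 = 1 := by
    intro p r hpr
    obtain ⟨a, ha, hb⟩ := h2t p r hpr
    rw [← ha, ← hb, ← hconj a 7, ← hconj a 0]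
    have : ψ a * X 7 * (ψ a)⁻¹ * (ψ a * X 0 * (ψ a)⁻¹) = ψ a * (X 7 * X 0) * (ψ a)⁻¹ := by group
    rw [this, conj_pow, hX7, hX0, hR, mul_one, mul_inv_cancel]
  have hXw : ∀ (w : G), (∀ i < 6, Commute w (q i)) → (w * v) ^ 2 = 1 → ∀ p, (w * X p) ^ 2 = 1 := by
    intro w hw hwv p
    have h3 := hall w hw (t p)
    have h4 : w * X p = ψ (t p) * (w * v) * (ψ (t p))⁻¹ := by
      show w * (ψ (t p) * v * (ψ (t p))⁻¹) = _
      rw [← mul_assoc (ψ (t p)) w v, ← h3.eq]; group
    rw [h4, conj_pow, hwv, mul_one, mul_inv_cancel]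
  have swp : ∀ a b : G, (a * b) ^ 2 = 1 → (b * a) ^ 2 = 1 := by
    intro a b h
    have : (b * a) ^ 2 = a⁻¹ * (a * b) ^ 2 * a := by
      rw [sq, sq]; group
    rw [this, h]; group
  let Q : ℕ → G := fun i => if i = 0 then x0 else if i = 1 then x1 else X (Fin.ofNat 8 (i - 2))
  have hQ : Rel Q 10 := by
    constructor
    · intro i hi
      by_cases hi0 : i = 0
      · subst hi0; exact c0
      by_cases hi1 : i = 1
      · subst hi1; exact c1
      · have : Q i = X (Fin.ofNat 8 (i - 2)) := by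
          show (if i = 0 then x0 else if i = 1 then x1 else X (Fin.ofNat 8 (i - 2))) = _
          rw [if_neg hi0, if_neg hi1]
        rw [this]; exact hXc _
    · intro i hi j hj hij
      have hQg : ∀ k, k ≠ 0 → k ≠ 1 → Q k = X (Fin.ofNat 8 (k - 2)) := by
        intro k hk0 hk1
        show (if k = 0 then x0 else if k = 1 then x1 else X (Fin.ofNat 8 (k - 2))) = _
        rw [if_neg hk0, if_neg hk1]
      by_cases hi0 : i = 0
      · subst hi0
        by_cases hj1 : j = 1
        · subst hj1; exact s01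
        · rw [hQg j hij.symm hj1]; exact hXw x0 h0 s0v _
      by_cases hi1 : i = 1
      · subst hi1
        by_cases hj0 : j = 0
        · subst hj0; exact swp _ _ s01
        · rw [hQg j hj0 hij.symm]; exact hXw x1 h1 s1v _
      · by_cases hj0 : j = 0
        · subst hj0; rw [hQg i hi0 hi1]; exact swp _ _ (hXw x0 h0 s0v _)
        by_cases hj1 : j = 1
        · subst hj1; rw [hQg i hi0 hi1]; exact swp _ _ (hXw x1 h1 s1v _)
        rw [hQg i hi0 hi1, hQg j hj0 hj1]
        apply hXs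
        intro h
        have := congrArg Fin.val h
        simp only [Fin.ofNat] at this
        omega
  obtain ⟨φ, hφ⟩ := exists_hom 10 Q hQ
  exact ⟨φ, hφ 0 (by norm_num)⟩

end H10.HNAlt
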