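import Cfsg.Agent.Lib.H10.HNAlt

/-!
# The words giving `A₁₂` inside the Harada–Norton group
-/

set_option autoImplicit false

namespace H10.HNAlt

open Equiv Equiv.Perm H19.Carm

universe u

/-- letters -/
inductive Lt
  | x | X | y | Y | z | t | T
  deriving DecidableEq

namespace Lt
/-- inverse letter (`z` is an involution) -/
def inv : Lt → Lt
  | x => X | X => x | y => Y | Y => y | z => z | t => T | T => t
end Lt

/-- inverse word -/
def wi (w : List Lt) : List Lt := (w.map Lt.inv).reverse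

variable {G : Type u} [Group G]

/-- value of a letter -/
def lv (x y z t : G) : Lt → G
  | .x => x | .X => x⁻¹ | .y => y | .Y => y⁻¹ | .z => z | .t => t | .T => t⁻¹

/-- value of a word -/
def ev (x y z t : G) (w : List Lt) : G := (w.map (lv x y z t)).prod

section

variable {x y z t : G}

theorem ev_app (a b : List Lt) : ev x y z t (a ++ b) = ev x y z t a * ev x y z t b := by
  simp [ev]

theorem ev_nil : ev x y z t [] = 1 := rfl

theorem lv_inv (hz : z * z = 1) (l : Lt) : lv x y z t l.inv = (lv x y z t l)⁻¹ := by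
  cases l <;> simp [lv, Lt.inv]
  exact (inv_eq_of_mul_eq_one_left hz).symm

theorem ev_wi (hz : z * z = 1) (w : List Lt) : ev x y z t (wi w) = (ev x y z t w)⁻¹ := by
  induction w with
  | nil => simp [ev, wi]
  | cons a w ih =>
    have h1 : wi (a :: w) = wi w ++ [a.inv] := by simp [wi]
    have h2 : ev x y z t (a :: w) = lv x y z t a * ev x y z t w := by simp [ev]
    have h3 : ev x y z t [a.inv] = lv x y z t a.inv := by simp [ev]
    rw [h1, ev_app, ih, h2, h3, lv_inv hz, mul_inv_rev]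

end

open Lt in
/-- `c` -/ def wC : List Lt := [Y, x, y, X, Y]
open Lt in
/-- `s` -/ def wS : List Lt := [Y, x, Y, Y, X, Y]
open Lt in
/-- `u` -/ def wU : List Lt := [y, y, x, y, x, y, y, y, X, y, y, y, X, Y, Y]
open Lt in
/-- `g` -/ def wG : List Lt := [y, x, y, z, Y, X, Y, X, z]
open Lt in
/-- `v` -/ def wV : List Lt := [z, t]
open Lt in
/-- `x₀` -/ def w0 : List Lt := [t, z, T, T, z]
open Lt in
/-- `x₁` -/ def w1 : List Lt := [t, t, z, T]
/-- `z` -/ def wZ : List Lt := [Lt.z]
/-- `t` -/ def wT : List Lt := [Lt.t]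

/-- the last Carmichael generator of `A₈` -/
def wQ : List Lt := wC ++ wC ++ wC ++ wG

/-- square of a word -/
def w2 (w : List Lt) : List Lt := w ++ w
/-- cube of a word -/
def w3 (w : List Lt) : List Lt := w ++ w ++ w
/-- commutator of words -/
def wc (a b : List Lt) : List Lt := wi a ++ wi b ++ a ++ b

/-- the relations -/
def rl : List (List Lt) :=
  [w2 wG, wS ++ wS ++ wS ++ wS ++ wS, w3 wU, w2 (wU ++ wi wS ++ wU ++ wS),
    w2 (wU ++ wi wS ++ wi wS ++ wU ++ wS ++ wS), w3 wQ, w2 (wQ ++ wU), wc wQ wS,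
    wc wZ wC, wc wZ wS, wc wZ wU, wc wT wC, wc wT wS, wc wT wU,
    w3 w0, w3 w1, w3 wV, w2 (w0 ++ w1), w2 (w0 ++ wV), w2 (w1 ++ wV),
    wc w0 wG, wc w1 wG, w2 (wV ++ wG ++ wV ++ wi wG)]

theorem comm_of {a b : G} (h : a⁻¹ * b⁻¹ * a * b = 1) : Commute a b := by
  have : a * b = b * a := by
    have h2 : b * a * (a⁻¹ * b⁻¹ * a * b) = b * a * 1 := by rw [h]
    rw [mul_one] at h2
    rw [← h2]; group
  exact this

theorem sq_swap {a b : G} (h : (a * b) ^ 2 = 1) : (b * a) ^ 2 = 1 := by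
  have : (b * a) ^ 2 = a⁻¹ * (a * b) ^ 2 * a := by
    rw [sq, sq]; group
  rw [this, h]; group

theorem conj2 (a w : G) : (a⁻¹ * w * a) ^ 2 = a⁻¹ * w ^ 2 * a := by
  rw [sq, sq]; simp [mul_assoc]

theorem conj3 (a w : G) : (a⁻¹ * w * a) ^ 3 = a⁻¹ * w ^ 3 * a := by
  rw [pow_three, pow_three]; simp [mul_assoc]

theorem exists_of_words (x y z t : G) (hz : z * z = 1) (h : ∀ w ∈ rl, ev x y z t w = 1) :
    ∃ φ : alternatingGroup (Fin 12) →* G, φ (ea 10 0) = ev x y z t w0 := by
  set c := ev x y z t wC with hc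
  set s := ev x y z t wS with hs
  set u := ev x y z t wU with hu
  set g := ev x y z t wG with hg
  set v := ev x y z t wV with hv
  set x0 := ev x y z t w0 with hx0
  set x1 := ev x y z t w1 with hx1
  have hzz : ev x y z t wZ = z := by simp [ev, wZ, lv]
  have htt : ev x y z t wT = t := by simp [ev, wT, lv]
  have E : ∀ {w : List Lt}, w ∈ rl → ev x y z t w = 1 := fun hw => h _ hw
  have e2 : ∀ w : List Lt, ev x y z t (w2 w) = (ev x y z t w) ^ 2 := by
    intro w; rw [w2, ev_app, sq]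
  have e3 : ∀ w : List Lt, ev x y z t (w3 w) = (ev x y z t w) ^ 3 := by
    intro w; rw [w3, ev_app, ev_app, pow_three, mul_assoc]
  have ec : ∀ a b : List Lt, ev x y z t (wc a b) = 1 → Commute (ev x y z t a) (ev x y z t b) := by
    intro a b hab
    rw [wc, ev_app, ev_app, ev_app, ev_wi hz, ev_wi hz] at hab
    exact comm_of hab
  have g2 : g ^ 2 = 1 := by rw [hg, ← e2]; exact E (by simp [rl])
  have s5 : s ^ 5 = 1 := by
    have := E (w := wS ++ wS ++ wS ++ wS ++ wS) (by simp [rl])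
    simp only [ev_app] at this
    rw [← hs] at this
    simp only [pow_succ, pow_zero, one_mul]
    exact this
  have u3 : u ^ 3 = 1 := by rw [hu, ← e3]; exact E (by simp [rl])
  have us1 : (u * (s⁻¹ * u * s)) ^ 2 = 1 := by
    have := E (w := w2 (wU ++ wi wS ++ wU ++ wS)) (by simp [rl])
    rw [e2] at this
    simp only [ev_app, ev_wi hz] at this
    have e : u * (s⁻¹ * u * s) = u * s⁻¹ * u * s := by simp only [mul_assoc]
    rw [e]; exact this
  have us2 : (u * (s⁻¹ * s⁻¹ * u * s * s)) ^ 2 = 1 := by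
    have := E (w := w2 (wU ++ wi wS ++ wi wS ++ wU ++ wS ++ wS)) (by simp [rl])
    rw [e2] at this
    simp only [ev_app, ev_wi hz] at this
    have e : u * (s⁻¹ * s⁻¹ * u * s * s) = u * s⁻¹ * s⁻¹ * u * s * s := by simp only [mul_assoc]
    rw [e]; exact this
  have hQ : ev x y z t wQ = c * c * c * g := by simp only [wQ, ev_app]; rfl
  have q3 : (c * c * c * g) ^ 3 = 1 := by rw [← hQ, ← e3]; exact E (by simp [rl])
  have qu : (c * c * c * g * u) ^ 2 = 1 := by
    have := E (w := w2 (wQ ++ wU)) (by simp [rl])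
    rw [e2, ev_app, hQ] at this
    exact this
  have qs : Commute (c * c * c * g) s := by
    rw [← hQ]; exact ec _ _ (E (by simp [rl]))
  have zc : Commute z c := by rw [← hzz]; exact ec _ _ (E (by simp [rl]))
  have zs : Commute z s := by rw [← hzz]; exact ec _ _ (E (by simp [rl]))
  have zu : Commute z u := by rw [← hzz]; exact ec _ _ (E (by simp [rl]))
  have tc : Commute t c := by rw [← htt]; exact ec _ _ (E (by simp [rl]))
  have ts : Commute t s := by rw [← htt]; exact ec _ _ (E (by simp [rl]))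
  have tu : Commute t u := by rw [← htt]; exact ec _ _ (E (by simp [rl]))
  have x03 : x0 ^ 3 = 1 := by rw [hx0, ← e3]; exact E (by simp [rl])
  have x13 : x1 ^ 3 = 1 := by rw [hx1, ← e3]; exact E (by simp [rl])
  have v3 : v ^ 3 = 1 := by rw [hv, ← e3]; exact E (by simp [rl])
  have x01 : (x0 * x1) ^ 2 = 1 := by rw [hx0, hx1, ← ev_app, ← e2]; exact E (by simp [rl])
  have x0v : (x0 * v) ^ 2 = 1 := by rw [hx0, hv, ← ev_app, ← e2]; exact E (by simp [rl])
  have x1v : (x1 * v) ^ 2 = 1 := by rw [hx1, hv, ← ev_app, ← e2]; exact E (by simp [rl])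
  have x0g : Commute x0 g := ec _ _ (E (by simp [rl]))
  have x1g : Commute x1 g := ec _ _ (E (by simp [rl]))
  have R : (v * g * v * g⁻¹) ^ 2 = 1 := by
    have := E (w := w2 (wV ++ wG ++ wV ++ wi wG)) (by simp [rl])
    rw [e2] at this
    simp only [ev_app, ev_wi hz] at this
    exact this
  -- everything in `z`, `t` commutes with `c`, `s`, `u`
  have hv' : v = z * t := by simp [hv, ev, wV, lv]
  have hx0' : x0 = t * z * t⁻¹ * t⁻¹ * z := by simp [hx0, ev, w0, lv, mul_assoc]
  have hx1' : x1 = t * t * z * t⁻¹ := by simp [hx1, ev, w1, lv, mul_assoc]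
  have gen : ∀ b : G, Commute z b → Commute t b → Commute v b ∧ Commute x0 b ∧ Commute x1 b := by
    intro b h1 h2
    refine ⟨?_, ?_, ?_⟩
    · rw [hv']; exact h1.mul_left h2
    · rw [hx0']
      exact (((h2.mul_left h1).mul_left h2.inv_left).mul_left h2.inv_left).mul_left h1
    · rw [hx1']
      exact ((h2.mul_left h2).mul_left h1).mul_left h2.inv_left
  obtain ⟨vc, x0c, x1c⟩ := gen c zc tc
  obtain ⟨vs, x0s, x1s⟩ := gen s zs ts
  obtain ⟨vu, x0u, x1u⟩ := gen u zu tu
  let A : ℕ → G := fun k => (s ^ k)⁻¹ * u * s ^ k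
  let q : ℕ → G := fun i => if i < 5 then A i else c * c * c * g
  have hq5 : q 5 = c * c * c * g := by simp [q]
  have hqi : ∀ i < 5, q i = A i := by intro i hi; simp [q, hi]
  have hA : ∀ w : G, Commute w s → Commute w u → ∀ k, Commute w (A k) := by
    intro w h1 h2 k
    exact (((h1.pow_right k).inv_right).mul_right h2).mul_right (h1.pow_right k)
  -- squares of products
  have k1 : (u * A 1) ^ 2 = 1 := by
    have : A 1 = s⁻¹ * u * s := by simp [A]
    rw [this]; exact us1
  have k2 : (u * A 2) ^ 2 = 1 := by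
    have : A 2 = s⁻¹ * s⁻¹ * u * s * s := by
      show (s ^ 2)⁻¹ * u * s ^ 2 = _
      rw [sq]; simp [mul_assoc]
    rw [this]; exact us2
  have cj : ∀ (a w : G), w ^ 2 = 1 → (a⁻¹ * w * a) ^ 2 = 1 := by
    intro a w hw
    rw [conj2, hw]; simp
  have k3 : (u * A 3) ^ 2 = 1 := by
    have h1 := cj (s ^ 3) _ (sq_swap k2)
    have h2 : (s ^ 3)⁻¹ * (A 2 * u) * s ^ 3 = u * A 3 := by
      have h3 : A 2 = s ^ 3 * u * (s ^ 3)⁻¹ := by
        have h4 : (s ^ 2)⁻¹ = s ^ 3 := by
          rw [inv_eq_iff_mul_eq_one, ← pow_add]; exact s5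
        have h5 : s ^ 2 = (s ^ 3)⁻¹ := by rw [← h4, inv_inv]
        show (s ^ 2)⁻¹ * u * s ^ 2 = _
        rw [h4, h5]
      rw [h3]
      show (s ^ 3)⁻¹ * (s ^ 3 * u * (s ^ 3)⁻¹ * u) * s ^ 3 = u * ((s ^ 3)⁻¹ * u * s ^ 3)
      group
    rw [← h2]; exact h1
  have k4 : (u * A 4) ^ 2 = 1 := by
    have h1 := cj (s ^ 4) _ (sq_swap k1)
    have h2 : (s ^ 4)⁻¹ * (A 1 * u) * s ^ 4 = u * A 4 := by
      have h3 : A 1 = s ^ 4 * u * (s ^ 4)⁻¹ := by
        have h4 : (s ^ 1)⁻¹ = s ^ 4 := by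
          rw [inv_eq_iff_mul_eq_one, ← pow_add]; exact s5
        have h5 : s ^ 1 = (s ^ 4)⁻¹ := by rw [← h4, inv_inv]
        show (s ^ 1)⁻¹ * u * s ^ 1 = _
        rw [h4, h5]
      rw [h3]
      show (s ^ 4)⁻¹ * (s ^ 4 * u * (s ^ 4)⁻¹ * u) * s ^ 4 = u * ((s ^ 4)⁻¹ * u * s ^ 4)
      group
    rw [← h2]; exact h1
  have kk : ∀ k, 0 < k → k < 5 → (u * A k) ^ 2 = 1 := by
    intro k h0 h5
    interval_cases k
    · exact k1
    · exact k2
    · exact k3
    · exact k4
  have hlt : ∀ i j, i < j → j < 5 → (A i * A j) ^ 2 = 1 := by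
    intro i j hij hj
    have h1 := cj (s ^ i) _ (kk (j - i) (by omega) (by omega))
    have h2 : (s ^ i)⁻¹ * (u * A (j - i)) * s ^ i = A i * A j := by
      have h3 : s ^ j = s ^ (j - i) * s ^ i := by rw [← pow_add]; congr 1; omega
      show (s ^ i)⁻¹ * (u * ((s ^ (j - i))⁻¹ * u * s ^ (j - i))) * s ^ i =
        (s ^ i)⁻¹ * u * s ^ i * ((s ^ j)⁻¹ * u * s ^ j)
      rw [h3, mul_inv_rev]; group
    rw [← h2]; exact h1
  have h5i : ∀ i, (c * c * c * g * A i) ^ 2 = 1 := by
    intro i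
    have h1 := cj (s ^ i) _ qu
    have h2 : (s ^ i)⁻¹ * (c * c * c * g * u) * s ^ i = c * c * c * g * A i := by
      have h3 : (s ^ i)⁻¹ * (c * c * c * g) = c * c * c * g * (s ^ i)⁻¹ :=
        ((qs.pow_right i).inv_right).eq.symm
      calc (s ^ i)⁻¹ * (c * c * c * g * u) * s ^ i = (s ^ i)⁻¹ * (c * c * c * g) * u * s ^ i := by group
        _ = c * c * c * g * (s ^ i)⁻¹ * u * s ^ i := by rw [h3]
        _ = _ := by show _ = c * c * c * g * ((s ^ i)⁻¹ * u * s ^ i); group
    rw [← h2]; exact h1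
  have hrel : Rel q 6 := by
    constructor
    · intro i hi
      by_cases h5 : i < 5
      · rw [hqi i h5]
        have : A i ^ 3 = (s ^ i)⁻¹ * u ^ 3 * s ^ i := conj3 _ _
        rw [this, u3]; simp
      · have : i = 5 := by omega
        subst this
        rw [hq5]; exact q3
    · intro i hi j hj hij
      by_cases hi5 : i < 5
      · by_cases hj5 : j < 5
        · rw [hqi i hi5, hqi j hj5]
          rcases Nat.lt_or_gt_of_ne hij with h | h
          · exact hlt i j h hj5
          · exact sq_swap (hlt j i h hi5)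
        · have : j = 5 := by omega
          subst this
          rw [hq5, hqi i hi5]
          exact sq_swap (h5i i)
      · have : i = 5 := by omega
        subst this
        have hj5 : j < 5 := by omega
        rw [hq5, hqi j hj5]
        exact h5i j
  have hw0 : ∀ w : G, Commute w c → Commute w s → Commute w u → Commute w g → ∀ i < 6, Commute w (q i) := by
    intro w h1 h2 h3 h4 i hi
    by_cases h5 : i < 5
    · rw [hqi i h5]; exact hA w h2 h3 i
    · have : i = 5 := by omega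
      subst this
      rw [hq5]
      exact ((h1.mul_right h1).mul_right h1).mul_right h4
  obtain ⟨φ, hφ⟩ := exists_alt12 q hrel x0 x1 v x03 x13 v3 x01 x0v x1v (hw0 x0 x0c x0s x0u x0g)
    (hw0 x1 x1c x1s x1u x1g) (fun i hi => by rw [hqi i hi]; exact hA v vs vu i) (by
      rw [hq5]
      have h1 : v * (c * c * c * g * v * (c * c * c * g)⁻¹) = (c * c * c) * (v * g * v * g⁻¹) * (c * c * c)⁻¹ := by
        have h2 : Commute v (c * c * c) := (vc.mul_right vc).mul_right vc
        calc v * (c * c * c * g * v * (c * c * c * g)⁻¹) = v * (c * c * c) * g * v * g⁻¹ * (c * c * c)⁻¹ := by group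
          _ = (c * c * c) * v * g * v * g⁻¹ * (c * c * c)⁻¹ := by rw [h2.eq]
          _ = _ := by group
      rw [h1, conj_pow, R, mul_one, mul_inv_cancel])
  exact ⟨φ, hφ⟩

end H10.HNAlt
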