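import Mathlib
import Cfsg.Agent.Lib.H2.HN.Rho

set_option autoImplicit false
set_option maxRecDepth 100000
set_option linter.all false

/-!
In `2.HS.2` (the group `P`) an involution commuting with an element of order eleven is central.
-/

namespace H10.HNEleven

open H2.HN H40.PermCode H35.Stem
open H64.HSG (X g code codei G φ XS eX E100)
open Subgroup (zpowers closure)
open scoped Pointwise

/-- the word of order eleven -/
def wa : W (Fin 3) := [(0, true), (1, true), (1, true), (1, true), (2, true), (1, true), (2, true)]
/-- its permutation -/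
def CA : ℕ := 0xaf555a46a588e1647e7ac31107061a159d35e962ad01226df970f1ce7e124bc433255d84dc9405c1ccb4b69af477c82d626c400bb182cf58a97019c6342b46a2f5829716518a2f8141d049d5392b05d52106c7931288a1a
/-- the rows of the graph of valency 22 -/
def RM : ℕ := 0x4004080302004088a038a6470000000020228e00000018b180810c6c0000000020000000c71232805680060b0000000000010840486a101821841b060000000002040408210120242a944f400000000800004480900aa85049c0412800000006004000c9000181082978119000000000010018081030822381985209000000000000809228110410f0c95402000000000000023c0228b80cb0c000c10000000080089001040c1000c16210af0000000010200011808530180444257200000000005002021402040d0cd41425000000002080000020ac60529002ca4a0000000401002102014a80047822d20100000000008105210011b1b0e10222000000000002020062804180db1c880240000000088000224000b291111443101800000004000840040032640023566013000000010010a008800448011a684459000000040a01000012a2a34c0410a30000000000400201080c85130d90201e000000000000250084040126ca819008a2000000001200038040026d9838008c100000000d10000020240525445e42008000000004c01000104064060a140890930000000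404841000884502404328630200000000003050402220004006d901ce0000000068003020006410250606224500000001200c011010042e24c000e4210000000004180880018202000031dd3a000000000d000440040241c10b320a0c00000000b4014002004204d04403a0260000000004022001700401304c08970c0000000808a8000840243b2003000998000000082310000408620e4512814800000000024109020020200524a013988400000003000014060081804580736060000000008840090480429a8901202031000000005080804401411080322308d200000001080042010100a0a20c1280f90000000202806810006088302009e1500000000a040081000045043309065830000000028020002018244d5981482004000000000144c02040400ca06b88008500000001002806893690610080500408000000011446858385010080482004200000000218160000004c084c082089e40000000146600000001107a1061924100000000003414ec603128080209100000000000340a6903920050022800800c000000000a9186a00522a48000000800d00000000743c80006c04440002040c06000000080043101001419224448111a000000002c552b84208400001002910040000000707144082300044420818c000000000044401104325910002041612020000000008823c498388900000200348000000021000e6632008401028460044000000002014d816814800020084406300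00000e0018301838ac000400445100000000004048ab19411010202004141100000004901000c68e8a40481060000200000005495c100c0700020402300081000000092588f40021100020420340080000000084a0c8c1c01040920108001a00000000104824000a0219046261250400000004108d409163082000600081820000000c1e506040c14200000e040110000000024a300a4c00a0400b0014085000000009ac3210009484024304000028000000020c6d5c01100000200114212400000000e0a918140ab012008001200200000002018c8d8c08084800a12048000000000280030b931088801a800090200000000172122212238000041401844000000007dc882101008441000022a010000000006f870900414002a200008a000000000822214230703024320484000000000008b082a130c84c1810500000000000000838090704058a300400060820000000018182008002008bc0d02980880000000002760898da000a08008805000000000408040129d40c600a09040201000000080060946c8c11100103c4000000000000d8630261460011880400008400000008011282c86508000218801888000000013aa44424820068c002002040000000058040703392108000444820010000000e8981506400688042010200800000000b9078c29400000c00004100b000000001e100832604104483900200010000000026002d0298924011000466000000000c854901805c1207004100100000000004438020686a3041003208020000000000210714223e080044c080020400000006524501360841040c200420000000000d0280019c8191a202100040100000000b0b42272810008925080000000000000a16a304c02881015000010900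
/-- the masks of the cycles -/
def MS : List ℕ := [39614145011394819220528168961, 633980203806675091555817096194, 163412920888966678015165628836, 1337713274899010683400, 9903520408318203518209622032, 2497640743327201884037449792, 396488983207514834568772603904, 88554111434681303496204288, 21664630712880112932038377472]

/-- adjacency -/
noncomputable def adj (i j : ℕ) : Bool := Nat.testBit (tab 128 RM i) j

theorem okA : eqc 7 100 CA (evc 7 100 c3 i3 wa) = true := by decide +kernel
theorem invX : allN (fun i => allN (fun j => adj (tab 7 CX i) (tab 7 CX j) == adj i j) 100) 100 = true := by decide +kernel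
theorem invY : allN (fun i => allN (fun j => adj (tab 7 CY i) (tab 7 CY j) == adj i j) 100) 100 = true := by decide +kernel
theorem invZ : allN (fun i => allN (fun j => adj (tab 7 CZ i) (tab 7 CZ j) == adj i j) 100) 100 = true := by decide +kernel
theorem fixA : allN (fun i => !(Nat.beq (tab 7 CA i) i) || Nat.beq i 52) 100 = true := by decide +kernel
theorem fixA' : tab 7 CA 52 = 52 := by decide +kernel

/-- one refinement step -/
noncomputable def rf (F : ℕ) : ℕ :=
  Nat.rec (motive := fun _ => ℕ) 0 (fun q acc => acc ||| (cond
    (allN (fun r => Nat.beq q r || !(Nat.beq (tab 128 RM q &&& F) (tab 128 RM r &&& F))) 100) (1 <<< q) 0)) 100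

/-- orbit mask -/
def om : ℕ → ℕ → ℕ → ℕ
  | 0, _, F => F
  | k + 1, i, F => om k (tab 7 CA i) (F ||| (1 <<< i))

theorem msk : allN (fun q => Nat.beq q 52 || MS.contains (om 11 q 0)) 100 = true := by decide +kernel
theorem cls : (MS.all fun M => Nat.beq (rf (rf (M ||| (1 <<< 52)))) (2 ^ 100 - 1)) = true := by decide +kernel

theorem wa11 : rck (wa ++ wa ++ wa ++ wa ++ wa ++ wa ++ wa ++ wa ++ wa ++ wa ++ wa) = true := by decide +kernel

/-- the stabiliser of the graph -/
def St : Subgroup (Equiv.Perm XS) where
  carrier := {σ | ∀ p q, adj (E100.idx (σ p)) (E100.idx (σ q)) = adj (E100.idx p) (E100.idx q)}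
  one_mem' := fun _ _ => rfl
  mul_mem' := fun {a b} ha hb p q => (ha (b p) (b q)).trans (hb p q)
  inv_mem' := fun {a} ha p q => by
    have h := ha (a⁻¹ p) (a⁻¹ q)
    have e : ∀ p, a (a⁻¹ p) = p := fun p => Equiv.apply_symm_apply a p
    rw [e, e] at h
    exact h.symm

theorem sh_bit {n q : ℕ} (h : (1 <<< n).testBit q = true) : q = n := by
  rw [Nat.one_shiftLeft, Nat.testBit_two_pow, decide_eq_true_eq] at h
  exact h.symm

instance : Fact (Nat.Prime 11) := ⟨by norm_num⟩

theorem mem_St {σ : Equiv.Perm XS} {C : ℕ} (hr : Rep E100 7 σ C)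
    (h : allN (fun i => allN (fun j => adj (tab 7 C i) (tab 7 C j) == adj i j) 100) 100 = true) : σ ∈ St := by
  intro p q
  rw [hr p, hr q]
  have h1 := (allN_iff _ _).1 h _ (E100.idx_lt p)
  have h2 := (allN_iff _ _).1 h1 _ (E100.idx_lt q)
  exact eq_of_beq h2

theorem ψ_mem (p : P) : ψ p ∈ St := by
  have h : (⊤ : Subgroup P) ≤ St.comap ψ := by
    rw [← closureP, Subgroup.closure_le]
    rintro _ (rfl | rfl | rfl)
    · show ψ px ∈ St
      rw [ψ_x]; exact mem_St rep_gx invX
    · show ψ py ∈ St
      rw [ψ_y]; exact mem_St rep_gy invY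
    · show ψ pz ∈ St
      rw [ψ_z]; exact mem_St rep_sz invZ
  exact h trivial

/-- `σ` fixes the points of a mask -/
def Fx (σ : Equiv.Perm XS) (F : ℕ) : Prop := ∀ p, F.testBit (E100.idx p) = true → σ p = p

theorem rf_bit (F q : ℕ) : (rf F).testBit q = true → q < 100 ∧
    allN (fun r => Nat.beq q r || !(Nat.beq (tab 128 RM q &&& F) (tab 128 RM r &&& F))) 100 = true := by
  unfold rf
  have key : ∀ n : ℕ, (Nat.rec (motive := fun _ => ℕ) 0 (fun q acc => acc ||| (cond
    (allN (fun r => Nat.beq q r || !(Nat.beq (tab 128 RM q &&& F) (tab 128 RM r &&& F))) 100) (1 <<< q) 0)) n : ℕ).testBit q = true →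
    q < n ∧ allN (fun r => Nat.beq q r || !(Nat.beq (tab 128 RM q &&& F) (tab 128 RM r &&& F))) 100 = true := by
    intro n
    induction n with
    | zero => intro h; simp at h
    | succ n ih =>
      intro h
      have h1 : ((Nat.rec (motive := fun _ => ℕ) 0 (fun q acc => acc ||| (cond
        (allN (fun r => Nat.beq q r || !(Nat.beq (tab 128 RM q &&& F) (tab 128 RM r &&& F))) 100) (1 <<< q) 0)) n : ℕ) |||
        (cond (allN (fun r => Nat.beq n r || !(Nat.beq (tab 128 RM n &&& F) (tab 128 RM r &&& F))) 100) (1 <<< n) 0)).testBit q = true := h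
      rw [Nat.testBit_or, Bool.or_eq_true] at h1
      rcases h1 with h1 | h1
      · exact ⟨(ih h1).1.trans (Nat.lt_succ_self n), (ih h1).2⟩
      · cases hb : allN (fun r => Nat.beq n r || !(Nat.beq (tab 128 RM n &&& F) (tab 128 RM r &&& F))) 100 with
        | false => rw [hb] at h1; simp at h1
        | true =>
          rw [hb] at h1
          have h2 : q = n := sh_bit h1
          subst h2
          exact ⟨Nat.lt_succ_self _, hb⟩
  exact key 100

theorem tab128_lt (i j : ℕ) (hj : 128 ≤ j) : (tab 128 RM i).testBit j = false :=
  Nat.testBit_lt_two_pow ((tab_lt 128 RM i).trans_le (Nat.pow_le_pow_right (by norm_num) hj))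

theorem rf_fix {σ : Equiv.Perm XS} (hσ : σ ∈ St) {F : ℕ} (hF100 : F < 2 ^ 100) (hF : Fx σ F) : Fx σ (rf F) := by
  intro p hp
  obtain ⟨-, h1⟩ := rf_bit F _ hp
  have h2 := (allN_iff _ _).1 h1 _ (E100.idx_lt (σ p))
  rw [Bool.or_eq_true, Nat.beq_eq] at h2
  rcases h2 with h2 | h2
  · exact (E100.idx_injective h2).symm
  · exfalso
    have h3 : tab 128 RM (E100.idx p) &&& F = tab 128 RM (E100.idx (σ p)) &&& F := by
      apply Nat.eq_of_testBit_eq
      intro j
      rw [Nat.testBit_and, Nat.testBit_and]
      cases hj : F.testBit j with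
      | false => rw [Bool.and_false, Bool.and_false]
      | true =>
        have hj100 : j < 100 := by
          by_contra hcon
          have := Nat.testBit_lt_two_pow (hF100.trans_le (Nat.pow_le_pow_right (n := 2) (by norm_num) (not_lt.1 hcon)))
          rw [hj] at this
          exact absurd this (by decide)
        have hq : E100.idx (eX ⟨j, hj100⟩) = j := by
          show (eX.symm (eX _)).1 = _
          rw [Equiv.symm_apply_apply]
        have h4 := hF (eX ⟨j, hj100⟩) (by rw [hq]; exact hj)
        have h5 := hσ p (eX ⟨j, hj100⟩)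
        rw [h4, hq] at h5
        rw [Bool.and_true, Bool.and_true]
        exact h5.symm
    rw [h3, Nat.beq_refl] at h2
    exact absurd h2 (by decide)

theorem rf_lt (F : ℕ) : rf F < 2 ^ 100 := by
  apply Nat.lt_pow_two_of_testBit
  intro i hi
  cases h : (rf F).testBit i with
  | false => rfl
  | true => exact absurd (rf_bit F i h).1 (by omega)

/-- the element of order eleven -/
noncomputable def pa : P := ev pg wa

theorem rep_A : Rep E100 7 (ψ pa) CA := by
  have h1 : ψ pa = ev p3 wa := by
    unfold pa
    rw [ev_hom ψ pg]
    congr 1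
    funext i
    fin_cases i
    · exact ψ_x
    · exact ψ_y
    · exact ψ_z
  rw [h1]
  intro p
  rw [rep_evc (by norm_num) rep3 rep3i wa p]
  exact ((eqc_iff.1 okA) _ (E100.idx_lt p)).symm

theorem om_fix {σ : Equiv.Perm XS} (hc : σ * ψ pa = ψ pa * σ) (k : ℕ) : ∀ (p : XS) (F : ℕ), Fx σ F → σ p = p →
    Fx σ (om k (E100.idx p) F) := by
  induction k with
  | zero => intro p F hF _; exact hF
  | succ k ih =>
    intro p F hF hp
    have h1 : E100.idx (ψ pa p) = tab 7 CA (E100.idx p) := rep_A p
    have h2 := ih (ψ pa p) (F ||| (1 <<< E100.idx p)) ?_ ?_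
    · rw [h1] at h2; exact h2
    · intro q hq
      rw [Nat.testBit_or, Bool.or_eq_true] at hq
      rcases hq with hq | hq
      · exact hF q hq
      · have : E100.idx q = E100.idx p := sh_bit hq
        rw [E100.idx_injective this]
        exact hp
    · have h3 : (σ * ψ pa) p = (ψ pa * σ) p := by rw [hc]
      rw [Equiv.Perm.mul_apply, Equiv.Perm.mul_apply, hp] at h3
      exact h3

/-- an involution of the image commuting with the element of order eleven is trivial -/
theorem perm_one {σ : Equiv.Perm XS} (hσ : σ ∈ St) (h2 : σ ^ 2 = 1) (hc : σ * ψ pa = ψ pa * σ) : σ = 1 := by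
  classical
  haveI : Fintype XS := Fintype.ofFinite XS
  set p0 : XS := eX ⟨52, by norm_num⟩ with hp0
  have hi0 : E100.idx p0 = 52 := by
    show (eX.symm (eX _)).1 = _
    rw [Equiv.symm_apply_apply]
  have huniq : ∀ p : XS, ψ pa p = p → p = p0 := by
    intro p hp
    have h1 := rep_A p
    rw [hp] at h1
    have h3 := (allN_iff _ _).1 fixA _ (E100.idx_lt p)
    rw [← h1, Nat.beq_refl] at h3
    apply E100.idx_injective
    rw [hi0]
    simpa using h3
  have hA0 : ψ pa p0 = p0 := by
    apply E100.idx_injective
    rw [rep_A p0, hi0, fixA']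
  have hs0 : σ p0 = p0 := by
    apply huniq
    have h3 : (σ * ψ pa) p0 = (ψ pa * σ) p0 := by rw [hc]
    rw [Equiv.Perm.mul_apply, Equiv.Perm.mul_apply, hA0] at h3
    exact h3.symm
  have hcard : Fintype.card XS = 100 := by rw [← Fintype.card_congr eX, Fintype.card_fin]
  haveI : Fact (Nat.Prime 2) := ⟨Nat.prime_two⟩
  obtain ⟨b, hb, hb0⟩ := Equiv.Perm.exists_fixed_point_of_prime' (p := 2) (n := 1) (by rw [hcard]; norm_num)
    (by rw [pow_one]; exact h2) hs0
  have hbi : E100.idx b ≠ 52 := fun h => hb0 (E100.idx_injective (h.trans hi0.symm))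
  have hm := (allN_iff _ _).1 msk _ (E100.idx_lt b)
  rw [Bool.or_eq_true, Nat.beq_eq] at hm
  have hm1 := hm.resolve_left hbi
  have hM : om 11 (E100.idx b) 0 ∈ MS := by simpa using hm1
  have hF0 : Fx σ (om 11 (E100.idx b) 0) := om_fix hc 11 b 0 (fun p hp => by simp at hp) hb
  set M := om 11 (E100.idx b) 0 with hMd
  have hlt : M ||| (1 <<< 52) < 2 ^ 100 := by
    have : ∀ M ∈ MS, M ||| (1 <<< 52) < 2 ^ 100 := by decide +kernel
    exact this M hM
  have hF1 : Fx σ (M ||| (1 <<< 52)) := by
    intro q hq
    rw [Nat.testBit_or, Bool.or_eq_true] at hq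
    rcases hq with hq | hq
    · exact hF0 q hq
    · have : E100.idx q = 52 := sh_bit hq
      rw [E100.idx_injective (this.trans hi0.symm)]
      exact hs0
  have hF2 := rf_fix hσ (rf_lt _) (rf_fix hσ hlt hF1)
  have hfin := List.all_eq_true.1 cls M hM
  rw [Nat.beq_eq] at hfin
  rw [hfin] at hF2
  ext p
  rw [hF2 p (by rw [Nat.testBit_two_pow_sub_one]; simpa using E100.idx_lt p)]
  rfl

theorem ker_ψ {v : P} (hv : ψ v = 1) : v = 1 ∨ v = px ^ 2 := by
  have hu1 : uK ≠ 1 := by
    intro h
    have : px ^ 2 = 1 := congrArg Subtype.val h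
    exact ρ_x2 (by rw [this, map_one])
  have hc2 := (card_K ρ ρ_x2).1
  have hK : v ∈ K := by
    rcases mem_or relP (g := v) (by rw [closureP]; trivial) with h1 | h1
    · exact h1
    · exfalso
      apply sz_not
      have h2 : ψ (v * pz⁻¹) ∈ φ.range := by
        rw [← map_K]; exact Subgroup.mem_map_of_mem ψ h1
      rw [map_mul, hv, one_mul, map_inv, ψ_z] at h2
      exact (Subgroup.inv_mem_iff _).1 h2
  have hk : (⟨v, hK⟩ : K) ∈ f.ker := f_eq_one.2 hv
  by_contra hcon
  push Not at hcon
  obtain ⟨w, _, hw⟩ := (Nat.card_eq_two_iff' (1 : f.ker)).1 hc2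
  have h1 := hw ⟨⟨v, hK⟩, hk⟩ (fun h => hcon.1 (congrArg Subtype.val (congrArg Subtype.val h)))
  have h2 := hw ⟨uK, f_uK⟩ (fun h => hu1 (congrArg Subtype.val h))
  exact hcon.2 (congrArg Subtype.val (congrArg Subtype.val (h1.trans h2.symm)))

theorem pa_pow : pa ^ 11 = 1 := by
  apply ρ_inj
  rw [map_one, map_pow]
  have h := rck_iff.1 wa11
  simp only [ev_append] at h
  have h1 : ρ pa = ev q3 wa := ρ_ev wa
  rw [h1]
  simp only [pow_succ, pow_zero, one_mul]
  exact h

theorem pa_ne : pa ≠ 1 := by
  intro h
  have h1 := rep_A (eX ⟨0, by norm_num⟩)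
  rw [h, map_one] at h1
  have h2 : E100.idx (eX ⟨0, by norm_num⟩) = 0 := by
    show (eX.symm (eX _)).1 = _
    rw [Equiv.symm_apply_apply]
  rw [Equiv.Perm.one_apply, h2] at h1
  exact absurd h1 (by decide +kernel)

theorem order_pa : orderOf pa = 11 := orderOf_eq_prime pa_pow pa_ne

/-- an involution commuting with the standard element of order eleven -/
theorem main0 {v : P} (hv : v ^ 2 = 1) (h : v * pa = pa * v) : v = 1 ∨ v = px ^ 2 := by
  apply ker_ψ
  apply perm_one (ψ_mem v)
  · rw [← map_pow, hv, map_one]
  · rw [← map_mul, h, map_mul]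

/-- **main theorem** -/
theorem main (a v : P) (ha : orderOf a = 11) (hv : v ^ 2 = 1) (h : v * a = a * v) : v = 1 ∨ v = px ^ 2 := by
  have hfac : (177408000 : ℕ) = 11 ^ 1 * 16128000 := by norm_num
  have hf1 : (Nat.card P).factorization 11 = 1 := by
    rw [card_P_eq, hfac, Nat.factorization_mul (by norm_num) (by norm_num), Nat.factorization_pow]
    have : (16128000 : ℕ).factorization 11 = 0 := Nat.factorization_eq_zero_of_not_dvd (by norm_num)
    simp [this, Nat.Prime.factorization_self (by norm_num : Nat.Prime 11)]
  let S0 : Sylow 11 P := Sylow.ofCard (zpowers pa) (by rw [Nat.card_zpowers, order_pa, hf1, pow_one])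
  let S1 : Sylow 11 P := Sylow.ofCard (zpowers a) (by rw [Nat.card_zpowers, ha, hf1, pow_one])
  obtain ⟨c, hc⟩ := MulAction.exists_smul_eq P S1 S0
  have hmem : c * a * c⁻¹ ∈ zpowers pa := by
    have h1 : ((c • S1 : Sylow 11 P) : Subgroup P) = zpowers pa := by rw [hc]; rfl
    rw [← h1]
    have h2 : MulAut.conj c • a ∈ MulAut.conj c • (S1 : Subgroup P) :=
      Subgroup.smul_mem_pointwise_smul _ _ _ (Subgroup.mem_zpowers a)
    exact h2
  have hord : orderOf (c * a * c⁻¹) = 11 := by
    rw [← ha]
    exact (MulAut.conj c).orderOf_eq a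
  have hgen : zpowers (c * a * c⁻¹) = zpowers pa := by
    apply Subgroup.eq_of_le_of_card_ge
    · rw [Subgroup.zpowers_le]; exact hmem
    · rw [Nat.card_zpowers, Nat.card_zpowers, hord, order_pa]
  have hpam : pa ∈ zpowers (c * a * c⁻¹) := by rw [hgen]; exact Subgroup.mem_zpowers _
  obtain ⟨k, hk⟩ := Subgroup.mem_zpowers_iff.1 hpam
  have hcomm : Commute (c * v * c⁻¹) pa := by
    rw [← hk]
    apply Commute.zpow_right
    show c * v * c⁻¹ * (c * a * c⁻¹) = c * a * c⁻¹ * (c * v * c⁻¹)
    calc c * v * c⁻¹ * (c * a * c⁻¹) = c * (v * a) * c⁻¹ := by group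
      _ = c * (a * v) * c⁻¹ := by rw [h]
      _ = _ := by group
  have hv2 : (c * v * c⁻¹) ^ 2 = 1 := by
    have : (c * v * c⁻¹) ^ 2 = c * v ^ 2 * c⁻¹ := by rw [pow_two, pow_two]; group
    rw [this, hv]; group
  rcases main0 hv2 hcomm.eq with h1 | h1
  · left
    have : v = c⁻¹ * (c * v * c⁻¹) * c := by group
    rw [this, h1]; group
  · right
    have hcu : Commute c (px ^ 2) := u_central c
    have : v = c⁻¹ * (c * v * c⁻¹) * c := by group
    rw [this, h1, mul_assoc, ← hcu.eq]; group

end H10.HNEleven
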