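import Cfsg.Agent.Lib.H10.NHN.Hom
import Cfsg.Agent.Lib.H10.NHN.Sub

/-!
# `⟨x, y, z⟩` is a maximal subgroup of the presented Harada–Norton group
-/

set_option autoImplicit false
set_option maxRecDepth 100000
set_option linter.all false

namespace H10.HNMax

open H35.TC H35.Net Cfsg.Spor
open H10.HNAlt (Lt)
open H10.NHN

/-- maximality from suborbits -/
theorem max_crit {G : Type} [Group G] {n : ℕ} (hn : 0 < n) (H C : Subgroup G) (φ : G →* Equiv.Perm ℕ)
    (hidx : H.index = n) (hmem : ∀ g, g ∈ H ↔ φ g 0 = 0) (hr : ∀ g, φ g 0 < n)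
    (r : ℕ) (O : Fin r → Finset ℕ) (q : Fin r → ℕ)
    (hO : ∀ i, ∀ b ∈ O i, ∃ h, φ h 0 = 0 ∧ φ h (q i) = b)
    (hcover : ∀ b, b < n → b = 0 ∨ ∃ i, b ∈ O i)
    (hsum : 1 + ∑ i, (O i).card = n)
    (hdiv : ∀ I : Finset (Fin r), (1 + ∑ i ∈ I, (O i).card) ∣ n → I = ∅ ∨ I = Finset.univ)
    (hHC : H ≤ C) : C = H ∨ C = ⊤ := by
  classical
  letI : MulAction C ℕ := MulAction.compHom ℕ (φ.comp C.subtype)
  have hact : ∀ (c : C) (b : ℕ), c • b = φ (c : G) b := fun _ _ => rfl
  have hst : MulAction.stabilizer C (0 : ℕ) = H.subgroupOf C := by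
    ext c
    rw [MulAction.mem_stabilizer_iff, Subgroup.mem_subgroupOf, hmem, hact]
  have hcard : (MulAction.orbit C (0 : ℕ)).ncard = H.relIndex C := by
    rw [← MulAction.index_stabilizer, hst]; rfl
  have hsub : MulAction.orbit C (0 : ℕ) ⊆ (Finset.range n : Set ℕ) := by
    rintro _ ⟨c, rfl⟩
    rw [Finset.coe_range]
    exact hr c
  have hfin : (MulAction.orbit C (0 : ℕ)).Finite := (Finset.finite_toSet _).subset hsub
  let F : Finset ℕ := hfin.toFinset
  have hF : ∀ b, b ∈ F ↔ ∃ c ∈ C, φ c 0 = b := by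
    intro b
    rw [Set.Finite.mem_toFinset]
    constructor
    · rintro ⟨c, rfl⟩; exact ⟨c, c.2, rfl⟩
    · rintro ⟨c, hc, rfl⟩; exact ⟨⟨c, hc⟩, rfl⟩
  have hFcard : F.card = H.relIndex C := by
    rw [← hcard, ← Set.ncard_coe_finset, Set.Finite.coe_toFinset]
  have hmul := Subgroup.relIndex_mul_index hHC
  rw [hidx] at hmul
  have hinv : ∀ h : G, φ h 0 = 0 → ∀ b, b ∈ F → φ h b ∈ F := by
    intro h hh b hb
    obtain ⟨c, hc, rfl⟩ := (hF b).1 hb
    rw [hF]
    exact ⟨h * c, mul_mem (hHC ((hmem h).2 hh)) hc, by rw [map_mul]; rfl⟩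
  let I : Finset (Fin r) := Finset.univ.filter (fun i => ∃ b ∈ O i, b ∈ F)
  have hOF : ∀ i ∈ I, O i ⊆ F := by
    intro i hi b hb
    obtain ⟨c, hc, hcF⟩ := (Finset.mem_filter.1 hi).2
    obtain ⟨h1, h10, h1c⟩ := hO i c hc
    obtain ⟨h2, h20, h2b⟩ := hO i b hb
    have := hinv (h2 * h1⁻¹) (by
      rw [map_mul, map_inv, Equiv.Perm.mul_apply]
      have : (φ h1)⁻¹ 0 = 0 := by rw [Equiv.Perm.inv_eq_iff_eq]; exact h10.symm
      rw [this, h20]) c hcF
    rw [map_mul, map_inv, Equiv.Perm.mul_apply] at this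
    have h3 : (φ h1)⁻¹ c = q i := by rw [Equiv.Perm.inv_eq_iff_eq]; exact h1c.symm
    rwa [h3, h2b] at this
  have hF0 : (0 : ℕ) ∈ F := (hF 0).2 ⟨1, one_mem _, by rw [map_one]; rfl⟩
  have hFn : F ⊆ Finset.range n := by
    intro b hb
    obtain ⟨c, hc, rfl⟩ := (hF b).1 hb
    exact Finset.mem_range.2 (hr c)
  have hFle : F.card ≤ 1 + ∑ i ∈ I, (O i).card := by
    have hsub : F ⊆ {0} ∪ I.biUnion O := by
      intro b hb
      have hbn := Finset.mem_range.1 (hFn hb)
      rcases hcover b hbn with rfl | ⟨i, hi⟩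
      · simp
      · refine Finset.mem_union_right _ (Finset.mem_biUnion.2 ⟨i, ?_, hi⟩)
        exact Finset.mem_filter.2 ⟨Finset.mem_univ _, b, hi, hb⟩
    refine (Finset.card_le_card hsub).trans ((Finset.card_union_le _ _).trans ?_)
    rw [Finset.card_singleton]
    exact Nat.add_le_add_left Finset.card_biUnion_le 1
  have hCle : (Finset.range n \ F).card ≤ ∑ i ∈ Iᶜ, (O i).card := by
    have hsub : Finset.range n \ F ⊆ Iᶜ.biUnion O := by
      intro b hb
      rw [Finset.mem_sdiff, Finset.mem_range] at hb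
      rcases hcover b hb.1 with rfl | ⟨i, hi⟩
      · exact absurd hF0 hb.2
      · refine Finset.mem_biUnion.2 ⟨i, ?_, hi⟩
        rw [Finset.mem_compl]
        intro hiI
        exact hb.2 (hOF i hiI hi)
    exact (Finset.card_le_card hsub).trans Finset.card_biUnion_le
  have hFC : F.card + (Finset.range n \ F).card = n := by
    rw [Finset.card_sdiff_of_subset hFn, Finset.card_range]
    have := Finset.card_le_card hFn
    rw [Finset.card_range] at this
    omega
  have hII : ∑ i ∈ I, (O i).card + ∑ i ∈ Iᶜ, (O i).card = ∑ i, (O i).card := Finset.sum_add_sum_compl I _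
  have hFe : F.card = 1 + ∑ i ∈ I, (O i).card := by omega
  have hd : (1 + ∑ i ∈ I, (O i).card) ∣ n := by
    rw [← hFe, hFcard]; exact ⟨_, hmul.symm⟩
  rcases hdiv I hd with hI | hI
  · left
    rw [hI] at hFe
    have hF1 : F.card = 1 := by simpa using hFe
    rw [hFcard] at hF1
    exact le_antisymm (Subgroup.relIndex_eq_one.1 hF1) hHC
  · right
    rw [hI, hsum, hFcard] at hFe
    rw [hFe] at hmul
    exact Subgroup.index_eq_one.1 (Nat.eq_of_mul_eq_mul_left hn (by rw [hmul, mul_one]))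

/-- the same with networks -/
theorem max_of_net {G : Type} [Group G] {k n : ℕ} (hn : 0 < n) (H C : Subgroup G) (φ : G →* Equiv.Perm ℕ)
    (hidx : H.index = n) (hmem : ∀ g, g ∈ H ↔ φ g 0 = 0) (hr : ∀ g, φ g 0 < n) (hnk : n ≤ 2 ^ k)
    (r : ℕ) (O q sz : Fin r → ℕ)
    (hO : ∀ i, ∀ b, (O i).testBit b = true → ∃ h, φ h 0 = 0 ∧ φ h (q i) = b)
    (hOk : ∀ i, popc k (O i) = sz i)
    (hcover : ∀ b, b < n → b = 0 ∨ ∃ i, (O i).testBit b = true)
    (hsum : 1 + ∑ i, sz i = n)
    (hdiv : ∀ I : Finset (Fin r), (1 + ∑ i ∈ I, sz i) ∣ n → I = ∅ ∨ I = Finset.univ)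
    (hHC : H ≤ C) : C = H ∨ C = ⊤ := by
  have hc : ∀ i, ((Finset.range (2 ^ k)).filter (fun b => (O i).testBit b = true)).card = sz i := by
    intro i
    rw [popc_spec, hOk]
  refine max_crit hn H C φ hidx hmem hr r
    (fun i => (Finset.range (2 ^ k)).filter (fun b => (O i).testBit b = true)) q ?_ ?_ ?_ ?_ hHC
  · intro i b hb
    exact hO i b (Finset.mem_filter.1 hb).2
  · intro b hb
    rcases hcover b hb with h | ⟨i, hi⟩
    · exact Or.inl h
    · exact Or.inr ⟨i, Finset.mem_filter.2 ⟨Finset.mem_range.2 (by omega), hi⟩⟩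
  · simp only [hc]; exact hsum
  · intro I; simp only [hc]; exact hdiv I

/-- suborbits -/
noncomputable def OO : Fin 8 → ℕ := ![O_0, O_1, O_2, O_3, O_4, O_5, O_6, O_7]
/-- base points -/
def qq : Fin 8 → ℕ := ![1, 116, 97104, 8, 357, 93979, 627, 2121]
/-- lengths -/
def szs : Fin 8 → ℕ := ![1408, 2200, 5775, 35200, 123200, 277200, 354816, 739200]

theorem OO_card : ∀ i, popc 21 (OO i) = szs i := by
  intro i
  fin_cases i
  · exact O_0_card
  · exact O_1_card
  · exact O_2_card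
  · exact O_3_card
  · exact O_4_card
  · exact O_5_card
  · exact O_6_card
  · exact O_7_card

/-- the image of `NW` -/
noncomputable abbrev Γ0 : Subgroup (Equiv.Perm ℕ) := NW.map ρ

theorem lt_mem {l : Lt} (h : l ≠ .t) (h' : l ≠ .T) : lt l ∈ NW := by
  rw [NW_eq]
  have hx : gP .x ∈ Subgroup.closure {gP .x, gP .y, gP .z} := Subgroup.subset_closure (Or.inl rfl)
  have hy : gP .y ∈ Subgroup.closure {gP .x, gP .y, gP .z} := Subgroup.subset_closure (Or.inr (Or.inl rfl))
  have hz : gP .z ∈ Subgroup.closure {gP .x, gP .y, gP .z} := Subgroup.subset_closure (Or.inr (Or.inr rfl))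
  cases l
  · exact hx
  · exact inv_mem hx
  · exact hy
  · exact inv_mem hy
  · exact hz
  · exact absurd rfl h
  · exact absurd rfl h'

theorem word_mem {w : List Lt} (h : (w.all fun l => (l != .t) && (l != .T)) = true) : (w.map π).prod ∈ Γ0 := by
  apply Subgroup.list_prod_mem
  intro g hg
  obtain ⟨l, hl, rfl⟩ := List.mem_map.1 hg
  have h1 := List.all_eq_true.1 h l hl
  rw [Bool.and_eq_true] at h1
  exact ⟨lt l, lt_mem (by simpa using h1.1) (by simpa using h1.2), ρ_lt l⟩

theorem words_mem {os : List (List Lt)} (h : (os.all fun w => w.all fun l => (l != .t) && (l != .T)) = true) :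
    ∀ w ∈ os, (w.map π).prod ∈ Γ0 := fun w hw => word_mem (List.all_eq_true.1 h w hw)

theorem OO_orb : ∀ i, ∀ b, (OO i).testBit b = true → ∃ h, ρ h 0 = 0 ∧ ρ h (qq i) = b := by
  have key : ∀ {b q : ℕ}, (∃ g ∈ Γ0, g q = b) → ∃ h, ρ h 0 = 0 ∧ ρ h q = b := by
    rintro b q ⟨_, ⟨h, hh, rfl⟩, hb⟩
    exact ⟨h, NW_fix h hh, hb⟩
  intro i
  fin_cases i
  · exact fun b hb => key (O_0_orb (Γ := Γ0) (words_mem (by decide)) b hb)
  · exact fun b hb => key (O_1_orb (Γ := Γ0) (words_mem (by decide)) b hb)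
  · exact fun b hb => key (O_2_orb (Γ := Γ0) (words_mem (by decide)) b hb)
  · exact fun b hb => key (O_3_orb (Γ := Γ0) (words_mem (by decide)) b hb)
  · exact fun b hb => key (O_4_orb (Γ := Γ0) (words_mem (by decide)) b hb)
  · exact fun b hb => key (O_5_orb (Γ := Γ0) (words_mem (by decide)) b hb)
  · exact fun b hb => key (O_6_orb (Γ := Γ0) (words_mem (by decide)) b hb)
  · exact fun b hb => key (O_7_orb (Γ := Γ0) (words_mem (by decide)) b hb)

theorem OO_cover : ∀ b, b < 1539000 → b = 0 ∨ ∃ i, (OO i).testBit b = true := by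
  intro b hb
  rcases bit_lor (bit_of_full O_union hb) with h | h
  · rcases bit_lor h with h | h
    · rcases bit_lor h with h | h
      · rcases bit_lor h with h | h
        · rcases bit_lor h with h | h
          · rcases bit_lor h with h | h
            · rcases bit_lor h with h | h
              · rcases bit_lor h with h | h
                · exact Or.inl (bit_one h)
                · exact Or.inr ⟨0, h⟩
              · exact Or.inr ⟨1, h⟩
            · exact Or.inr ⟨2, h⟩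
          · exact Or.inr ⟨3, h⟩
        · exact Or.inr ⟨4, h⟩
      · exact Or.inr ⟨5, h⟩
    · exact Or.inr ⟨6, h⟩
  · exact Or.inr ⟨7, h⟩

theorem hdiv : ∀ I : Finset (Fin 8), (1 + ∑ i ∈ I, szs i) ∣ 1539000 → I = ∅ ∨ I = Finset.univ := by
  decide +kernel

/-- all points of the orbit of `0` are `< 1539000` -/
theorem ρ_lt_n : ∀ (g : HN) (b : ℕ), ρ g b < 1539000 ↔ b < 1539000 := by
  intro g
  have hg : g ∈ Subgroup.closure (Set.range gP) := by
    have : Subgroup.closure (Set.range gP) = ⊤ := cox_closure_range (edges := HN.edges) (ex := HN.extra)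
    rw [this]; trivial
  induction hg using Subgroup.closure_induction with
  | mem a ha =>
    obtain ⟨x, rfl⟩ := ha
    intro b
    rw [ρ_of]
    cases x
    · exact pres .x b
    · exact pres .y b
    · exact pres .z b
    · exact pres .t b
  | one => intro b; rw [map_one]; rfl
  | mul a b _ _ iha ihb => intro c; rw [map_mul, Equiv.Perm.mul_apply, iha, ihb]
  | inv a _ iha =>
    intro c
    rw [map_inv]
    have := iha ((ρ a)⁻¹ c)
    have e : (ρ a) ((ρ a)⁻¹ c) = c := (ρ a).apply_symm_apply c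
    rw [e] at this
    exact this.symm

theorem mem_iff (hub : NW.index ≤ 1539000 ∧ NW.index ≠ 0) (g : HN) : g ∈ NW ↔ ρ g 0 = 0 :=
  mem_iff_fix hub ρ NW_fix ρ_trans g

theorem hsum : 1 + ∑ i, szs i = 1539000 := by decide +kernel
theorem hlt (g : HN) : ρ g 0 < 1539000 := (ρ_lt_n g 0).2 (by norm_num)
theorem hle21 : 1539000 ≤ 2 ^ 21 := by norm_num
theorem hpos : 0 < 1539000 := by norm_num

/-- **maximality** -/
theorem max (hub : NW.index ≤ 1539000 ∧ NW.index ≠ 0) (C : Subgroup HN) (h : NW ≤ C) : C = NW ∨ C = ⊤ :=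
  max_of_net hpos NW C ρ (index_of_ub hub) (mem_iff hub) hlt hle21 8 OO qq szs OO_orb OO_card OO_cover hsum hdiv h

end H10.HNMax
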