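set_option autoImplicit false

/-! Data for the matrix group 3.J3 in GL(9,4): operations on 18-bit codes. -/

namespace H10.J3Data

def g0 : List (Nat × Nat) := []
def g1 : List (Nat × Nat) := [(16,17),(17,16),(15,14),(14,15),(10,11),(11,10),(9,8),(8,9),(4,5),(5,4),(3,2),(2,3)]
def g2 : List (Nat × Nat) := [(17,16),(16,17),(14,15),(15,14),(11,10),(10,11),(8,9),(9,8),(5,4),(4,5),(2,3),(3,2)]
def g3 : List (Nat × Nat) := [(16,17),(17,16),(14,15),(15,14),(12,13),(13,12),(11,10),(10,11),(9,8),(8,9),(7,6),(6,7)]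
def g4 : List (Nat × Nat) := [(17,16),(16,17),(12,13),(13,12),(8,9),(9,8),(7,6),(6,7),(4,5),(5,4),(3,2),(2,3)]
def g5 : List (Nat × Nat) := [(15,14),(14,15),(12,13),(13,12),(10,11),(11,10),(7,6),(6,7),(5,4),(4,5),(2,3),(3,2)]
def g6 : List (Nat × Nat) := [(17,16),(16,17),(15,14),(14,15),(13,12),(12,13),(10,11),(11,10),(8,9),(9,8),(6,7),(7,6)]
def g7 : List (Nat × Nat) := [(14,15),(15,14),(13,12),(12,13),(11,10),(10,11),(6,7),(7,6),(4,5),(5,4),(3,2),(2,3)]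
def g8 : List (Nat × Nat) := [(16,17),(17,16),(13,12),(12,13),(9,8),(8,9),(6,7),(7,6),(5,4),(4,5),(2,3),(3,2)]
def g9 : List (Nat × Nat) := [(16,17),(17,16),(14,15),(15,14),(13,12),(12,13),(10,11),(11,10),(8,9),(9,8),(7,6),(6,7),(5,4),(4,5),(3,2),(2,3)]
def g10 : List (Nat × Nat) := [(16,17),(17,16),(15,14),(14,15),(12,13),(13,12),(10,11),(11,10),(9,8),(8,9),(6,7),(7,6),(5,4),(4,5),(1,0),(0,1)]
def g11 : List (Nat × Nat) := [(17,16),(16,17),(14,15),(15,14),(12,13),(13,12),(11,10),(10,11),(8,9),(9,8),(6,7),(7,6),(3,2),(2,3),(1,0),(0,1)]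
def g12 : List (Nat × Nat) := [(16,17),(17,16),(14,15),(15,14),(13,12),(12,13),(11,10),(10,11),(9,8),(8,9),(4,5),(5,4),(2,3),(3,2),(1,0),(0,1)]
def g13 : List (Nat × Nat) := [(16,17),(17,16),(15,14),(14,15),(12,13),(13,12),(11,10),(10,11),(7,6),(6,7),(4,5),(5,4),(3,2),(2,3),(0,1),(1,0)]
def g14 : List (Nat × Nat) := [(17,16),(16,17),(14,15),(15,14),(12,13),(13,12),(9,8),(8,9),(7,6),(6,7),(5,4),(4,5),(2,3),(3,2),(0,1),(1,0)]
def g15 : List (Nat × Nat) := [(17,16),(16,17),(15,14),(14,15),(10,11),(11,10),(8,9),(9,8),(7,6),(6,7),(4,5),(5,4),(2,3),(3,2),(1,0),(0,1)]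
def g16 : List (Nat × Nat) := [(17,16),(16,17),(13,12),(12,13),(10,11),(11,10),(9,8),(8,9),(6,7),(7,6),(4,5),(5,4),(3,2),(2,3),(0,1),(1,0)]
def g17 : List (Nat × Nat) := [(15,14),(14,15),(13,12),(12,13),(11,10),(10,11),(8,9),(9,8),(6,7),(7,6),(5,4),(4,5),(2,3),(3,2),(0,1),(1,0)]
def g18 : List (Nat × Nat) := []
def g19 : List (Nat × Nat) := [(16,17),(15,17),(13,17),(12,17),(17,16),(14,16),(12,16),(16,17),(16,15),(14,15),(15,16),(17,14),(14,17),(15,13),(13,15),(14,12),(12,14),(10,11),(8,11),(7,11),(6,11),(11,10),(9,10),(8,10),(6,10),(10,11),(10,9),(9,10),(11,8),(10,8),(8,11),(9,7),(7,9),(8,6),(6,8),(3,5),(1,5),(2,4),(0,4),(5,3),(3,5),(4,2),(2,4),(3,1),(1,3),(2,0),(0,2)]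
def g20 : List (Nat × Nat) := [(16,17),(15,17),(13,17),(17,16),(15,16),(14,16),(13,16),(12,16),(17,15),(13,15),(15,17),(16,14),(12,14),(14,16),(17,13),(13,17),(16,12),(12,16),(9,11),(8,11),(7,11),(6,11),(11,10),(9,10),(7,10),(10,11),(11,9),(7,9),(9,11),(10,8),(6,8),(8,10),(11,7),(7,11),(10,6),(6,10),(3,5),(1,5),(2,4),(0,4),(5,3),(1,3),(3,5),(4,2),(0,2),(2,4),(5,1),(1,5),(4,0),(0,4)]
def g21 : List (Nat × Nat) := [(16,17),(10,17),(5,17),(4,17),(17,16),(11,16),(10,16),(4,16),(16,17),(14,15),(9,15),(3,15),(2,15),(15,14),(8,14),(2,14),(14,15),(7,13),(1,13),(6,12),(0,12),(16,11),(11,16),(17,10),(16,10),(10,17),(14,9),(8,9),(9,14),(15,8),(8,15),(13,7),(7,13),(12,6),(6,12),(11,5),(5,11),(10,4),(4,10),(9,3),(3,9),(8,2),(2,8),(7,1),(1,7),(6,0),(0,6)]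
def g22 : List (Nat × Nat) := [(9,17),(1,17),(8,16),(0,16),(14,15),(7,15),(6,15),(5,15),(15,14),(7,14),(4,14),(14,15),(12,13),(11,13),(3,13),(13,12),(11,12),(10,12),(3,12),(2,12),(13,11),(11,13),(12,10),(10,12),(17,9),(9,17),(16,8),(8,16),(15,7),(7,15),(14,6),(6,14),(6,5),(4,5),(5,6),(7,4),(4,7),(11,3),(3,11),(10,2),(2,10),(9,1),(1,9),(8,0),(0,8)]
def g23 : List (Nat × Nat) := [(16,17),(7,17),(6,17),(2,17),(17,16),(7,16),(3,16),(2,16),(16,17),(11,15),(1,15),(10,14),(0,14),(9,13),(8,13),(5,13),(4,13),(13,12),(9,12),(5,12),(12,13),(15,11),(11,15),(14,10),(10,14),(13,9),(9,13),(12,8),(8,12),(17,7),(7,17),(16,6),(6,16),(9,5),(5,9),(8,4),(4,8),(6,3),(3,6),(7,2),(6,2),(2,7),(11,1),(1,11),(10,0),(0,10)]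
def g24 : List (Nat × Nat) := [(11,17),(10,17),(5,17),(4,17),(17,16),(11,16),(5,16),(16,17),(14,15),(9,15),(3,15),(15,14),(9,14),(8,14),(3,14),(2,14),(7,13),(1,13),(6,12),(0,12),(17,11),(5,11),(11,17),(16,10),(4,10),(10,16),(15,9),(3,9),(9,15),(14,8),(2,8),(8,14),(13,7),(1,7),(7,13),(12,6),(0,6),(6,12),(17,5),(5,17),(16,4),(4,16),(15,3),(3,15),(14,2),(2,14),(13,1),(1,13),(12,0),(0,12)]
def g25 : List (Nat × Nat) := [(16,17),(7,17),(3,17),(2,17),(17,16),(6,16),(3,16),(16,17),(11,15),(1,15),(10,14),(0,14),(12,13),(9,13),(8,13),(4,13),(13,12),(8,12),(5,12),(4,12),(12,13),(15,11),(1,11),(11,15),(14,10),(0,10),(10,14),(12,9),(5,9),(9,12),(13,8),(5,8),(4,8),(8,13),(16,7),(6,7),(2,7),(7,16),(17,6),(3,6),(6,17),(12,5),(5,12),(13,4),(12,4),(4,13),(17,3),(3,17),(16,2),(2,16),(15,1),(1,15),(14,0),(0,14)]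
def g26 : List (Nat × Nat) := [(9,17),(1,17),(8,16),(0,16),(14,15),(6,15),(5,15),(4,15),(15,14),(7,14),(6,14),(5,14),(14,15),(12,13),(11,13),(10,13),(3,13),(13,12),(10,12),(2,12),(12,13),(12,11),(3,11),(2,11),(11,12),(13,10),(2,10),(10,13),(17,9),(1,9),(9,17),(16,8),(0,8),(8,16),(14,7),(4,7),(7,14),(15,6),(14,6),(5,6),(4,6),(6,15),(15,5),(5,15),(14,4),(4,14),(12,3),(2,3),(3,12),(13,2),(2,13),(17,1),(1,17),(16,0),(0,16)]
def g27 : List (Nat × Nat) := []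
def g28 : List (Nat × Nat) := [(15,17),(11,17),(9,17),(14,16),(10,16),(8,16),(17,15),(15,17),(16,14),(14,16),(7,13),(5,13),(3,13),(6,12),(4,12),(2,12),(15,11),(9,11),(11,15),(14,10),(8,10),(10,14),(15,9),(9,15),(14,8),(8,14),(13,7),(3,7),(7,13),(12,6),(2,6),(6,12),(7,5),(5,7),(6,4),(4,6),(13,3),(3,13),(12,2),(2,12)]
def g29 : List (Nat × Nat) := [(15,17),(11,17),(9,17),(14,16),(10,16),(8,16),(17,15),(11,15),(9,15),(15,17),(16,14),(10,14),(8,14),(14,16),(7,13),(5,13),(3,13),(6,12),(4,12),(2,12),(17,11),(11,17),(16,10),(10,16),(11,9),(9,11),(10,8),(8,10),(13,7),(5,7),(7,13),(12,6),(4,6),(6,12),(13,5),(5,13),(12,4),(4,12),(7,3),(3,7),(6,2),(2,6)]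
def g30 : List (Nat × Nat) := []
def g31 : List (Nat × Nat) := [(15,17),(13,17),(11,17),(9,17),(7,17),(5,17),(3,17),(14,16),(12,16),(10,16),(8,16),(6,16),(4,16),(2,16),(17,15),(13,15),(11,15),(9,15),(7,15),(5,15),(15,17),(16,14),(12,14),(10,14),(8,14),(6,14),(4,14),(14,16),(17,13),(13,17),(16,12),(12,16),(13,11),(11,13),(12,10),(10,12),(11,9),(5,9),(9,11),(10,8),(4,8),(8,10),(9,7),(7,9),(8,6),(6,8),(11,5),(5,11),(10,4),(4,10),(15,3),(3,15),(14,2),(2,14)]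
def g32 : List (Nat × Nat) := [(15,17),(13,17),(11,17),(9,17),(7,17),(5,17),(3,17),(14,16),(12,16),(10,16),(8,16),(6,16),(4,16),(2,16),(17,15),(5,15),(15,17),(16,14),(4,14),(14,16),(15,13),(13,15),(14,12),(12,14),(13,11),(9,11),(3,11),(11,13),(12,10),(8,10),(2,10),(10,12),(13,9),(9,13),(12,8),(8,12),(11,7),(7,11),(10,6),(6,10),(17,5),(5,17),(16,4),(4,16),(9,3),(3,9),(8,2),(2,8)]
def g33 : List (Nat × Nat) := [(9,17),(8,16),(11,15),(10,14),(7,13),(6,12),(15,11),(11,15),(14,10),(10,14),(17,9),(9,17),(16,8),(8,16),(13,7),(7,13),(12,6),(6,12),(3,5),(2,4),(5,3),(3,5),(4,2),(2,4)]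
def g34 : List (Nat × Nat) := [(15,17),(13,17),(11,17),(9,17),(7,17),(5,17),(3,17),(14,16),(12,16),(10,16),(8,16),(6,16),(4,16),(2,16),(17,15),(3,15),(15,17),(16,14),(2,14),(14,16),(15,13),(11,13),(9,13),(7,13),(5,13),(13,15),(14,12),(10,12),(8,12),(6,12),(4,12),(12,14),(15,11),(9,11),(7,11),(5,11),(11,15),(14,10),(8,10),(6,10),(4,10),(10,14),(15,9),(7,9),(9,15),(14,8),(6,8),(8,14),(15,7),(7,15),(14,6),(6,14),(9,5),(5,9),(8,4),(4,8),(17,3),(3,17),(16,2),(2,16)]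
def g35 : List (Nat × Nat) := [(15,17),(13,17),(11,17),(9,17),(7,17),(5,17),(3,17),(14,16),(12,16),(10,16),(8,16),(6,16),(4,16),(2,16),(17,15),(13,15),(11,15),(9,15),(7,15),(3,15),(15,17),(16,14),(12,14),(10,14),(8,14),(6,14),(2,14),(14,16),(17,13),(11,13),(9,13),(7,13),(3,13),(13,17),(16,12),(10,12),(8,12),(6,12),(2,12),(12,16),(17,11),(7,11),(11,17),(16,10),(6,10),(10,16),(11,9),(3,9),(9,11),(10,8),(2,8),(8,10),(17,7),(7,17),(16,6),(6,16),(15,5),(5,15),(14,4),(4,14),(11,3),(3,11),(10,2),(2,10)]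
def g36 : List (Nat × Nat) := []
def g37 : List (Nat × Nat) := [(15,17),(11,17),(14,16),(10,16),(17,15),(9,15),(16,14),(8,14),(5,13),(4,12),(17,11),(9,11),(16,10),(8,10),(15,9),(11,9),(14,8),(10,8),(13,7),(12,6),(13,5),(7,5),(3,5),(5,13),(12,4),(6,4),(2,4),(4,12),(13,3),(5,3),(12,2),(4,2)]
def g38 : List (Nat × Nat) := [(11,17),(10,16),(17,15),(11,15),(9,15),(15,17),(16,14),(10,14),(8,14),(14,16),(7,13),(5,13),(6,12),(4,12),(17,11),(16,10),(17,9),(15,9),(11,9),(9,11),(16,8),(14,8),(10,8),(8,10),(5,7),(4,6),(13,5),(7,5),(3,5),(5,7),(12,4),(6,4),(2,4),(4,6),(7,3),(5,3),(6,2),(4,2)]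
def g39 : List (Nat × Nat) := [(11,17),(10,16),(17,15),(16,14),(7,13),(6,12),(17,11),(15,11),(9,11),(11,17),(16,10),(14,10),(8,10),(10,16),(17,9),(11,9),(16,8),(10,8),(13,7),(5,7),(3,7),(7,13),(12,6),(4,6),(2,6),(6,12),(13,5),(7,5),(12,4),(6,4),(13,3),(7,3),(12,2),(6,2)]
def g40 : List (Nat × Nat) := [(15,17),(11,17),(7,17),(5,17),(3,17),(14,16),(10,16),(6,16),(4,16),(2,16),(13,15),(11,15),(9,15),(7,15),(3,15),(12,14),(10,14),(8,14),(6,14),(2,14),(15,13),(7,13),(3,13),(13,15),(14,12),(6,12),(2,12),(12,14),(17,11),(15,11),(13,11),(7,11),(16,10),(14,10),(12,10),(6,10),(13,9),(11,9),(7,9),(3,9),(12,8),(10,8),(6,8),(2,8),(17,7),(5,7),(3,7),(7,17),(16,6),(4,6),(2,6),(6,16),(15,5),(11,5),(3,5),(5,11),(14,4),(10,4),(2,4),(4,10),(17,3),(15,3),(9,3),(3,9),(16,2),(14,2),(8,2),(2,8)]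
def g41 : List (Nat × Nat) := [(13,17),(3,17),(12,16),(2,16),(17,15),(13,15),(9,15),(7,15),(5,15),(15,17),(16,14),(12,14),(8,14),(6,14),(4,14),(14,16),(17,13),(15,13),(11,13),(9,13),(3,13),(13,17),(16,12),(14,12),(10,12),(8,12),(2,12),(12,16),(17,11),(15,11),(9,11),(5,11),(16,10),(14,10),(8,10),(4,10),(15,9),(13,9),(11,9),(3,9),(14,8),(12,8),(10,8),(2,8),(15,7),(5,7),(3,7),(7,15),(14,6),(4,6),(2,6),(6,14),(17,5),(15,5),(11,5),(5,17),(16,4),(14,4),(10,4),(4,16),(15,3),(11,3),(9,3),(3,9),(14,2),(10,2),(8,2),(2,8)]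
def g42 : List (Nat × Nat) := [(11,17),(9,17),(10,16),(8,16),(11,15),(9,15),(10,14),(8,14),(5,13),(3,13),(4,12),(2,12),(17,11),(15,11),(16,10),(14,10),(17,9),(15,9),(16,8),(14,8),(5,7),(3,7),(4,6),(2,6),(3,5),(2,4),(13,3),(7,3),(5,3),(3,5),(12,2),(6,2),(4,2),(2,4)]
def g43 : List (Nat × Nat) := [(13,17),(11,17),(9,17),(7,17),(3,17),(12,16),(10,16),(8,16),(6,16),(2,16),(17,15),(11,15),(7,15),(5,15),(16,14),(10,14),(6,14),(4,14),(15,13),(5,13),(3,13),(13,15),(14,12),(4,12),(2,12),(12,14),(13,11),(9,11),(7,11),(5,11),(3,11),(12,10),(8,10),(6,10),(4,10),(2,10),(17,9),(13,9),(5,9),(3,9),(16,8),(12,8),(4,8),(2,8),(17,7),(15,7),(5,7),(7,17),(16,6),(14,6),(4,6),(6,16),(17,5),(9,5),(3,5),(5,9),(16,4),(8,4),(2,4),(4,8),(17,3),(15,3),(11,3),(3,11),(16,2),(14,2),(10,2),(2,10)]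
def g44 : List (Nat × Nat) := [(15,17),(13,17),(11,17),(5,17),(3,17),(14,16),(12,16),(10,16),(4,16),(2,16),(17,15),(13,15),(16,14),(12,14),(17,13),(5,13),(3,13),(13,17),(16,12),(4,12),(2,12),(12,16),(17,11),(15,11),(13,11),(9,11),(7,11),(3,11),(11,15),(16,10),(14,10),(12,10),(8,10),(6,10),(2,10),(10,14),(15,9),(11,9),(7,9),(14,8),(10,8),(6,8),(17,7),(11,7),(5,7),(7,11),(16,6),(10,6),(4,6),(6,10),(15,5),(11,5),(3,5),(5,15),(14,4),(10,4),(2,4),(4,14),(17,3),(11,3),(9,3),(3,9),(16,2),(10,2),(8,2),(2,8)]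

/-- the generators: index 9*family+(3x+y), families A, E, D, B, C -/
def gensL : List (List (Nat × Nat)) := [g0, g1, g2, g3, g4, g5, g6, g7, g8, g9, g10, g11, g12, g13, g14, g15, g16, g17, g18, g19, g20, g21, g22, g23, g24, g25, g26, g27, g28, g29, g30, g31, g32, g33, g34, g35, g36, g37, g38, g39, g40, g41, g42, g43, g44]

def k1W : List Nat := [20,28,32,32]
def k1 : List (Nat × Nat) := [(10,17),(17,16),(11,16),(7,15),(6,14),(9,13),(8,12),(16,11),(10,11),(11,16),(17,10),(10,17),(13,9),(9,13),(12,8),(8,12),(15,7),(7,15),(14,6),(6,14),(1,3),(0,2),(3,1),(1,3),(2,0),(0,2)]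

def k2W : List Nat := [40,16,12,9,32,1]
def k2 : List (Nat × Nat) := [(11,17),(9,17),(17,16),(10,16),(8,16),(16,17),(11,15),(9,15),(15,14),(10,14),(8,14),(14,15),(5,13),(3,13),(13,12),(4,12),(2,12),(12,13),(16,11),(14,11),(10,11),(17,10),(15,10),(11,10),(16,9),(14,9),(8,9),(17,8),(15,8),(9,8),(6,7),(5,7),(4,7),(3,7),(2,7),(7,6),(4,6),(2,6),(3,5),(2,4),(13,3),(12,3),(6,3),(5,3),(3,5),(13,2),(7,2),(6,2),(4,2),(2,4)]

/-- multiplication by omega -/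
def sc : List (Nat × Nat) := [(17,16),(16,17),(15,14),(14,15),(13,12),(12,13),(11,10),(10,11),(9,8),(8,9),(7,6),(6,7),(5,4),(4,5),(3,2),(2,3),(1,0),(0,1)]

/-- class of b2 = 1 relative to b1 = 21: pairs (translation, type) -/
def c2 : List (Nat × Nat) := [(42,2),(63,2),(0,0)]
/-- class of b3 = 1604 relative to b1, b2 -/
def c3 : List (Nat × Nat) := [(1,2),(23,2),(40,2),(60,0),(2,0),(3,2),(21,2)]
def e1 : List (Nat × Nat) := [(1604,2),(3533,2),(3534,2),(2972,2),(1644,2),(2976,0),(2998,2),(2954,2)]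
def e2 : List (Nat × Nat) := [(1604,2),(2952,2),(62,2),(42,2),(2975,2),(2977,0),(2996,0),(2979,2),(2973,0)]
def e3 : List (Nat × Nat) := [(3533,2),(2954,2),(1604,0),(2996,2),(3569,2),(20,0),(2978,2),(3534,2),(0,0)]
def e4 : List (Nat × Nat) := [(1606,2),(1617,2),(1644,2),(3557,2),(2953,0),(2972,2),(60,0),(2954,2)]
def e5 : List (Nat × Nat) := [(2953,2),(3534,2),(0,0),(2977,2),(3556,2),(3535,2),(3571,2),(1657,2)]
def e6 : List (Nat × Nat) := [(3532,2),(2973,2),(3558,2),(3545,0),(3557,0),(1658,2),(2998,0),(2952,0)]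
def e7 : List (Nat × Nat) := [(3532,2),(2973,2),(3558,2),(3545,0),(3557,0),(1647,0),(2976,0),(1645,0),(0,0)]
def e8 : List (Nat × Nat) := [(3532,2),(2973,2),(1646,0),(1659,2),(2974,2),(2998,2),(40,0),(20,0)]

end H10.J3Data
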