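import Cfsg.Agent.Lib.H10.BitPar
import Cfsg.Agent.Lib.H10.J3Data

set_option autoImplicit false

/-! Kernel computations for 3.J3 on the 2^18 vectors of GF(4)^9. -/

namespace H10.J3Comp

open H10.BitPar H10.J3Data

def bg : List (List (ℕ × ℕ)) := [g37, g40, g19, g22, g31, g10]

/-- orbit of `e_0` -/
def T0 : ℕ := bfs 18 bg 5 (Nat.pow 2 1)
/-- isotropic vectors -/
def T1 : ℕ := bfs 18 bg 4 (Nat.pow 2 5)
/-- orbit of `e_0 + e_1 + e_2` -/
def T2 : ℕ := bfs 18 bg 4 (Nat.pow 2 21)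

def tt' (A B C t : ℕ) : ℕ := cond (Nat.beq t 0) A (cond (Nat.beq t 1) B C)
theorem tt'_0 (A B C : ℕ) : tt' A B C 0 = A := rfl
theorem tt'_2 (A B C : ℕ) : tt' A B C 2 = C := rfl

def tt (t : ℕ) : ℕ := tt' T0 T1 T2 t

def cls (l : List (ℕ × ℕ)) : ℕ :=
  List.rec (motive := fun _ => ℕ) (full 18) (fun p _ ih => Nat.land (trans 18 p.1 18 (tt p.2)) ih) l

def kg : List (List (ℕ × ℕ)) := [k1, k2]

def O1 : ℕ := bfs 18 kg 12 (Nat.pow 2 1)
def O2 : ℕ := bfs 18 kg 17 (Nat.pow 2 336)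
def O3 : ℕ := bfs 18 kg 14 (Nat.pow 2 464)

def NN (x : ℕ) : ℕ := pc 18 (Nat.land (Nat.land T0 (trans 18 21 18 T0)) (trans 18 x 18 T0))

/-- all lists legal -/
def okAll (n : ℕ) (L : List (List (ℕ × ℕ))) : Bool := List.rec (motive := fun _ => Bool) true
  (fun l _ ih => cond (okOps n l) ih false) L

theorem ok_gens : okAll 18 gensL = true := by decide +kernel
theorem ok_kg : okAll 18 kg = true := by decide +kernel

def eL : List (ℕ × List (ℕ × ℕ)) := [(4, e1), (16, e2), (64, e3), (256, e4), (1024, e5), (4096, e6), (16384, e7), (65536, e8)]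

def chkE (L : List (ℕ × List (ℕ × ℕ))) : Bool := List.rec (motive := fun _ => Bool) true
  (fun p _ ih => cond (Nat.beq (cls p.2) (Nat.pow 2 p.1)) ih false) L

/-- membership -/
def tb (S x : ℕ) : Bool := Nat.beq (Nat.mod (Nat.shiftRight S x) 2) 1

def chk : Bool :=
  cond (tb T0 1) (cond (tb T2 21) (cond (tb (cls c2) 1) (cond (tb (cls c3) 1604) (
  cond (invAll 18 gensL T0) (cond (invAll 18 gensL T2) (cond (Nat.beq (pc 18 T0) 69768) (cond (Nat.beq (pc 18 T2) 61560)
  (cond (Nat.beq (cls c2) (Nat.lor (Nat.lor O1 O2) O3)) (cond (Nat.beq (pc 18 O1) 102)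
  (cond (Nat.beq (NN 1) (NN 336)) false (cond (Nat.beq (NN 1) (NN 464)) false
  (cond (Nat.beq (pc 18 (cls c3)) 24) (cond (chkE eL)
  (Nat.beq (pc 18 (bfs 18 kg 17 (Nat.pow 2 4660))) 2448) false) false))) false) false) false) false) false) false
  ) false) false) false) false

theorem chk_eq : chk = true := by decide +kernel

/-- span of a list of vectors over the field with two elements -/
def inSpan (B : List ℕ) : ℕ → Bool := List.rec (motive := fun _ => ℕ → Bool) (fun f => Nat.beq f 0)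
  (fun b _ ih f => cond (ih f) true (ih (Nat.xor f b))) B

def spanAll (B : List ℕ) (l : List (ℕ × ℕ)) : Bool := List.rec (motive := fun _ => Bool) true
  (fun p _ ih => cond (inSpan B p.1) (cond (Nat.blt p.1 262144) (cond (Nat.beq p.2 0) ih (cond (Nat.beq p.2 2) ih false)) false) false) l

def sp1 : List ℕ := [21, runF sc 21]
def sp2 : List ℕ := [1, runF sc 1, 21, runF sc 21]
def sp3 : List ℕ := [1604, runF sc 1604, 1, runF sc 1, 21, runF sc 21]

theorem span1 : spanAll sp1 c2 = true := by decide +kernel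
theorem span2 : spanAll sp2 c3 = true := by decide +kernel
theorem span3 : (eL.all fun p => spanAll sp3 p.2) = true := by decide +kernel

theorem T0_def : T0 = bfs 18 bg 5 (Nat.pow 2 1) := rfl
theorem T1_def : T1 = bfs 18 bg 4 (Nat.pow 2 5) := rfl
theorem T2_def : T2 = bfs 18 bg 4 (Nat.pow 2 21) := rfl
theorem O1_def : O1 = bfs 18 kg 12 (Nat.pow 2 1) := rfl
theorem O2_def : O2 = bfs 18 kg 17 (Nat.pow 2 336) := rfl
theorem O3_def : O3 = bfs 18 kg 14 (Nat.pow 2 464) := rfl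
theorem NN_def (x : ℕ) : NN x = pc 18 (Nat.land (Nat.land T0 (trans 18 21 18 T0)) (trans 18 x 18 T0)) := rfl
theorem tt_0 : tt 0 = T0 := tt'_0 T0 T1 T2
theorem tt_2 : tt 2 = T2 := tt'_2 T0 T1 T2
theorem cls_nil : cls [] = full 18 := rfl
theorem cls_cons (p : ℕ × ℕ) (l : List (ℕ × ℕ)) : cls (p :: l) = Nat.land (trans 18 p.1 18 (tt p.2)) (cls l) := rfl
/-- regular orbit of the stabilizer -/
def RK : ℕ := bfs 18 kg 17 (Nat.pow 2 4660)
theorem RK_def : RK = bfs 18 kg 17 (Nat.pow 2 4660) := rfl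

attribute [irreducible] T0 T1 T2 O1 O2 O3 NN tt cls RK chk

end H10.J3Comp
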