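set_option autoImplicit false

/-! More data for 3.J3. -/

namespace H10.J3Data2

/-- element of order 19 -/
def x19W : List Nat := [10,19,37]
def x19 : List (Nat × Nat) := [(13,17),(12,17),(4,17),(17,16),(15,16),(12,16),(11,16),(10,16),(8,16),(4,16),(0,16),(14,15),(9,15),(7,15),(6,15),(15,14),(9,14),(8,14),(6,14),(16,13),(14,13),(7,13),(13,16),(17,12),(16,12),(14,12),(11,12),(7,12),(4,12),(1,12),(0,12),(12,17),(17,11),(15,11),(9,11),(4,11),(1,11),(0,11),(11,17),(17,10),(15,10),(14,10),(9,10),(7,10),(5,10),(1,10),(17,9),(11,9),(7,9),(6,9),(9,17),(16,8),(10,8),(7,8),(8,10),(14,7),(10,7),(8,7),(7,8),(15,6),(14,6),(11,6),(10,6),(9,6),(8,6),(6,9),(7,5),(4,5),(3,5),(6,4),(2,4),(13,3),(7,3),(0,3),(3,7),(12,2),(6,2),(1,2),(0,2),(2,6),(12,1),(4,1),(2,1),(0,1),(1,2),(13,0),(5,0),(3,0),(0,3)]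

def scW : List Nat := [9,13,17]

/-- commutator of generators 20, 32 -/
def cc1 : List (Nat × Nat) := [(16,17),(11,17),(10,17),(5,17),(17,16),(11,16),(4,16),(16,17),(9,15),(8,15),(3,15),(2,15),(9,14),(2,14),(12,13),(7,13),(1,13),(13,12),(7,12),(6,12),(1,12),(0,12),(17,11),(11,17),(16,10),(10,16),(14,9),(9,14),(15,8),(14,8),(8,15),(13,7),(7,13),(12,6),(6,12),(10,5),(4,5),(5,10),(11,4),(4,11),(8,3),(2,3),(3,8),(9,2),(2,9),(7,1),(1,7),(6,0),(0,6)]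

/-- commutator of generators 8, 38 -/
def cc2 : List (Nat × Nat) := [(15,17),(14,17),(11,17),(10,17),(17,16),(15,16),(11,16),(16,17),(17,15),(9,15),(8,15),(16,14),(9,14),(12,13),(7,13),(2,13),(13,12),(7,12),(5,12),(2,12),(12,13),(17,11),(9,11),(8,11),(16,10),(9,10),(15,9),(11,9),(8,9),(15,8),(14,8),(11,8),(10,8),(9,8),(13,7),(12,7),(13,6),(7,6),(6,13),(13,5),(7,5),(4,5),(2,5),(5,7),(13,4),(12,4),(7,4),(6,4),(3,4),(4,12),(13,3),(12,3),(5,3),(4,3),(13,2),(5,2),(3,2),(2,3)]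

/-- commutator of k1, k2 -/
def dd1 : List (Nat × Nat) := [(16,17),(15,17),(10,17),(9,17),(6,17),(5,17),(3,17),(17,16),(15,16),(14,16),(11,16),(9,16),(8,16),(7,16),(5,16),(4,16),(3,16),(2,16),(17,15),(16,15),(13,15),(12,15),(11,15),(10,15),(9,15),(8,15),(6,15),(2,15),(0,15),(17,14),(15,14),(13,14),(11,14),(9,14),(7,14),(6,14),(3,14),(2,14),(1,14),(0,14),(14,15),(15,13),(12,13),(11,13),(5,13),(2,13),(1,13),(0,13),(15,12),(14,12),(13,12),(11,12),(10,12),(5,12),(4,12),(3,12),(0,12),(17,11),(15,11),(13,11),(6,11),(5,11),(2,11),(1,11),(0,11),(11,15),(16,10),(14,10),(12,10),(7,10),(6,10),(4,10),(3,10),(2,10),(1,10),(10,14),(15,9),(14,9),(13,9),(11,9),(10,9),(8,9),(7,9),(5,9),(4,9),(3,9),(2,9),(14,8),(13,8),(12,8),(10,8),(9,8),(7,8),(6,8),(4,8),(2,8),(16,7),(13,7),(12,7),(6,7),(4,7),(2,7),(17,6),(12,6),(7,6),(5,6),(3,6),(3,5),(1,5),(2,4),(0,4),(17,3),(11,3),(5,3),(1,3),(3,5),(16,2),(10,2),(4,2),(0,2),(2,4),(14,1),(9,1),(8,1),(5,1),(1,5),(15,0),(14,0),(9,0),(4,0),(0,4)]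

/-- commutator of k1, k2^2 -/
def dd2 : List (Nat × Nat) := [(15,17),(13,17),(11,17),(5,17),(3,17),(17,16),(15,16),(14,16),(13,16),(10,16),(9,16),(7,16),(5,16),(3,16),(1,16),(17,15),(14,15),(13,15),(12,15),(10,15),(8,15),(6,15),(5,15),(3,15),(2,15),(0,15),(17,14),(16,14),(15,14),(13,14),(12,14),(11,14),(10,14),(9,14),(8,14),(7,14),(5,14),(4,14),(3,14),(2,14),(1,14),(14,13),(12,13),(11,13),(5,13),(4,13),(3,13),(0,13),(17,12),(16,12),(15,12),(14,12),(13,12),(11,12),(10,12),(9,12),(6,12),(5,12),(3,12),(1,12),(17,11),(15,11),(14,11),(13,11),(12,11),(10,11),(9,11),(7,11),(6,11),(5,11),(4,11),(3,11),(2,11),(11,14),(15,10),(13,10),(11,10),(9,10),(2,10),(0,10),(15,9),(13,9),(12,9),(11,9),(8,9),(3,9),(2,9),(1,9),(0,9),(9,15),(16,8),(15,8),(14,8),(13,8),(11,8),(10,8),(9,8),(7,8),(2,8),(1,8),(0,8),(8,15),(17,7),(12,7),(6,7),(5,7),(4,7),(3,7),(2,7),(7,12),(17,6),(16,6),(13,6),(7,6),(5,6),(4,6),(3,6),(2,6),(1,6),(6,17),(16,5),(13,5),(11,5),(10,5),(7,5),(5,16),(2,4),(0,4),(16,3),(13,3),(11,3),(10,3),(7,3),(5,3),(1,3),(3,16),(17,2),(16,2),(12,2),(11,2),(6,2),(4,2),(0,2),(2,4),(15,1),(9,1),(5,1),(1,5),(14,0),(8,0),(4,0),(0,4)]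

end H10.J3Data2
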