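set_option autoImplicit false

/-! Data for the centralizer of an involution of J3. -/

namespace H10.J3DataT

/-- words in the 45 generators -/
def s1W : List Nat := [11,11]
def s2W : List Nat := [38,24,43,8,22,31,40,37]
def lcW : List Nat := [3]
def ldW : List Nat := [22,31,40,22,19]
def s1 : List (Nat × Nat) := [(16,17),(17,16),(15,14),(14,15),(13,12),(12,13),(10,11),(11,10),(9,8),(8,9),(7,6),(6,7),(2,3),(3,2),(0,1),(1,0)]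
def s2 : List (Nat × Nat) := [(12,17),(11,17),(10,17),(4,17),(2,17),(0,17),(17,16),(15,16),(13,16),(12,16),(11,16),(9,16),(5,16),(4,16),(3,16),(2,16),(0,16),(16,17),(17,15),(14,15),(13,15),(12,15),(11,15),(9,15),(8,15),(5,15),(4,15),(0,15),(16,14),(15,14),(13,14),(10,14),(8,14),(5,14),(14,15),(15,13),(7,13),(3,13),(13,15),(14,12),(6,12),(2,12),(12,14),(17,11),(16,11),(13,11),(10,11),(8,11),(6,11),(2,11),(1,11),(17,10),(14,10),(12,10),(9,10),(8,10),(7,10),(6,10),(3,10),(1,10),(16,9),(15,9),(10,9),(8,9),(7,9),(4,9),(1,9),(0,9),(16,8),(15,8),(12,8),(11,8),(7,8),(5,8),(4,8),(0,8),(8,11),(16,7),(15,7),(13,7),(8,7),(5,7),(7,8),(17,6),(16,6),(14,6),(12,6),(9,6),(8,6),(4,6),(6,17),(15,5),(7,5),(3,5),(1,5),(14,4),(6,4),(2,4),(0,4),(17,3),(15,3),(14,3),(2,3),(17,2),(16,2),(14,2),(3,2),(10,1),(7,1),(6,1),(0,1),(11,0),(6,0),(1,0)]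
def lc : List (Nat × Nat) := [(16,17),(17,16),(14,15),(15,14),(12,13),(13,12),(11,10),(10,11),(9,8),(8,9),(7,6),(6,7)]
def ld : List (Nat × Nat) := [(0,2),(2,0),(6,0),(8,0),(1,3),(3,1),(7,1),(9,1),(0,2),(1,3),(12,4),(13,4),(15,4),(12,5),(14,5),(15,5),(6,14),(4,6),(5,6),(10,6),(14,6),(7,15),(4,7),(11,7),(15,7),(8,11),(5,8),(10,8),(11,8),(12,8),(9,13),(4,9),(5,9),(10,9),(13,9),(10,17),(17,10),(11,16),(10,11),(16,11),(0,12),(2,12),(5,12),(8,12),(11,12),(16,12),(17,12),(1,13),(3,13),(4,13),(5,13),(9,13),(10,13),(17,13),(0,14),(2,14),(4,14),(5,14),(6,14),(10,14),(17,14),(0,15),(1,15),(2,15),(3,15),(4,15),(7,15),(10,15),(11,15),(12,15),(16,15),(0,16),(2,16),(6,16),(7,16),(8,16),(11,16),(12,16),(17,16),(6,17),(9,17),(10,17)]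

/-- words in s1, s2 -/
def oaW : List Nat := [0,1,0,1,0,1,1,1,0,0]
def q1W : List Nat := [1,1,0,1,1,0,0,1,1,0,1,1,1]
def q2W : List Nat := [1,1,1,0,1,0,1,0,1,1,1]
def q3W : List Nat := [0,0,1,1,0,1,0,1,1,1,0,0,1,0]
def q4W : List Nat := [1,0,1,0,0,1,0,1,0,1,1,0]
def otW : List Nat := [0,1,0,1,0,1,0,1,0,1,0,1]
def oa : List (Nat × Nat) := [(15,17),(11,17),(9,17),(8,17),(5,17),(3,17),(2,17),(14,16),(10,16),(9,16),(4,16),(3,16),(11,15),(7,15),(4,15),(3,15),(0,15),(10,14),(6,14),(5,14),(4,14),(2,14),(1,14),(0,14),(17,13),(8,13),(6,13),(4,13),(1,13),(13,17),(16,12),(9,12),(8,12),(7,12),(6,12),(5,12),(4,12),(0,12),(12,16),(17,11),(15,11),(9,11),(7,11),(6,11),(5,11),(2,11),(1,11),(0,11),(11,15),(16,10),(14,10),(8,10),(7,10),(4,10),(3,10),(2,10),(1,10),(10,14),(16,9),(15,9),(13,9),(12,9),(11,9),(6,9),(2,9),(17,8),(16,8),(14,8),(13,8),(10,8),(7,8),(6,8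),(3,8),(2,8),(13,7),(11,7),(9,7),(8,7),(5,7),(4,7),(3,7),(1,7),(12,6),(10,6),(9,6),(5,6),(2,6),(0,6),(16,5),(14,5),(13,5),(11,5),(10,5),(9,5),(6,5),(3,5),(1,5),(17,4),(16,4),(15,4),(14,4),(12,4),(11,4),(8,4),(7,4),(6,4),(2,4),(0,4),(15,3),(14,3),(12,3),(10,3),(9,3),(7,3),(6,3),(5,3),(15,2),(13,2),(12,2),(11,2),(10,2),(8,2),(7,2),(4,2),(17,1),(15,1),(14,1),(13,1),(8,1),(7,1),(6,1),(5,1),(16,0),(15,0),(12,0),(9,0),(8,0),(7,0),(4,0)]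
def q1 : List (Nat × Nat) := [(3,17),(1,17),(10,16),(3,16),(2,16),(1,16),(0,16),(9,15),(8,15),(7,15),(9,14),(6,14),(9,13),(6,13),(8,12),(7,12),(6,12),(2,11),(0,11),(16,10),(11,10),(3,10),(2,10),(0,10),(10,16),(14,9),(13,9),(15,8),(14,8),(12,8),(15,7),(13,7),(12,7),(14,6),(13,6),(16,3),(11,3),(10,3),(3,16),(17,2),(16,2),(11,2),(2,17),(16,1),(11,1),(10,1),(3,1),(1,10),(17,0),(16,0),(11,0),(2,0),(0,17)]
def q2 : List (Nat × Nat) := [(0,17),(16,0),(17,0),(1,16),(16,1),(2,11),(11,2),(3,10),(2,3),(10,3),(6,13),(13,6),(7,12),(6,7),(12,7),(8,12),(7,8),(12,8),(13,8),(9,13),(6,9),(13,9),(10,16),(0,10),(16,10),(17,10),(11,17),(0,11),(1,11),(17,11),(12,15),(14,12),(15,12),(13,14),(14,13),(6,14),(9,14),(13,14),(6,15),(7,15),(8,15),(9,15),(12,15),(13,15),(14,15),(1,16),(2,16),(3,16),(10,16),(11,16),(0,17),(1,17),(2,17),(11,17),(16,17)]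
def q3 : List (Nat × Nat) := [(16,17),(15,17),(14,17),(11,17),(10,17),(8,17),(4,17),(17,16),(14,16),(10,16),(9,16),(5,16),(16,15),(13,15),(12,15),(11,15),(8,15),(6,15),(5,15),(1,15),(16,14),(15,14),(12,14),(11,14),(7,14),(6,14),(5,14),(0,14),(14,13),(12,13),(11,13),(8,13),(5,13),(0,13),(13,14),(16,12),(13,12),(9,12),(8,12),(0,12),(12,13),(16,11),(15,11),(13,11),(10,11),(8,11),(5,11),(4,11),(1,11),(0,11),(11,15),(17,10),(15,10),(14,10),(13,10),(12,10),(11,10),(9,10),(4,10),(0,10),(10,13),(16,9),(12,9),(8,9),(2,9),(1,9),(0,9),(17,8),(13,8),(9,8),(3,8),(0,8),(14,7),(10,7),(6,7),(3,7),(0,7),(15,6),(11,6),(7,6),(3,6),(2,6),(1,6),(17,5),(16,5),(11,5),(2,5),(0,5),(17,4),(10,4),(3,4),(2,4),(1,4),(0,4),(14,3),(13,3),(8,3),(7,3),(6,3),(5,3),(4,3),(2,3),(0,3),(15,2),(13,2),(12,2),(9,2),(6,2),(4,2),(3,2),(1,2),(15,1),(13,1),(12,1),(5,1),(4,1),(2,1),(14,0),(13,0),(5,0),(3,0),(2,0),(1,0),(0,1)]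
def q4 : List (Nat × Nat) := [(0,2),(1,0),(2,0),(3,0),(4,0),(5,0),(12,0),(14,0),(15,0),(2,1),(4,1),(13,1),(14,1),(0,2),(6,2),(7,2),(8,2),(12,2),(14,2),(15,2),(0,3),(2,3),(4,3),(7,3),(8,3),(9,3),(12,3),(14,3),(15,3),(1,4),(3,4),(10,4),(11,4),(16,4),(0,5),(1,5),(2,5),(3,5),(10,5),(17,5),(0,6),(1,6),(2,6),(7,6),(10,6),(11,6),(15,6),(1,7),(2,7),(3,7),(6,7),(11,7),(14,7),(1,8),(2,8),(3,8),(9,8),(13,8),(16,8),(17,8),(0,9),(3,9),(8,9),(12,9),(17,9),(10,15),(0,10),(5,10),(8,10),(11,10),(13,10),(15,10),(17,10),(1,11),(4,11),(5,11),(9,11),(12,11),(13,11),(14,11),(15,11),(16,11),(17,11),(4,12),(5,12),(8,12),(11,12),(14,12),(15,12),(16,12),(13,14),(1,13),(4,13),(8,13),(10,13),(11,13),(12,13),(14,13),(4,14),(5,14),(6,14),(7,14),(11,14),(12,14),(13,14),(16,14),(17,14),(0,15),(1,15),(4,15),(5,15),(7,15),(8,15),(9,15),(11,15),(13,15),(14,15),(16,15),(17,15),(4,16),(5,16),(8,16),(10,16),(14,16),(15,16),(17,16),(5,17),(8,17),(9,17),(10,17),(11,17),(15,17),(16,17)]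
def ot : List (Nat × Nat) := [(10,17),(17,16),(11,16),(7,15),(6,14),(9,13),(8,12),(16,11),(10,11),(11,16),(17,10),(10,17),(13,9),(9,13),(12,8),(8,12),(15,7),(7,15),(14,6),(6,14),(1,3),(0,2),(3,1),(1,3),(2,0),(0,2)]

/-- words in the letters 2 (oa), 0 (s1) -/
def ouW : List Nat := [0,2,0,2,0,0,2,0,0]
def ovW : List Nat := [2,0,2,0,0,2]
def odW : List Nat := [0]
def ou : List (Nat × Nat) := [(15,17),(12,17),(9,17),(6,17),(14,16),(13,16),(12,16),(8,16),(7,16),(6,16),(17,15),(13,15),(12,15),(11,15),(7,15),(6,15),(5,15),(1,15),(16,14),(13,14),(10,14),(7,14),(4,14),(0,14),(7,13),(6,12),(15,11),(13,11),(12,11),(14,10),(13,10),(17,9),(15,9),(11,9),(5,9),(1,9),(9,11),(16,8),(14,8),(10,8),(4,8),(0,8),(8,10),(17,7),(16,7),(13,7),(10,7),(5,7),(3,7),(7,13),(17,6),(12,6),(11,6),(10,6),(4,6),(2,6),(6,12),(15,5),(13,5),(9,5),(7,5),(14,4),(12,4),(8,4),(6,4),(13,3),(7,3),(12,2),(6,2),(15,1),(9,1),(14,0),(8,0)]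
def ov : List (Nat × Nat) := [(14,17),(13,17),(12,17),(8,17),(7,17),(6,17),(15,16),(14,16),(13,16),(9,16),(8,16),(7,16),(17,15),(16,15),(13,15),(12,15),(11,15),(10,15),(7,15),(6,15),(4,15),(1,15),(0,15),(17,14),(13,14),(11,14),(7,14),(5,14),(4,14),(1,14),(7,13),(6,12),(14,11),(13,11),(17,10),(15,10),(12,10),(11,10),(8,10),(5,10),(4,10),(1,10),(16,9),(15,9),(14,9),(10,9),(8,9),(5,9),(0,9),(9,10),(17,8),(14,8),(11,8),(5,8),(4,8),(1,8),(8,11),(16,7),(13,7),(11,7),(4,7),(3,7),(2,7),(7,13),(17,6),(16,6),(12,6),(10,6),(5,6),(4,6),(3,6),(6,12),(15,5),(14,5),(13,5),(12,5),(9,5),(8,5),(7,5),(6,5),(15,4),(13,4),(9,4),(7,4),(12,3),(6,3),(13,2),(12,2),(7,2),(6,2),(14,1),(8,1),(15,0),(14,0),(9,0),(8,0)]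

/-- the 60 elements of the complement -/
def hws : List (List Nat) := [[], [2], [0], [2,0], [0,2], [0,0], [2,0,2], [2,0,0], [0,2,0], [0,0,2], [2,0,2,0], [2,0,0,2], [0,2,0,2], [0,2,0,0], [0,0,2,0], [2,0,2,0,2], [2,0,2,0,0], [2,0,0,2,0], [0,2,0,2,0], [0,2,0,0,2], [0,0,2,0,2], [0,0,2,0,0], [2,0,2,0,2,0], [2,0,2,0,0,2], [2,0,0,2,0,2], [2,0,0,2,0,0], [0,2,0,2,0,0], [0,2,0,0,2,0], [0,0,2,0,2,0], [2,0,2,0,2,0,0], [2,0,2,0,0,2,0], [2,0,0,2,0,2,0], [0,2,0,2,0,0,2], [0,2,0,0,2,0,2], [0,2,0,0,2,0,0], [0,0,2,0,2,0,0], [2,0,2,0,2,0,0,2], [2,0,2,0,0,2,0,2], [2,0,2,0,0,2,0,0], [2,0,0,2,0,2,0,0], [0,2,0,2,0,0,2,0], [0,2,0,0,2,0,2,0], [0,0,2,0,2,0,0,2], [2,0,2,0,2,0,0,2,0], [2,0,2,0,0,2,0,2,0], [2,0,0,2,0,2,0,0,2], [0,2,0,2,0,0,2,0,2], [0,2,0,2,0,0,2,0,0], [0,2,0,0,2,0,2,0,0], [0,0,2,0,2,0,0,2,0], [2,0,2,0,2,0,0,2,0,2], [2,0,2,0,2,0,0,2,0,0], [2,0,2,0,0,2,0,2,0,0],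 [2,0,0,2,0,2,0,0,2,0], [0,2,0,0,2,0,2,0,0,2], [0,0,2,0,2,0,0,2,0,2], [2,0,2,0,0,2,0,2,0,0,2], [2,0,0,2,0,2,0,0,2,0,2], [0,2,0,0,2,0,2,0,0,2,0], [2,0,2,0,0,2,0,2,0,0,2,0]]
def tr : List (List Nat) := [[], [0], [1], [0,0], [0,1], [1,0], [1,1], [0,0,1], [0,1,0], [0,1,1], [1,0,0], [1,0,1], [1,1,0], [1,1,1], [0,0,1,0], [0,0,1,1], [0,1,0,0], [0,1,0,1], [1,0,0,1], [1,1,0,0], [1,1,0,1], [0,0,1,0,0], [0,1,0,1,0], [1,1,0,1,0]]

/-- conjugating words -/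
def cw : List (List Nat) := [[], [19,40,10,22,31], [], [19,37,22,10,10,31], [], [], [], [37,22,19,37,31,22,10], [], [], [], [37,19,19,10,37], [], [], [40,19,31,19,37,10], [], [], [19,31,40,19,19], [], [19,31,37,10,19,19], [], [], [], [37,19,31,10,37,31], [], [], [], [37,22,37,10,40,10,37,22], [], [], [37,22,19,31,37,19,19,22], [], [37,19,10,37,19,22,37], [], [], [19,40,22,19,19,37,10], [], [], [], [], [], [], [], [], [40,10,40,19,19,31,40], [], [], [40,22,22,31,22], [31,40], [], [], [40,22,37,22,40,19,19,22], [], [], [], [], [], [], [], [], [40,10,40,19,40,37,40], [], [], [31,19,40,22,37,31], [37,22,10,37,22,37,10], [], [], [19,40,22,19,22,37,10,19], [], [37,10,37,19,40,31,22,37], [40,22,22,37,10,37,31], [], [], [], [], [], [], [], [], [], [19,19,22,40,10], [], [], [19,37,22,10,19,40], [], [40,19,37,19,22,31,10,37], [40,19,19,31], [], [], [], [],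 [], [], [], [], [], [37,19,10,37,10,19,22,37], [], [], [19,40,19,19,22,37], [], [], [], [], [], [40,10,37,19,22,40,10,10], [37,22,22], [], [], [], [], [], [40,37,40,10,19], [], [], [19,37,22,31,22,37,10], [], [], [], [], [], [37,22,37,10,19,31,10,40], [31,40,19,37,10,19,22], [], [], [], [], []]

end H10.J3DataT
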