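set_option autoImplicit false

/-! Data for the automorphisms of J3. -/

namespace H10.J3DataU

/-- word in the 45 generators -/
def aaW : List Nat := [44,12,10,40,19,19,22,5,40,19,10,22,40,19,40]
/-- words in s1, s2 -/
def bbW : List Nat := [0,1,0,1,0,0,1,0,0,1,0,0,1,1]
def ccW : List Nat := [0,1,1,0,0,1,1,0]
def ddW : List Nat := [1,0,1,1,1,0,1,1]
def aa : List (Nat × Nat) := [(0,2),(2,0),(5,0),(6,0),(7,0),(9,0),(11,0),(12,0),(16,0),(1,11),(3,1),(4,1),(5,1),(6,1),(8,1),(9,1),(10,1),(11,1),(13,1),(17,1),(0,2),(7,2),(12,2),(15,2),(17,2),(3,4),(4,3),(5,3),(7,3),(8,3),(9,3),(10,3),(11,3),(14,3),(15,3),(16,3),(0,4),(2,4),(3,4),(5,4),(6,4),(7,4),(8,4),(13,4),(14,4),(16,4),(5,6),(0,5),(2,5),(6,5),(7,5),(8,5),(9,5),(10,5),(15,5),(16,5),(0,6),(5,6),(7,6),(8,6),(11,6),(13,6),(16,6),(7,11),(0,7),(2,7),(5,7),(6,7),(8,7),(9,7),(11,7),(12,7),(15,7),(16,7),(17,7),(0,8),(6,8),(7,8)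,(11,8),(14,8),(15,8),(9,13),(0,9),(2,9),(3,9),(4,9),(10,9),(13,9),(10,14),(0,10),(1,10),(3,10),(4,10),(9,10),(11,10),(12,10),(13,10),(14,10),(16,10),(17,10),(1,11),(2,11),(3,11),(5,11),(7,11),(12,11),(16,11),(12,15),(1,12),(3,12),(4,12),(6,12),(7,12),(9,12),(13,12),(15,12),(16,12),(9,13),(11,13),(16,13),(17,13),(14,16),(2,14),(3,14),(4,14),(6,14),(8,14),(11,14),(12,14),(15,14),(16,14),(0,15),(1,15),(2,15),(3,15),(4,15),(5,15),(8,15),(10,15),(11,15),(14,15),(16,15),(2,16),(8,16),(10,16),(11,16),(14,16),(17,16),(1,17),(2,17),(3,17),(4,17),(6,17),(7,17),(8,17),(9,17),(10,17),(12,17),(13,17),(15,17),(16,17)]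
def bb : List (Nat × Nat) := [(16,17),(15,17),(14,17),(13,17),(11,17),(9,17),(6,17),(2,17),(0,17),(17,16),(14,16),(12,16),(11,16),(10,16),(8,16),(7,16),(3,16),(2,16),(1,16),(0,16),(16,15),(15,16),(17,14),(16,14),(14,17),(14,13),(0,13),(13,14),(15,12),(14,12),(1,12),(0,12),(12,15),(13,11),(11,13),(12,10),(10,12),(11,9),(6,9),(2,9),(9,11),(11,8),(10,8),(7,8),(3,8),(2,8),(8,10),(10,7),(6,7),(7,10),(11,6),(6,11),(7,3),(3,7),(6,2),(2,6),(15,1),(1,15),(14,0),(0,14)]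
def cc : List (Nat × Nat) := [(10,17),(8,17),(7,17),(6,17),(4,17),(3,17),(0,17),(11,16),(10,16),(9,16),(8,16),(7,16),(5,16),(4,16),(2,16),(1,16),(0,16),(13,15),(11,15),(10,15),(8,15),(7,15),(5,15),(4,15),(1,15),(16,14),(13,14),(12,14),(7,14),(5,14),(4,14),(1,14),(0,14),(17,13),(15,13),(12,13),(11,13),(9,13),(5,13),(4,13),(2,13),(0,13),(17,12),(16,12),(11,12),(7,12),(4,12),(2,12),(0,12),(16,11),(14,11),(12,11),(9,11),(6,11),(5,11),(1,11),(0,11),(17,10),(15,10),(12,10),(11,10),(9,10),(7,10),(5,10),(3,10),(2,10),(0,10),(17,9),(16,9),(15,9),(13,9),(10,9),(8,9),(5,9),(4,9),(2,9),(0,9),(13,8),(11,8),(6,8),(1,8),(0,8),(17,7),(14,7),(13,7),(12,7),(11,7),(6,7),(5,7),(3,7),(1,7),(0,7),(7,12),(16,6),(14,6),(11,6),(8,6),(7,6),(5,6),(4,6),(1,6),(17,5),(16,5),(15,5),(10,5),(9,5),(8,5),(4,5),(3,5),(5,8),(17,4),(16,4),(12,4),(11,4),(10,4),(7,4),(6,4),(1,4),(0,4),(4,12),(16,3),(15,3),(13,3),(12,3),(11,3),(10,3),(9,3),(8,3),(7,3),(1,3),(3,13),(17,2),(16,2),(14,2),(13,2),(11,2),(9,2),(6,2),(0,2),(2,14),(17,1),(16,1),(15,1),(10,1),(9,1),(8,1),(5,1),(4,1),(3,1),(17,0),(14,0),(11,0),(10,0),(9,0),(5,0),(2,0)]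
def dd : List (Nat × Nat) := [(10,17),(17,16),(11,16),(3,16),(2,16),(1,16),(0,16),(13,15),(8,15),(6,15),(13,14),(6,14),(14,13),(15,12),(14,12),(16,11),(10,11),(3,11),(1,11),(11,16),(17,10),(3,10),(2,10),(1,10),(0,10),(10,17),(14,9),(13,9),(6,9),(9,13),(15,8),(14,8),(12,8),(7,8),(6,8),(8,15),(15,7),(9,7),(8,7),(14,6),(9,6),(16,3),(11,3),(10,3),(17,2),(16,2),(11,2),(16,1),(11,1),(10,1),(17,0),(16,0),(11,0)]
def ph : List (Nat × Nat) := [(16,17),(15,17),(14,17),(14,16),(17,15),(14,15),(15,17),(16,14),(14,16),(12,13),(10,11),(9,11),(8,11),(8,10),(11,9),(8,9),(9,11),(10,8),(8,10),(6,7),(4,5),(3,5),(2,5),(2,4),(5,3),(2,3),(3,5),(4,2),(2,4),(0,1)]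
/-- images of the generators under the semilinear map -/
def phW : List (List Nat) := [[0], [1], [2], [6], [7], [8], [3], [4], [5], [9,9], [11,11], [10,10], [12,12], [14,14], [13,13], [15,15], [17,17], [16,16], [0], [20], [19], [21], [23], [22], [24], [26], [25], [0], [29], [28], [0], [32], [31], [33], [35], [34], [0], [38], [37], [39], [41], [40], [42], [44], [43]]

end H10.J3DataU
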