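import Cfsg.Agent.Lib.H10.J3Simple2

set_option autoImplicit false
set_option linter.unusedSectionVars false

/-! Orbits of 3.J3 on lines. -/

namespace H10.J3Lines

open H10.BitPar H10.BitOrb H10.J3Data H10.J3Data2 H10.J3Model H10.J3Comp H10.J3Order H10.J3Simple Cfsg.Spor

/-- mask of the vectors with nonzero coordinate `k` -/
def nzM (k : ℕ) : ℕ := Nat.lor (pat (Nat.mul 2 k) 18) (pat (Nat.succ (Nat.mul 2 k)) 18)

/-- sum of nine sets and a constant -/
def PS' (A : ℕ) (f : ℕ → ℕ) : ℕ := Nat.xor A (Nat.xor (f 0) (Nat.xor (f 1) (Nat.xor (f 2) (Nat.xor (f 3)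
  (Nat.xor (f 4) (Nat.xor (f 5) (Nat.xor (f 6) (Nat.xor (f 7) (f 8)))))))))

theorem testBit_PS' (A : ℕ) (f : ℕ → ℕ) (x : ℕ) : (PS' A f).testBit x = (A.testBit x ^^ ((f 0).testBit x ^^
    ((f 1).testBit x ^^ ((f 2).testBit x ^^ ((f 3).testBit x ^^ ((f 4).testBit x ^^ ((f 5).testBit x ^^
    ((f 6).testBit x ^^ ((f 7).testBit x ^^ (f 8).testBit x))))))))) := by
  show (A ^^^ (f 0 ^^^ (f 1 ^^^ (f 2 ^^^ (f 3 ^^^ (f 4 ^^^ (f 5 ^^^ (f 6 ^^^ (f 7 ^^^ f 8))))))))).testBit x = _
  simp only [Nat.testBit_xor]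

/-- the nonzero numbers -/
def ff (n : ℕ) : ℕ := Nat.xor (full n) 1

theorem testBit_ff (n x : ℕ) : (ff n).testBit x = (decide (x < 2 ^ n) ^^ decide (x = 0)) := by
  show (full n ^^^ 1).testBit x = _
  rw [Nat.testBit_xor, testBit_full]
  congr 1
  have : (1 : ℕ) = 2 ^ 0 := rfl
  rw [this, Nat.testBit_two_pow]
  exact decide_eq_decide.2 eq_comm

/-- the nonzero vectors of even weight -/
def PS : ℕ := PS' (ff 18) nzM

theorem chkPS : Nat.beq T1 PS = true := by decide +kernel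

theorem PS_def : PS = PS' (ff 18) nzM := rfl

attribute [irreducible] PS

theorem testBit_nzM {k x : ℕ} (hk : k < 9) (hx : x < 2 ^ 18) :
    (nzM k).testBit x = (x.testBit (2 * k) || x.testBit (2 * k + 1)) := by
  show (pat (2 * k) 18 ||| pat (2 * k + 1) 18).testBit x = _
  rw [Nat.testBit_lor, testBit_pat hx, testBit_pat hx]
  simp [show 2 * k < 18 by omega, show 2 * k + 1 < 18 by omega]

variable {F : Type*} [Field F] [Fintype F]

/-- indicator in the field -/
def bF (b : Bool) : F := if b then 1 else 0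

theorem bF_add {ω : F} (h : Good ω) (a b : Bool) : (bF a : F) + bF b = bF (a ^^ b) := by
  have := h.add_self 1
  cases a <;> cases b <;> simp [bF, this]

theorem cube_bb {ω : F} (h : Good ω) (p q : Bool) : (bb ω p q) ^ 3 = bF (p || q) := by
  have h1 := h.sq
  have h2 := h.two
  have h3 := H10.J3Simple.Good.cube h
  cases p <;> cases q
  · simp [bb, bF]
  · simp [bb, bF, h3]
  · simp [bb, bF]
  · simp only [bb, bF, if_true, Bool.or_self]
    linear_combination (ω + 4) * h1 + (4 * ω + 2) * h2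

theorem sum_cube {ω : F} (h : Good ω) (x : ℕ) (hx : x < 2 ^ 18) :
    ∑ z, (dec ω x z) ^ 3 = bF ((nzM 0).testBit x ^^ ((nzM 1).testBit x ^^ ((nzM 2).testBit x ^^ ((nzM 3).testBit x ^^
      ((nzM 4).testBit x ^^ ((nzM 5).testBit x ^^ ((nzM 6).testBit x ^^ ((nzM 7).testBit x ^^ (nzM 8).testBit x)))))))) := by
  have key : ∀ z : F9, (dec ω x z) ^ 3 = bF ((nzM (kz z)).testBit x) := by
    intro z
    show (bb ω _ _) ^ 3 = _
    rw [cube_bb h, testBit_nzM (kz_lt z) hx]
  rw [Finset.sum_congr rfl fun z _ => key z, Fintype.sum_prod_type]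
  have e3 : ∀ f : ZMod 3 → F, ∑ a, f a = f 0 + f 1 + f 2 := fun f => Fin.sum_univ_three f
  rw [e3, e3, e3, e3]
  have k00 : kz ((0, 0) : F9) = 0 := rfl
  have k01 : kz ((0, 1) : F9) = 1 := rfl
  have k02 : kz ((0, 2) : F9) = 2 := rfl
  have k10 : kz ((1, 0) : F9) = 3 := rfl
  have k11 : kz ((1, 1) : F9) = 4 := rfl
  have k12 : kz ((1, 2) : F9) = 5 := rfl
  have k20 : kz ((2, 0) : F9) = 6 := rfl
  have k21 : kz ((2, 1) : F9) = 7 := rfl
  have k22 : kz ((2, 2) : F9) = 8 := rfl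
  rw [k00, k01, k02, k10, k11, k12, k20, k21, k22]
  simp only [← bF_add h]
  ring

theorem mem_T1 (hF : Fintype.card F = 4) {ω : F} (h : Good ω) {v : F9 → F} (hv : v ≠ 0) (hs : ∑ z, (v z) ^ 3 = 0) :
    v ∈ toSet 18 (dec ω) T1 := by
  obtain ⟨x, hx, rfl⟩ := (coding hF h).surj v
  rw [mem_toSet (coding hF h) hx, Nat.eq_of_beq_eq_true chkPS, PS_def]
  have hx0 : x ≠ 0 := by
    rintro rfl
    exact hv (dec_zero (coding hF h))
  rw [sum_cube h x hx] at hs
  have h1 : ((nzM 0).testBit x ^^ ((nzM 1).testBit x ^^ ((nzM 2).testBit x ^^ ((nzM 3).testBit x ^^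
      ((nzM 4).testBit x ^^ ((nzM 5).testBit x ^^ ((nzM 6).testBit x ^^ ((nzM 7).testBit x ^^ (nzM 8).testBit x)))))))) = false := by
    generalize ((nzM 0).testBit x ^^ _) = b at hs
    cases b
    · rfl
    · exfalso; simp [bF] at hs
  rw [testBit_PS', testBit_ff, h1, decide_eq_true hx, decide_eq_false hx0]; rfl

theorem T1_orbit (hF : Fintype.card F = 4) {ω : F} (h : Good ω) : toSet 18 (dec ω) T1 ⊆ MulAction.orbit (HH ω) (dec ω 5) := by
  rw [T1_def]; exact bfs_orbit (coding hF h) (rep_bg hF h) 4 (by norm_num)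

theorem isotropic (hF : Fintype.card F = 4) {ω : F} (h : Good ω) {v w : F9 → F} (hv : v ≠ 0) (hw : w ≠ 0)
    (hv1 : ∑ z, (v z) ^ 3 = 0) (hw1 : ∑ z, (w z) ^ 3 = 0) :
    ∃ g ∈ threeJ3 F ω, (g : Matrix F9 F9 F).mulVec v = w := by
  obtain ⟨_, ⟨a, ha, rfl⟩, h1⟩ := mem_orbit_iff.1 (T1_orbit hF h (mem_T1 hF h hv hv1))
  obtain ⟨_, ⟨b, hb, rfl⟩, h2⟩ := mem_orbit_iff.1 (T1_orbit hF h (mem_T1 hF h hw hw1))
  refine ⟨b * a⁻¹, (threeJ3 F ω).mul_mem hb ((threeJ3 F ω).inv_mem ha), ?_⟩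
  show toPerm F (b * a⁻¹) v = w
  rw [map_mul, map_inv, ← h1, ← h2]
  show toPerm F b ((toPerm F a).symm (toPerm F a (dec ω 5))) = _
  rw [Equiv.symm_apply_apply]

theorem scal_cases (hF : Fintype.card F = 4) {ω : F} (h : Good ω) (c : F) (hc : c ≠ 0) : c = 1 ∨ c = ω ∨ c = ω ^ 2 := by
  obtain ⟨p, q, rfl⟩ := h.surj c
  cases p <;> cases q
  · exact absurd (bb_ff ω) hc
  · exact Or.inr (Or.inl (bb_ft ω))
  · exact Or.inl (bb_tf ω)
  · right; right; rw [h.sq]; simp [bb, add_comm]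

theorem omega_orbit (hF : Fintype.card F = 4) {ω : F} (h : Good ω) {u v : F9 → F} (hv : v ∈ MulAction.orbit (HH ω) u) :
    ω • v ∈ MulAction.orbit (HH ω) u := by
  obtain ⟨g, hg, hr⟩ := isRep_of_sameW hF h sameSc
  obtain ⟨x, hx, rfl⟩ := (coding hF h).surj v
  have h1 : g (dec ω x) = ω • dec ω x := by rw [hr x hx]; exact (scRep hF h x hx).symm
  obtain ⟨k, hk, hkv⟩ := mem_orbit_iff.1 hv
  exact mem_orbit_iff.2 ⟨g * k, (HH ω).mul_mem hg hk, by show g (k u) = _; rw [hkv, h1]⟩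

theorem lines (hF : Fintype.card F = 4) {ω : F} (h : Good ω) :
    {L : Submodule F (F9 → F) | ∃ g ∈ threeJ3 F ω, L = F ∙ ((g : Matrix F9 F9 F).mulVec (Pi.single (0 : F9) (1 : F)))}.ncard = 23256 := by
  classical
  have hc := coding hF h
  have h0 : dec ω 1 = Pi.single (0 : F9) (1 : F) := dec_single ω 0
  set O : Finset (F9 → F) := (Set.toFinite (MulAction.orbit (HH ω) (dec ω 1))).toFinset with hO
  have hOm : ∀ v, v ∈ O ↔ v ∈ MulAction.orbit (HH ω) (dec ω 1) := fun v => Set.Finite.mem_toFinset _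
  have hcO : O.card = 69768 := by
    rw [← facts.pc0, ← ncard_toSet hc, ← orbit_T0 hF h, hO, Set.ncard_eq_toFinset_card]
  have himg : {L : Submodule F (F9 → F) | ∃ g ∈ threeJ3 F ω, L = F ∙ ((g : Matrix F9 F9 F).mulVec (Pi.single (0 : F9) (1 : F)))} =
      ((O.image fun v => F ∙ v : Finset (Submodule F (F9 → F))) : Set (Submodule F (F9 → F))) := by
    ext L
    simp only [Finset.coe_image, Set.mem_image, Finset.mem_coe]
    constructor
    · rintro ⟨g, hg, rfl⟩
      refine ⟨_, (hOm _).2 (mem_orbit_iff.2 ⟨toPerm F g, ⟨g, hg, rfl⟩, rfl⟩), ?_⟩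
      rw [toPerm_apply, h0]
    · rintro ⟨v, hv, rfl⟩
      obtain ⟨_, ⟨g, hg, rfl⟩, rfl⟩ := mem_orbit_iff.1 ((hOm v).1 hv)
      exact ⟨g, hg, by rw [toPerm_apply, h0]⟩
  rw [himg, Set.ncard_coe_finset]
  have hne : ∀ v ∈ O, v ≠ 0 := by
    intro v hv h1
    obtain ⟨g, hg, h2⟩ := mem_orbit_iff.1 ((hOm v).1 hv)
    have h3 : g 0 = 0 := by
      have := smul_HH ω hg 0 0
      rwa [zero_smul, zero_smul] at this
    have h4 : dec ω 1 = 0 := g.injective (by rw [h2, h3, h1])
    rw [h0] at h4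
    have := congrFun h4 0
    rw [Pi.single_eq_same] at this
    exact one_ne_zero this
  have hfib : ∀ L ∈ O.image (fun v => F ∙ v), (O.filter fun v => F ∙ v = L).card = 3 := by
    intro L hL
    obtain ⟨v, hv, rfl⟩ := Finset.mem_image.1 hL
    have hv0 := hne v hv
    have h3 : (O.filter fun u => F ∙ u = F ∙ v) = {v, ω • v, ω ^ 2 • v} := by
      ext u
      simp only [Finset.mem_filter, Finset.mem_insert, Finset.mem_singleton]
      constructor
      · rintro ⟨hu, huv⟩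
        have h4 : u ∈ F ∙ v := by rw [← huv]; exact Submodule.mem_span_singleton_self u
        obtain ⟨c, rfl⟩ := Submodule.mem_span_singleton.1 h4
        have hc0 : c ≠ 0 := by
          rintro rfl
          rw [zero_smul] at hu
          exact hne _ hu rfl
        rcases scal_cases hF h c hc0 with rfl | rfl | rfl
        · left; rw [one_smul]
        · right; left; rfl
        · right; right; rfl
      · have hsp : ∀ c : F, c ≠ 0 → F ∙ (c • v) = F ∙ v := fun c hc0 =>
          Submodule.span_singleton_smul_eq (IsUnit.mk0 c hc0) v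
        have h5 : ω • v ∈ O := (hOm _).2 (omega_orbit hF h ((hOm v).1 hv))
        have h6 : ω ^ 2 • v ∈ O := by
          have : ω ^ 2 • v = ω • (ω • v) := by rw [smul_smul, pow_two]
          rw [this]
          exact (hOm _).2 (omega_orbit hF h ((hOm _).1 h5))
        rintro (rfl | rfl | rfl)
        · exact ⟨hv, rfl⟩
        · exact ⟨h5, hsp ω h.ne0⟩
        · exact ⟨h6, hsp _ (pow_ne_zero 2 h.ne0)⟩
    rw [h3]
    have hinj : ∀ c d : F, c • v = d • v → c = d := by
      intro c d hcd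
      by_contra hne'
      have : (c - d) • v = 0 := by rw [sub_smul, hcd, sub_self]
      rcases smul_eq_zero.1 this with h7 | h7
      · exact hne' (sub_eq_zero.1 h7)
      · exact hv0 h7
    have n1 : v ≠ ω • v := by
      intro e
      have := hinj 1 ω (by rw [one_smul]; exact e)
      exact h.ne1 this.symm
    have n2 : v ≠ ω ^ 2 • v := by
      intro e
      have := hinj 1 (ω ^ 2) (by rw [one_smul]; exact e)
      rw [h.sq] at this
      exact h.ne0 (by linear_combination -this)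
    have n3 : ω • v ≠ ω ^ 2 • v := by
      intro e
      have := hinj ω (ω ^ 2) e
      rw [h.sq] at this
      exact one_ne_zero (α := F) (by linear_combination -this)
    rw [Finset.card_insert_of_notMem, Finset.card_insert_of_notMem, Finset.card_singleton]
    · rw [Finset.mem_singleton]; exact n3
    · rw [Finset.mem_insert, Finset.mem_singleton]; push Not; exact ⟨n1, n2⟩
  have h7 := Finset.card_eq_sum_card_image (fun v => F ∙ v) O
  rw [Finset.sum_congr rfl hfib, Finset.sum_const, hcO, smul_eq_mul] at h7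
  omega

end H10.J3Lines
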