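import Cfsg.Agent.Lib.H10.J3WComp

set_option autoImplicit false
set_option linter.unusedSectionVars false

/-! J3 as a permutation group of degree 6156. -/

namespace H10.J3W

open H10.BitPar H10.BitOrb H10.J3Data H10.J3DataW H10.J3Comp H10.J3Order H10.J3Model H10.J3Simple Cfsg.Spor

structure Facts : Prop where
  inv : invAll 18 sg Wn = true
  pcW : pc 18 Wn = 255
  m5 : Wn.testBit 5 = true
  pcS : pc 18 TS = 24480
  pc1 : pc 18 T1 = 130815
  nd : nodupB imgSets = true
  lt : allLt (Nat.pow 2 (Nat.pow 2 18)) imgSets = true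

theorem factsW : Facts := by
  have h := chkW_eq
  unfold chkW at h
  obtain ⟨h1, h⟩ := cond_tt h
  obtain ⟨h2, h⟩ := cond_tt h
  obtain ⟨h3, h⟩ := cond_tt h
  obtain ⟨h4, h⟩ := cond_tt h
  obtain ⟨h5, h⟩ := cond_tt h
  obtain ⟨h6, h⟩ := cond_tt h
  obtain ⟨h7, h⟩ := cond_tt h
  exact ⟨h1, Nat.eq_of_beq_eq_true h2, (tb_eq _ _).symm.trans h3, Nat.eq_of_beq_eq_true h4, Nat.eq_of_beq_eq_true h5,
    h6, h7⟩

theorem invAll_mem {n : ℕ} {gens : List (List (ℕ × ℕ))} {S : ℕ} (h : invAll n gens S = true) :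
    ∀ l ∈ gens, runS n l S = S := by
  induction gens with
  | nil => intro l hl; simp at hl
  | cons g gens ih =>
    have h2 : cond (Nat.beq (runS n g S) S) (invAll n gens S) false = true := h
    obtain ⟨h3, h2⟩ := cond_tt h2
    intro l hl
    rcases List.mem_cons.1 hl with rfl | hl
    · exact Nat.eq_of_beq_eq_true h3
    · exact ih h2 l hl

variable {F : Type*} [Field F] [Fintype F]

/-- the stabilizer of the subspace -/
def SW (ω : F) : Subgroup (Equiv.Perm (F9 → F)) := sstab (HH ω) (toSet 18 (dec ω) Wn)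

theorem rep_sg (hF : Fintype.card F = 4) {ω : F} (h : Good ω) :
    ∀ l ∈ sg, okOps 18 l = true ∧ IsRep 18 (dec ω) (SW ω) l := by
  intro l hl
  have hok := okAll_mem ok_sg l hl
  refine ⟨hok, ?_⟩
  have h1 : IsRep 18 (dec ω) (HH ω) l := by
    have hl' := hl
    simp only [sg, List.mem_cons, List.not_mem_nil, or_false] at hl'
    rcases hl' with rfl | rfl | rfl
    · exact isRep_of_sameW hF h samewa
    · exact isRep_of_sameW hF h samewb
    · exact isRep_of_sameW hF h sameSc
  exact h1.sstab (coding hF h) hok (invAll_mem factsW.inv l hl)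

theorem rep_lg (hF : Fintype.card F = 4) {ω : F} (h : Good ω) :
    ∀ l ∈ lg, okOps 18 l = true ∧ IsRep 18 (dec ω) (stab (HH ω) (dec ω 5)) l := by
  intro l hl
  refine ⟨okAll_mem ok_lg l hl, ?_⟩
  simp only [lg, List.mem_cons, List.not_mem_nil, or_false] at hl
  rcases hl with rfl | rfl
  · exact IsRep.stab (coding hF h) (by norm_num) (isRep_of_sameW hF h samewc) fixwc
  · exact IsRep.stab (coding hF h) (by norm_num) (isRep_of_sameW hF h samewd) fixwd

theorem card_SW_ge (hF : Fintype.card F = 4) {ω : F} (h : Good ω) : 24480 ≤ Nat.card (SW ω) := by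
  rw [← factsW.pcS, TS_def]
  exact le_card (coding hF h) (rep_sg hF h) 15 (by norm_num)

theorem card_stab5 (hF : Fintype.card F = 4) {ω : F} (h : Good ω) :
    130815 * Nat.card (stab (HH ω) (dec ω 5)) ≤ 150698880 := by
  rw [← factsW.pc1, T1_def, ← card_threeJ3 hF h, ← card_HH]
  exact le_card_mul (coding hF h) (rep_bg hF h) 4 (by norm_num)

theorem card_SW_le (hF : Fintype.card F = 4) {ω : F} (h : Good ω) : Nat.card (SW ω) ≤ 24480 := by
  have hc := coding hF h
  have h5 : dec ω 5 ∈ toSet 18 (dec ω) Wn := by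
    rw [mem_toSet hc (by norm_num)]; exact factsW.m5
  have h1 := card_eq (SW ω) (dec ω 5)
  have h2 : (MulAction.orbit (SW ω) (dec ω 5)).ncard ≤ 255 := by
    rw [← factsW.pcW, ← ncard_toSet hc]
    exact Set.ncard_le_ncard (orbit_sstab h5) (Set.toFinite _)
  have h3 : stab (SW ω) (dec ω 5) = sstab (stab (HH ω) (dec ω 5)) (toSet 18 (dec ω) Wn) := stab_sstab _ _ _
  have h4 : 12 * Nat.card (sstab (stab (HH ω) (dec ω 5)) (toSet 18 (dec ω) Wn)) ≤ Nat.card (stab (HH ω) (dec ω 5)) := by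
    have hws : ∀ l ∈ imgs, okOps 18 l = true ∧ IsRep 18 (dec ω) (stab (HH ω) (dec ω 5)) l := by
      intro l hl
      obtain ⟨w, _, rfl⟩ := List.mem_map.1 hl
      exact wOps_rep (rep_lg hF h) w
    have hlt : ∀ l ∈ imgs, runS 18 l Wn < 2 ^ 2 ^ 18 := by
      intro l hl
      exact allLt_iff factsW.lt _ (List.mem_map_of_mem hl)
    exact index_sstab_ge hc hws hlt (nodupB_iff factsW.nd)
  have h6 := card_stab5 hF h
  rw [h1, h3]
  have h7 : Nat.card (sstab (stab (HH ω) (dec ω 5)) (toSet 18 (dec ω) Wn)) ≤ 96 := by omega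
  calc _ ≤ 255 * 96 := Nat.mul_le_mul h2 h7
    _ = 24480 := by norm_num

theorem card_SW (hF : Fintype.card F = 4) {ω : F} (h : Good ω) : Nat.card (SW ω) = 24480 :=
  le_antisymm (card_SW_le hF h) (card_SW_ge hF h)

/-- image in J3 of a subgroup of `Perm V` -/
def toJ (ω : F) (S : Subgroup (Equiv.Perm (F9 → F))) : Subgroup (J3 F ω) :=
  ((S.comap (toPerm F)).subgroupOf (threeJ3 F ω)).map (QuotientGroup.mk' (Subgroup.center (threeJ3 F ω)))

theorem comap_center {ω : F} {S : Subgroup (Equiv.Perm (F9 → F))} (hF : Fintype.card F = 4) (h : Good ω)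
    {s : threeJ3 F ω} (hs : ((s : GL F9 F) : Matrix F9 F9 F) = Matrix.diagonal fun _ => ω)
    (hsS : toPerm F (s : GL F9 F) ∈ S) :
    Subgroup.center (threeJ3 F ω) ≤ (S.comap (toPerm F)).subgroupOf (threeJ3 F ω) := by
  rw [center_eq hF h hs, Subgroup.zpowers_le]
  exact hsS

theorem index_toJ {ω : F} {S : Subgroup (Equiv.Perm (F9 → F))} (hF : Fintype.card F = 4) (h : Good ω)
    (hS : S ≤ HH ω) {s : threeJ3 F ω} (hs : ((s : GL F9 F) : Matrix F9 F9 F) = Matrix.diagonal fun _ => ω)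
    (hsS : toPerm F (s : GL F9 F) ∈ S) :
    (toJ ω S).index * Nat.card S = 150698880 := by
  have h1 : (toJ ω S).index = ((S.comap (toPerm F)).subgroupOf (threeJ3 F ω)).index := by
    unfold toJ
    apply Subgroup.index_map_eq _ (QuotientGroup.mk'_surjective _)
    rw [QuotientGroup.ker_mk']
    exact comap_center hF h hs hsS
  have h2 : Nat.card S = Nat.card ((S.comap (toPerm F)).subgroupOf (threeJ3 F ω)) := by
    have h3 : ((S.comap (toPerm F)).subgroupOf (threeJ3 F ω)).map ((toPerm F).comp (threeJ3 F ω).subtype) = S := by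
      ext g
      constructor
      · rintro ⟨m, hm, rfl⟩
        exact hm
      · intro hg
        obtain ⟨m, hm, rfl⟩ := hS hg
        exact ⟨⟨m, hm⟩, hg, rfl⟩
    have h4 : Function.Injective ((toPerm F).comp (threeJ3 F ω).subtype) :=
      toPerm_injective.comp (threeJ3 F ω).subtype_injective
    conv_lhs => rw [← h3]
    exact (Nat.card_congr (Subgroup.equivMapOfInjective _ _ h4).toEquiv).symm
  rw [h1, h2, mul_comm, Subgroup.card_mul_index, card_threeJ3 hF h]

theorem s_mem_SW (hF : Fintype.card F = 4) {ω : F} (h : Good ω) {s : threeJ3 F ω}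
    (hs : ((s : GL F9 F) : Matrix F9 F9 F) = Matrix.diagonal fun _ => ω) : toPerm F (s : GL F9 F) ∈ SW ω := by
  have hr : Rep 18 (dec ω) (toPerm F (s : GL F9 F)) sc := by
    intro x hx
    rw [← scRep hF h x hx, toPerm_apply, hs]
    funext z
    simp only [Matrix.mulVec_diagonal]
    rfl
  refine ⟨⟨s, s.2, rfl⟩, fun v => ?_⟩
  have := mem_runS (coding hF h) ok_sc hr Wn v
  rw [invAll_mem factsW.inv sc (by simp [sg])] at this
  exact this

/-- J3 as a permutation group of degree 6156 -/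
theorem realization : ∃ H : Subgroup (Equiv.Perm (Fin 6156)), Cfsg.IsJ3 H ∧ MulAction.IsPretransitive H (Fin 6156) ∧
    Nat.card (MulAction.stabilizer H (0 : Fin 6156)) = 8160 := by
  obtain ⟨F, _, _, ω, hF, hω⟩ := H10.J3Unitary.exists_field
  have h := good hF hω
  obtain ⟨s, hs⟩ := exists_s hF h
  have h1 := index_toJ hF h (sstab_le (HH ω) _) hs (s_mem_SW hF h hs)
  have h2 : Nat.card (SW ω) = 24480 := card_SW hF h
  have h3 : (toJ ω (SW ω)).index = 6156 := by
    have : (toJ ω (SW ω)).index * Nat.card (SW ω) = 150698880 := h1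
    rw [h2] at this; omega
  have hsimp := simple_J3 hF h
  have h4 : toJ ω (SW ω) ≠ ⊤ := by
    intro h5
    rw [h5, Subgroup.index_top] at h3
    omega
  obtain ⟨H, e, hH, hst⟩ := H10.PermReal.exists_perm (toJ ω (SW ω)) h3 h4
  refine ⟨H, ?_, hH, ?_⟩
  · exact ⟨e.isSimpleGroup_congr.1 hsimp, (Nat.card_congr e.toEquiv).symm.trans (card_J3 hF h)⟩
  · obtain ⟨f⟩ := H10.PermReal.stabilizer_equiv e hst
    rw [← Nat.card_congr f.toEquiv]
    have h6 := (toJ ω (SW ω)).card_mul_index
    rw [h3, card_J3 hF h] at h6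
    omega

end H10.J3W
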