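import Cfsg.Agent.Lib.H10.J3TComp
import Cfsg.Agent.Lib.H10.J3WMain

set_option autoImplicit false
set_option linter.unusedSectionVars false

/-! The centralizer of an involution of J3. -/

namespace H10.BitOrb

open H10.BitPar H10.J3Comp H10.J3Order

variable {n : ℕ} {V : Type*} [AddCommGroup V] {dec : ℕ → V}

theorem testBit_ofList {L : List ℕ} {x : ℕ} : (ofList L).testBit x = true ↔ x ∈ L := by
  induction L with
  | nil => simp [ofList]
  | cons y L ih =>
    have h1 : ofList (y :: L) = 2 ^ y ||| ofList L := rfl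
    rw [h1, Nat.testBit_or, Bool.or_eq_true, ih, Nat.testBit_two_pow, List.mem_cons, decide_eq_true_eq, eq_comm]

/-- conjugation by a finite order element -/
theorem mem_normalizer_of_conj {G : Type*} [Group G] {Q : Subgroup G} [Finite Q] {g : G}
    (h : ∀ q ∈ Q, g * q * g⁻¹ ∈ Q) : g ∈ Subgroup.normalizer (Q : Set G) := by
  have h1 : Q.map (MulAut.conj g).toMonoidHom ≤ Q := by
    rintro _ ⟨q, hq, rfl⟩
    exact h q hq
  have h2 : Q.map (MulAut.conj g).toMonoidHom = Q := by
    apply Subgroup.eq_of_le_of_card_ge h1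
    rw [Nat.card_congr (Q.equivMapOfInjective (MulAut.conj g).toMonoidHom (MulAut.conj g).injective).toEquiv]
  rw [Subgroup.mem_normalizer_iff]
  intro x
  constructor
  · exact h x
  · intro hx
    have hx' : g * x * g⁻¹ ∈ Q := hx
    rw [← h2] at hx'
    obtain ⟨q, hq, hqx⟩ := hx'
    have h3 : g * q * g⁻¹ = g * x * g⁻¹ := hqx
    have h4 : q = x := by simpa using h3
    rw [← h4]; exact hq

end H10.BitOrb

namespace H10.J3T

open H10.BitPar H10.BitOrb H10.BitTab H10.J3Data H10.J3DataT H10.J3Comp H10.J3Order H10.J3Tab H10.J3Model H10.J3Simple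
open Cfsg.Spor

theorem all_of {α : Type*} {p : α → Bool} {L : List α} (h : L.all p = true) : ∀ x ∈ L, p x = true := by
  rwa [List.all_eq_true] at h

theorem range_all {p : ℕ → Bool} {k : ℕ} (h : (List.range k).all p = true) : ∀ x < k, p x = true :=
  fun x hx => all_of h x (List.mem_range.2 hx)

theorem tabT : TabOK 18 9 tg C0 C1 :=
  ⟨by norm_num, by norm_num, okAll_mem ok_tg, C0_def, C1_def⟩

theorem et_eq {w : List ℕ} (hw : ∀ i ∈ w, i < 11) {x : ℕ} (hx : x < 2 ^ 18) : et w x = runF (wOps tg w) x :=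
  evP_eq tabT hw hx

theorem ok_wOps (w : List ℕ) : okOps 18 (wOps tg w) = true := by
  induction w with
  | nil => rfl
  | cons i w ih =>
    have h1 : wOps tg (i :: w) = tg.getD i [] ++ wOps tg w := by simp [wOps]
    rw [h1]
    refine okOps_append ?_ ih
    by_cases hi : i < tg.length
    · rw [List.getD_eq_getElem _ _ hi]; exact okAll_mem ok_tg _ (List.getElem_mem hi)
    · rw [List.getD_eq_default _ _ (not_lt.1 hi)]; rfl

theorem ok_letter (i : ℕ) : okOps 18 (tg.getD i []) = true := by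
  have := ok_wOps [i]
  have h1 : wOps tg [i] = tg.getD i [] := by simp [wOps]
  rwa [h1] at this

section
variable {V : Type*} [AddCommGroup V] {dc : ℕ → V} (hc : Coding 18 dc)

/-- the letters -/
noncomputable def L (i : ℕ) : Equiv.Perm V := act hc (tg.getD i [])
/-- the words -/
noncomputable def W (w : List ℕ) : Equiv.Perm V := act hc (wOps tg w)

theorem W_nil : W hc [] = 1 := act_nil hc
theorem W_append (w v : List ℕ) : W hc (w ++ v) = W hc v * W hc w := by
  have h1 : wOps tg (w ++ v) = wOps tg w ++ wOps tg v := by simp [wOps]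
  unfold W
  rw [h1, act_append hc (ok_wOps w) (ok_wOps v)]
theorem W_single (i : ℕ) : W hc [i] = L hc i := by
  have h1 : wOps tg [i] = tg.getD i [] := by simp [wOps]
  unfold W L
  rw [h1]
theorem W_cons (i : ℕ) (w : List ℕ) : W hc (i :: w) = W hc w * L hc i := by
  have : i :: w = [i] ++ w := rfl
  rw [this, W_append, W_single]

theorem W_dec {w : List ℕ} (hw : ∀ i ∈ w, i < 11) {x : ℕ} (hx : x < 2 ^ 18) : W hc w (dc x) = dc (et w x) := by
  unfold W
  rw [act_dec hc (ok_wOps w) hx, et_eq hw hx]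

theorem et_lt {w : List ℕ} (hw : ∀ i ∈ w, i < 11) {x : ℕ} (hx : x < 2 ^ 18) : et w x < 2 ^ 18 := by
  rw [et_eq hw hx]; exact runF_lt (ok_wOps w) hx

theorem W_mem {K : Subgroup (Equiv.Perm V)} {w : List ℕ} (h : ∀ i ∈ w, L hc i ∈ K) : W hc w ∈ K := by
  induction w with
  | nil => rw [W_nil]; exact K.one_mem
  | cons i w ih =>
    rw [W_cons]
    exact K.mul_mem (ih fun i hi => h i (List.mem_cons_of_mem _ hi)) (h i List.mem_cons_self)

theorem W_of_sameE {w : List ℕ} (hw : ∀ i ∈ w, i < 11) {l : List (ℕ × ℕ)} (hl : okOps 18 l = true) (h : sameE w l = true) :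
    W hc w = act hc l := by
  apply act_eq_of_sameOps hc (ok_wOps w) hl
  rw [sameOps_iff]
  intro k hk
  have h1 := Nat.eq_of_beq_eq_true (range_all h k hk)
  rw [runG_eq] at h1
  rw [← et_eq hw (Nat.pow_lt_pow_right (by norm_num) hk)]
  exact h1

theorem W_of_sameEE {w v : List ℕ} (hw : ∀ i ∈ w, i < 11) (hv : ∀ i ∈ v, i < 11) (h : sameEE w v = true) :
    W hc w = W hc v := by
  apply act_eq_of_sameOps hc (ok_wOps w) (ok_wOps v)
  rw [sameOps_iff]
  intro k hk
  have h1 := Nat.eq_of_beq_eq_true (range_all h k hk)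
  rw [← et_eq hw (Nat.pow_lt_pow_right (by norm_num) hk), ← et_eq hv (Nat.pow_lt_pow_right (by norm_num) hk)]
  exact h1

/-- orbits of generated groups given by words -/
theorem orbit_words {gens : List (List (ℕ × ℕ))} (hok : okAll 18 gens = true) {S b : ℕ} {ws : List (List ℕ)} (hb : b < 2 ^ 18)
    (hS : S = ofList (ws.map fun w => et w b)) (hinv : invAll 18 gens S = true) (hbS : S.testBit b = true)
    (hlt : ∀ w ∈ ws, ∀ i ∈ w, i < 11) (hmem : ∀ w ∈ ws, W hc w ∈ gen hc gens) :
    MulAction.orbit (gen hc gens) (dc b) = toSet 18 dc S := by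
  apply Set.Subset.antisymm
  · exact Inv.orbit_subset hc (inv_gen hc hok hinv) hb hbS
  · rintro _ ⟨x, hx, hxS, rfl⟩
    rw [hS, testBit_ofList] at hxS
    obtain ⟨w, hw, rfl⟩ := List.mem_map.1 hxS
    rw [mem_orbit_iff]
    exact ⟨W hc w, hmem w hw, W_dec hc (hlt w hw) hb⟩

end

end H10.J3T
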