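import Cfsg.Agent.Lib.H10.J3T

set_option autoImplicit false
set_option linter.unusedSectionVars false

/-! The centralizer of an involution of J3: order and subgroups. -/

namespace H10.J3T

open H10.BitPar H10.BitOrb H10.BitTab H10.J3Data H10.J3DataT H10.J3Comp H10.J3Order H10.J3Tab H10.J3Model H10.J3Simple
open Cfsg.Spor

structure FactsB : Prop where
  pc1 : pc 18 SC1 = 1920
  pcK : pc 18 SK = 5760
  pcU : pc 18 US = 256
  u5 : US.testBit 5 = true
  inv1 : invAll 18 c1g SC1 = true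
  invK : invAll 18 kkg SK = true
  nd : nodupB imgSets = true
  lt : allLt (Nat.pow 2 (Nat.pow 2 18)) imgSets = true
  m1 : SC1.testBit 17 = true
  mK : SK.testBit 17 = true
  z1 : SC1.testBit (runF sc 17) = false
  z2 : SC1.testBit (runF sc (runF sc 17)) = false

theorem factsB : FactsB := by
  have h := chkB_eq
  unfold chkB at h
  obtain ⟨h1, h⟩ := cond_tt h
  obtain ⟨h2, h⟩ := cond_tt h
  obtain ⟨h3, h⟩ := cond_tt h
  obtain ⟨h4, h⟩ := cond_tt h
  obtain ⟨h5, h⟩ := cond_tt h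
  obtain ⟨h6, h⟩ := cond_tt h
  obtain ⟨h7, h⟩ := cond_tt h
  obtain ⟨h8, h⟩ := cond_tt h
  obtain ⟨h9, h⟩ := cond_tt h
  obtain ⟨h10, h⟩ := cond_tt h
  obtain ⟨h11, h⟩ := cond_ff h
  obtain ⟨h12, _⟩ := cond_ff h
  exact ⟨Nat.eq_of_beq_eq_true h1, Nat.eq_of_beq_eq_true h2, Nat.eq_of_beq_eq_true h3, (tb_eq _ _).symm.trans h4,
    h5, h6, h7, h8, (tb_eq _ _).symm.trans h9, (tb_eq _ _).symm.trans h10, (tb_eq _ _).symm.trans h11,
    (tb_eq _ _).symm.trans h12⟩

structure FactsR : Prop where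
  a : sameE oaW oa = true
  q1 : sameE q1W q1 = true
  q2 : sameE q2W q2 = true
  q3 : sameE q3W q3 = true
  q4 : sameE q4W q4 = true
  t : sameE otW ot = true
  u : sameE ouW ou = true
  v : sameE ovW ov = true
  c0 : sameEE [7, 0] [0, 7] = true
  c1 : sameEE [7, 1] [1, 7] = true

theorem factsR : FactsR := by
  have h := chkR1_eq
  unfold chkR1 at h
  obtain ⟨h1, h⟩ := cond_tt h
  obtain ⟨h2, h⟩ := cond_tt h
  obtain ⟨h3, h⟩ := cond_tt h
  obtain ⟨h4, h⟩ := cond_tt h
  obtain ⟨h5, h⟩ := cond_tt h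
  obtain ⟨h6, h⟩ := cond_tt h
  obtain ⟨h7, h⟩ := cond_tt h
  obtain ⟨h8, h⟩ := cond_tt h
  obtain ⟨h9, h⟩ := cond_tt h
  exact ⟨h1, h2, h3, h4, h5, h6, h7, h8, h9, h⟩

structure FactsS : Prop where
  invQ : invAll 18 qg SQ = true
  invH : invAll 18 hg SH = true
  invP : invAll 18 pg SP = true
  pcQ : pc 18 SQ = 32
  pcH : pc 18 SH = 60
  pcP : pc 18 SP = 128
  int : Nat.land SQ SH = Nat.pow 2 17
  tQ : SQ.testBit (et [7] 17) = true
  q : qChk = true
  pair : pairChk = true
  z : zChk = true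
  n : nChk = true
  ra : eq17 [2, 2] [] = true
  rb : eq17 [0, 0, 0] [] = true
  rab : eq17 [0, 2, 0, 2, 0, 2, 0, 2, 0, 2] [] = true
  rt : eq17 [7, 7] [] = true
  rq : eq17 [4, 4] [7] = true
  mQ : SQ.testBit 17 = true
  mP : SP.testBit 17 = true
  mH : SH.testBit 17 = true
  nc : eq17 [3, 4] [4, 3] = false
  tne : eq17 [7] [] = false

theorem factsS : FactsS := by
  have h := chkR2_eq
  unfold chkR2 at h
  obtain ⟨h1, h⟩ := cond_tt h
  obtain ⟨h2, h⟩ := cond_tt h
  obtain ⟨h3, h⟩ := cond_tt h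
  obtain ⟨h4, h⟩ := cond_tt h
  obtain ⟨h5, h⟩ := cond_tt h
  obtain ⟨h6, h⟩ := cond_tt h
  obtain ⟨h7, h⟩ := cond_tt h
  obtain ⟨h8, h⟩ := cond_tt h
  obtain ⟨h9, h⟩ := cond_tt h
  obtain ⟨h10, h⟩ := cond_tt h
  obtain ⟨h11, h⟩ := cond_tt h
  obtain ⟨h12, h⟩ := cond_tt h
  obtain ⟨h13, h⟩ := cond_tt h
  obtain ⟨h14, h⟩ := cond_tt h
  obtain ⟨h15, h⟩ := cond_tt h
  obtain ⟨h16, h⟩ := cond_tt h
  obtain ⟨h17, h⟩ := cond_tt h
  obtain ⟨h18, h⟩ := cond_tt h
  obtain ⟨h19, h⟩ := cond_tt h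
  obtain ⟨h20, h⟩ := cond_tt h
  obtain ⟨h21, h⟩ := cond_ff h
  obtain ⟨h22, _⟩ := cond_ff h
  exact ⟨h1, h2, h3, Nat.eq_of_beq_eq_true h4, Nat.eq_of_beq_eq_true h5, Nat.eq_of_beq_eq_true h6,
    Nat.eq_of_beq_eq_true h7, (tb_eq _ _).symm.trans h8, h9, h10, h11, h12, h13, h14, h15, h16, h17,
    (tb_eq _ _).symm.trans h18, (tb_eq _ _).symm.trans h19, (tb_eq _ _).symm.trans h20, h21, h22⟩

structure FactsJ : Prop where
  s1 : sameV s1W s1 = true
  s2 : sameV s2W s2 = true
  lc : sameV lcW lc = true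
  ld : sameV ldW ld = true
  cj : conjChk cw 0 = true

theorem factsJ : FactsJ := by
  have h := chkJ_eq
  unfold chkJ at h
  obtain ⟨h1, h⟩ := cond_tt h
  obtain ⟨h2, h⟩ := cond_tt h
  obtain ⟨h3, h⟩ := cond_tt h
  obtain ⟨h4, h⟩ := cond_tt h
  exact ⟨h1, h2, h3, h4, h⟩

variable {F : Type*} [Field F] [Fintype F] (hF : Fintype.card F = 4) {ω : F} (h : Good ω)

theorem okW_lt {w : List ℕ} (hw : okW w = true) : ∀ i ∈ w, i < 45 := by
  intro i hi
  have := all_of hw i hi
  simpa [Nat.blt] using this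

include hF h in
theorem isRep_of_sameV {w : List ℕ} {l : List (ℕ × ℕ)} (hs : sameV w l = true) : IsRep 18 (dec ω) (HH ω) l := by
  obtain ⟨h1, h2⟩ := cond_tt hs
  refine IsRep.congr (coding hF h) (additive_HH ω) (isRep_word hF h (w := w) (okW_lt h1)) ?_
  intro k hk
  have h3 := Nat.eq_of_beq_eq_true (range_all h2 k hk)
  rw [runG_eq] at h3
  rw [← ev_eq (okW_lt h1) (Nat.pow_lt_pow_right (by norm_num) hk)]
  exact h3

/-- the generated groups -/
noncomputable def GC : Subgroup (Equiv.Perm (F9 → F)) := gen (coding hF h) c1g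
noncomputable def GK : Subgroup (Equiv.Perm (F9 → F)) := gen (coding hF h) kkg
noncomputable def GQ : Subgroup (Equiv.Perm (F9 → F)) := gen (coding hF h) qg
noncomputable def GH : Subgroup (Equiv.Perm (F9 → F)) := gen (coding hF h) hg
noncomputable def GP : Subgroup (Equiv.Perm (F9 → F)) := gen (coding hF h) pg

theorem ok_ot : okOps 18 ot = true := ok_letter 7
theorem ok_s1 : okOps 18 s1 = true := okAll_mem ok_tg s1 (by simp [tg])
theorem ok_s2 : okOps 18 s2 = true := okAll_mem ok_tg s2 (by simp [tg])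

theorem L_mem_HH01 : L (coding hF h) 0 ∈ HH ω ∧ L (coding hF h) 1 ∈ HH ω :=
  ⟨(act_mem _ ok_s1).2 (isRep_of_sameV hF h factsJ.s1), (act_mem _ ok_s2).2 (isRep_of_sameV hF h factsJ.s2)⟩

theorem GC_le_HH : GC hF h ≤ HH ω := by
  apply gen_le
  intro l hl
  simp only [c1g, List.mem_cons, List.not_mem_nil, or_false] at hl
  rcases hl with rfl | rfl
  · exact (L_mem_HH01 hF h).1
  · exact (L_mem_HH01 hF h).2

theorem L0_GC : L (coding hF h) 0 ∈ GC hF h := act_mem_gen _ (by simp [c1g, tg])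
theorem L1_GC : L (coding hF h) 1 ∈ GC hF h := act_mem_gen _ (by simp [c1g, tg])

theorem W01 {w : List ℕ} (hw : ∀ i ∈ w, i < 2) : W (coding hF h) w ∈ GC hF h := by
  apply W_mem
  intro i hi
  have := hw i hi
  interval_cases i
  · exact L0_GC hF h
  · exact L1_GC hF h

theorem L2 : L (coding hF h) 2 = W (coding hF h) oaW :=
  (W_of_sameE _ (by decide) (ok_letter 2) factsR.a).symm
theorem L3 : L (coding hF h) 3 = W (coding hF h) q1W :=
  (W_of_sameE _ (by decide) (ok_letter 3) factsR.q1).symm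
theorem L4 : L (coding hF h) 4 = W (coding hF h) q2W :=
  (W_of_sameE _ (by decide) (ok_letter 4) factsR.q2).symm
theorem L5 : L (coding hF h) 5 = W (coding hF h) q3W :=
  (W_of_sameE _ (by decide) (ok_letter 5) factsR.q3).symm
theorem L6 : L (coding hF h) 6 = W (coding hF h) q4W :=
  (W_of_sameE _ (by decide) (ok_letter 6) factsR.q4).symm
theorem L7 : L (coding hF h) 7 = W (coding hF h) otW :=
  (W_of_sameE _ (by decide) (ok_letter 7) factsR.t).symm
theorem L8 : L (coding hF h) 8 = W (coding hF h) ouW :=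
  (W_of_sameE _ (by decide) (ok_letter 8) factsR.u).symm
theorem L9 : L (coding hF h) 9 = W (coding hF h) ovW :=
  (W_of_sameE _ (by decide) (ok_letter 9) factsR.v).symm

theorem L2_GC : L (coding hF h) 2 ∈ GC hF h := by rw [L2 hF h]; exact W01 hF h (by decide)

theorem L_GC {i : ℕ} (hi : i < 10) : L (coding hF h) i ∈ GC hF h := by
  have h02 : ∀ w : List ℕ, (∀ i ∈ w, i = 0 ∨ i = 2) → W (coding hF h) w ∈ GC hF h := by
    intro w hw
    apply W_mem
    intro i hi
    rcases hw i hi with rfl | rfl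
    · exact L0_GC hF h
    · exact L2_GC hF h
  interval_cases i
  · exact L0_GC hF h
  · exact L1_GC hF h
  · exact L2_GC hF h
  · rw [L3 hF h]; exact W01 hF h (by decide)
  · rw [L4 hF h]; exact W01 hF h (by decide)
  · rw [L5 hF h]; exact W01 hF h (by decide)
  · rw [L6 hF h]; exact W01 hF h (by decide)
  · rw [L7 hF h]; exact W01 hF h (by decide)
  · rw [L8 hF h]; exact h02 _ (by decide)
  · rw [L9 hF h]; exact h02 _ (by decide)

/-- the involution -/
noncomputable def T : Equiv.Perm (F9 → F) := L (coding hF h) 7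

/-- its centralizer in 3.J3 -/
noncomputable def CT : Subgroup (Equiv.Perm (F9 → F)) := HH ω ⊓ Subgroup.centralizer {T hF h}

theorem mem_CT {g : Equiv.Perm (F9 → F)} : g ∈ CT hF h ↔ g ∈ HH ω ∧ g * T hF h = T hF h * g := by
  unfold CT
  rw [Subgroup.mem_inf, Subgroup.mem_centralizer_singleton_iff]

theorem GC_le_CT : GC hF h ≤ CT hF h := by
  apply gen_le
  intro l hl
  simp only [c1g, List.mem_cons, List.not_mem_nil, or_false] at hl
  rcases hl with rfl | rfl
  · refine (mem_CT hF h).2 ⟨(L_mem_HH01 hF h).1, ?_⟩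
    have := W_of_sameEE (coding hF h) (w := [7, 0]) (v := [0, 7]) (by decide) (by decide) factsR.c0
    rw [W_cons, W_single, W_cons, W_single] at this
    exact this
  · refine (mem_CT hF h).2 ⟨(L_mem_HH01 hF h).2, ?_⟩
    have := W_of_sameEE (coding hF h) (w := [7, 1]) (v := [1, 7]) (by decide) (by decide) factsR.c1
    rw [W_cons, W_single, W_cons, W_single] at this
    exact this

theorem sc_smul (v : F9 → F) : act (coding hF h) sc v = ω • v := by
  obtain ⟨x, hx, rfl⟩ := (coding hF h).surj v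
  rw [act_dec _ ok_sc hx]
  exact (scRep hF h x hx).symm

theorem sc_comm {g : Equiv.Perm (F9 → F)} (hg : g ∈ HH ω) :
    g * act (coding hF h) sc = act (coding hF h) sc * g := by
  ext1 v
  show g (act (coding hF h) sc v) = act (coding hF h) sc (g v)
  rw [sc_smul hF h, sc_smul hF h, smul_HH ω hg]

theorem sc_HH : act (coding hF h) sc ∈ HH ω := (act_mem _ ok_sc).2 (isRep_of_sameW hF h sameSc)

theorem GK_le_CT : GK hF h ≤ CT hF h := by
  apply gen_le
  intro l hl
  simp only [kkg, List.mem_cons, List.not_mem_nil, or_false] at hl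
  rcases hl with rfl | rfl | rfl
  · exact GC_le_CT hF h (L0_GC hF h)
  · exact GC_le_CT hF h (L1_GC hF h)
  · refine (mem_CT hF h).2 ⟨sc_HH hF h, ?_⟩
    exact (sc_comm hF h (GC_le_HH hF h (L_GC hF h (by norm_num)))).symm

theorem orbit_GC : MulAction.orbit (GC hF h) (dec ω 17) = toSet 18 (dec ω) SC1 :=
  orbit_gen (coding hF h) ok_c1g (k := 10) (by norm_num) SC1_def factsB.inv1 factsB.m1

theorem orbit_GK : MulAction.orbit (GK hF h) (dec ω 17) = toSet 18 (dec ω) SK := by
  have hc := coding hF h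
  apply Set.Subset.antisymm
  · exact Inv.orbit_subset hc (inv_gen hc ok_kkg factsB.invK) (by norm_num) factsB.mK
  · intro v hv
    rw [SK_def] at hv
    have hsc : ∀ l ∈ [sc], okOps 18 l = true ∧ IsRep 18 (dec ω) (GK hF h) l := by
      intro l hl
      rw [List.mem_singleton.1 hl]
      exact ⟨ok_sc, (act_mem hc ok_sc).1 (act_mem_gen hc (by simp [kkg]))⟩
    obtain ⟨u, hu, h1⟩ := bfs_sound hc hsc 2 _ hv
    rw [← orbit_GC hF h] at hu
    have h2 : GC hF h ≤ GK hF h := by
      apply gen_le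
      intro l hl
      apply act_mem_gen
      simp only [c1g, List.mem_cons, List.not_mem_nil, or_false] at hl
      rcases hl with rfl | rfl <;> simp [kkg]
    obtain ⟨g, hg, rfl⟩ := mem_orbit_iff.1 hu
    exact orbit_trans' (mem_orbit_iff.2 ⟨g, h2 hg, rfl⟩) h1

theorem add_CT : Additive' (CT hF h) := (additive_HH ω).mono inf_le_left

include hF h in
theorem card_US_stab : Nat.card (sstab (HH ω) (toSet 18 (dec ω) US)) ≤ 12240 := by
  have hc := coding hF h
  have h5 : dec ω 5 ∈ toSet 18 (dec ω) US := by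
    rw [mem_toSet hc (by norm_num)]; exact factsB.u5
  have h1 := card_eq (sstab (HH ω) (toSet 18 (dec ω) US)) (dec ω 5)
  have h50 : dec ω 5 ≠ 0 := by
    intro h0
    rw [← dec_zero hc] at h0
    exact absurd (hc.inj _ _ (by norm_num) (by norm_num) h0) (by norm_num)
  have h2 : (MulAction.orbit (sstab (HH ω) (toSet 18 (dec ω) US)) (dec ω 5)).ncard ≤ 255 := by
    have h3 : MulAction.orbit (sstab (HH ω) (toSet 18 (dec ω) US)) (dec ω 5) ⊆ toSet 18 (dec ω) US \ {0} := by
      intro v hv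
      refine ⟨orbit_sstab h5 hv, ?_⟩
      rintro rfl
      obtain ⟨g, hg, hg0⟩ := mem_orbit_iff.1 hv
      have h6 : g 0 = 0 := by
        have := additive_HH ω g hg.1 0 0
        rw [add_zero] at this
        have h7 : g 0 + 0 = g 0 + g 0 := by rw [add_zero]; exact this
        exact (add_left_cancel h7).symm
      exact h50 (g.injective (hg0.trans h6.symm))
    have h0 : (0 : F9 → F) ∈ toSet 18 (dec ω) US := by
      have h4 : dec ω 5 + dec ω 5 = 0 := add_self hc _
      rw [US_def, toSet_spanS hc (lt_movedL ok_ot)]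
      exact AddSubgroup.zero_mem _
    calc _ ≤ (toSet 18 (dec ω) US \ {0}).ncard := Set.ncard_le_ncard h3 (Set.toFinite _)
      _ = 255 := by
        rw [Set.ncard_sdiff_singleton_of_mem h0, ncard_toSet hc, factsB.pcU]
  have h3 : stab (sstab (HH ω) (toSet 18 (dec ω) US)) (dec ω 5) = sstab (stab (HH ω) (dec ω 5)) (toSet 18 (dec ω) US) := stab_sstab _ _ _
  have h4 : 24 * Nat.card (sstab (stab (HH ω) (dec ω 5)) (toSet 18 (dec ω) US)) ≤ Nat.card (stab (HH ω) (dec ω 5)) := by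
    have hlg : ∀ l ∈ lg, okOps 18 l = true ∧ IsRep 18 (dec ω) (stab (HH ω) (dec ω 5)) l := by
      intro l hl
      refine ⟨okAll_mem ok_lg l hl, ?_⟩
      simp only [lg, List.mem_cons, List.not_mem_nil, or_false] at hl
      rcases hl with rfl | rfl
      · exact IsRep.stab hc (by norm_num) (isRep_of_sameV hF h factsJ.lc) fixlc
      · exact IsRep.stab hc (by norm_num) (isRep_of_sameV hF h factsJ.ld) fixld
    have hws : ∀ l ∈ imgs, okOps 18 l = true ∧ IsRep 18 (dec ω) (stab (HH ω) (dec ω 5)) l := by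
      intro l hl
      obtain ⟨w, _, rfl⟩ := List.mem_map.1 hl
      exact wOps_rep hlg w
    have hlt : ∀ l ∈ imgs, runS 18 l US < 2 ^ 2 ^ 18 := by
      intro l hl
      exact allLt_iff factsB.lt _ (List.mem_map_of_mem hl)
    exact index_sstab_ge hc hws hlt (nodupB_iff factsB.nd)
  have h6 := H10.J3W.card_stab5 hF h
  rw [h1, h3]
  have h7 : Nat.card (sstab (stab (HH ω) (dec ω 5)) (toSet 18 (dec ω) US)) ≤ 48 := by omega
  calc _ ≤ 255 * 48 := Nat.mul_le_mul h2 h7
    _ = 12240 := by norm_num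

theorem CT_le_sstab : CT hF h ≤ sstab (HH ω) (toSet 18 (dec ω) US) := by
  intro g hg
  rw [US_def]
  exact centralizer_le_sstab (coding hF h) (additive_HH ω) (ok_letter 7) (GC_le_HH hF h (L_GC hF h (by norm_num)))
    hg.1 ((mem_CT hF h).1 hg).2

theorem card_CT : Nat.card (CT hF h) = 5760 := by
  have hc := coding hF h
  have h1 : Nat.card (CT hF h) ≤ 12240 :=
    (Nat.card_le_card_of_injective _ (Subgroup.inclusion_injective (CT_le_sstab hF h))).trans (card_US_stab hF h)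
  have h2 : 5760 ∣ Nat.card (CT hF h) := by
    refine Dvd.dvd.trans ?_ (Subgroup.card_dvd_of_le (GK_le_CT hF h))
    rw [card_eq (GK hF h) (dec ω 17), orbit_GK hF h, ncard_toSet hc, factsB.pcK]
    exact Dvd.intro _ rfl
  have h3 : Nat.card (CT hF h) ∣ 150698880 := by
    rw [← card_threeJ3 hF h, ← card_HH]
    exact Subgroup.card_dvd_of_le inf_le_left
  obtain ⟨m, hm⟩ := h2
  have h4 : 0 < Nat.card (CT hF h) := Nat.card_pos
  have h5 : m = 1 ∨ m = 2 := by omega
  rcases h5 with rfl | rfl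
  · exact hm
  · rw [hm] at h3
    exact absurd h3 (by norm_num)

theorem baseCT : Base 18 (dec ω) (CT hF h) [17] := by
  have hc := coding hF h
  apply base_of_card hc (by norm_num)
  rw [card_CT hF h, ← factsB.pcK, ← ncard_toSet hc, ← orbit_GK hF h]
  apply Set.ncard_le_ncard _ (Set.toFinite _)
  intro v hv
  obtain ⟨g, hg, rfl⟩ := mem_orbit_iff.1 hv
  exact mem_orbit_iff.2 ⟨g, GK_le_CT hF h hg, rfl⟩

theorem card_GC : Nat.card (GC hF h) = 1920 := by
  rw [card_of_base (coding hF h) ((baseCT hF h).mono (GC_le_CT hF h)) (orbit_GC hF h), factsB.pc1]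

end H10.J3T
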