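import Cfsg.Agent.Lib.H10.J3T2
import Cfsg.Agent.Lib.H3.Extraspecial
import Cfsg.Agent.Lib.H56.Heis
import Cfsg.Agent.Lib.H60.Ord60

set_option autoImplicit false
set_option linter.unusedSectionVars false

/-! Structure of the centralizer of an involution: 2^{1+4}:A5. -/

namespace H10.J3T

open H10.BitPar H10.BitOrb H10.BitTab H10.J3Data H10.J3DataT H10.J3Comp H10.J3Order H10.J3Tab H10.J3Model H10.J3Simple
open Cfsg.Spor
open scoped commutatorElement

variable {F : Type*} [Field F] [Fintype F] (hF : Fintype.card F = 4) {ω : F} (h : Good ω)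

theorem W_GC {w : List ℕ} (hw : ∀ i ∈ w, i < 10) : W (coding hF h) w ∈ GC hF h :=
  W_mem _ fun i hi => L_GC hF h (hw i hi)

theorem W_CT {w : List ℕ} (hw : ∀ i ∈ w, i < 10) : W (coding hF h) w ∈ CT hF h := GC_le_CT hF h (W_GC hF h hw)

theorem eq17_iff {w v : List ℕ} (hw : ∀ i ∈ w, i < 10) (hv : ∀ i ∈ v, i < 10) :
    eq17 w v = true ↔ W (coding hF h) w = W (coding hF h) v := by
  have hc := coding hF h
  have hw' : ∀ i ∈ w, i < 11 := fun i hi => (hw i hi).trans (by norm_num)
  have hv' : ∀ i ∈ v, i < 11 := fun i hi => (hv i hi).trans (by norm_num)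
  have h17 : (17 : ℕ) < 2 ^ 18 := by norm_num
  constructor
  · intro e
    have e' : et w 17 = et v 17 := Nat.eq_of_beq_eq_true e
    apply (baseCT hF h).eq (W_CT hF h hw) (W_CT hF h hv)
    intro b hb
    rw [List.mem_singleton.1 hb, W_dec _ hw' h17, W_dec _ hv' h17, e']
  · intro e
    have e1 := congrArg (fun g : Equiv.Perm (F9 → F) => g (dec ω 17)) e
    simp only [W_dec (coding hF h) hw' h17, W_dec (coding hF h) hv' h17] at e1
    have e2 := hc.inj _ _ (et_lt hw' h17) (et_lt hv' h17) e1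
    show Nat.beq (et w 17) (et v 17) = true
    rw [e2, Nat.beq_eq]

theorem L3_GQ : L (coding hF h) 3 ∈ GQ hF h := act_mem_gen _ (by simp [qg, tg])
theorem L4_GQ : L (coding hF h) 4 ∈ GQ hF h := act_mem_gen _ (by simp [qg, tg])
theorem L5_GQ : L (coding hF h) 5 ∈ GQ hF h := act_mem_gen _ (by simp [qg, tg])
theorem L6_GQ : L (coding hF h) 6 ∈ GQ hF h := act_mem_gen _ (by simp [qg, tg])

theorem t_sq : L (coding hF h) 4 * L (coding hF h) 4 = T hF h := by
  have := (eq17_iff hF h (w := [4, 4]) (v := [7]) (by decide) (by decide)).1 factsS.rq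
  rw [W_cons, W_single, W_single] at this
  exact this

theorem T_GQ : T hF h ∈ GQ hF h := by
  rw [← t_sq]; exact (GQ hF h).mul_mem (L4_GQ hF h) (L4_GQ hF h)

theorem L_GQ {i : ℕ} (hi : 3 ≤ i ∧ i < 8) : L (coding hF h) i ∈ GQ hF h := by
  obtain ⟨h1, h2⟩ := hi
  interval_cases i
  · exact L3_GQ hF h
  · exact L4_GQ hF h
  · exact L5_GQ hF h
  · exact L6_GQ hF h
  · exact T_GQ hF h

theorem GQ_le_GC : GQ hF h ≤ GC hF h := by
  apply gen_le
  intro l hl
  simp only [qg, List.mem_cons, List.not_mem_nil, or_false] at hl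
  rcases hl with rfl | rfl | rfl | rfl
  · exact L_GC hF h (i := 3) (by norm_num)
  · exact L_GC hF h (i := 4) (by norm_num)
  · exact L_GC hF h (i := 5) (by norm_num)
  · exact L_GC hF h (i := 6) (by norm_num)

theorem GH_le_GC : GH hF h ≤ GC hF h := by
  apply gen_le
  intro l hl
  simp only [hg, List.mem_cons, List.not_mem_nil, or_false] at hl
  rcases hl with rfl | rfl
  · exact L_GC hF h (i := 2) (by norm_num)
  · exact L_GC hF h (i := 0) (by norm_num)

theorem GP_le_GC : GP hF h ≤ GC hF h := by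
  apply gen_le
  intro l hl
  simp only [pg, List.mem_cons, List.not_mem_nil, or_false] at hl
  rcases hl with rfl | rfl | rfl | rfl | rfl | rfl
  · exact L_GC hF h (i := 3) (by norm_num)
  · exact L_GC hF h (i := 4) (by norm_num)
  · exact L_GC hF h (i := 5) (by norm_num)
  · exact L_GC hF h (i := 6) (by norm_num)
  · exact L_GC hF h (i := 8) (by norm_num)
  · exact L_GC hF h (i := 9) (by norm_num)

theorem GQ_le_GP : GQ hF h ≤ GP hF h := by
  apply gen_le
  intro l hl
  apply act_mem_gen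
  simp only [qg, List.mem_cons, List.not_mem_nil, or_false] at hl
  rcases hl with rfl | rfl | rfl | rfl <;> simp [pg]

theorem bw32 : ∀ m < 32, ∀ i ∈ bw m, 3 ≤ i ∧ i < 8 := by decide +kernel
theorem bw128 : ∀ m < 128, ∀ i ∈ bw m, 3 ≤ i ∧ i < 10 := by decide +kernel
theorem hws_ok : ∀ w ∈ hws, ∀ i ∈ w, i = 0 ∨ i = 2 := by decide +kernel

theorem tab_eq (k : ℕ) : tab (fun m => et (bw m) 17) k = ((List.range k).map bw).map fun w => et w 17 := by
  rw [List.map_map]; rfl

theorem orbit_GQ : MulAction.orbit (GQ hF h) (dec ω 17) = toSet 18 (dec ω) SQ := by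
  refine orbit_words (coding hF h) ok_qg (ws := (List.range 32).map bw) (by norm_num) ?_ factsS.invQ factsS.mQ ?_ ?_
  · rw [SQ_def, tab_eq]
  · intro w hw i hi
    obtain ⟨m, hm, rfl⟩ := List.mem_map.1 hw
    exact (bw32 m (List.mem_range.1 hm) i hi).2.trans (by norm_num)
  · intro w hw
    obtain ⟨m, hm, rfl⟩ := List.mem_map.1 hw
    exact W_mem _ fun i hi => L_GQ hF h (bw32 m (List.mem_range.1 hm) i hi)

theorem L_GP {i : ℕ} (hi : 3 ≤ i ∧ i < 10) : L (coding hF h) i ∈ GP hF h := by
  obtain ⟨h1, h2⟩ := hi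
  rcases (by omega : i < 8 ∨ i = 8 ∨ i = 9) with h3 | rfl | rfl
  · exact GQ_le_GP hF h (L_GQ hF h ⟨h1, h3⟩)
  · exact act_mem_gen _ (by simp [pg, tg])
  · exact act_mem_gen _ (by simp [pg, tg])

theorem orbit_GP : MulAction.orbit (GP hF h) (dec ω 17) = toSet 18 (dec ω) SP := by
  refine orbit_words (coding hF h) ok_pg (ws := (List.range 128).map bw) (by norm_num) ?_ factsS.invP factsS.mP ?_ ?_
  · rw [SP_def, tab_eq]
  · intro w hw i hi
    obtain ⟨m, hm, rfl⟩ := List.mem_map.1 hw
    exact (bw128 m (List.mem_range.1 hm) i hi).2.trans (by norm_num)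
  · intro w hw
    obtain ⟨m, hm, rfl⟩ := List.mem_map.1 hw
    exact W_mem _ fun i hi => L_GP hF h (bw128 m (List.mem_range.1 hm) i hi)

theorem L_GH {i : ℕ} (hi : i = 0 ∨ i = 2) : L (coding hF h) i ∈ GH hF h := by
  rcases hi with rfl | rfl
  · exact act_mem_gen _ (by simp [hg, tg])
  · exact act_mem_gen _ (by simp [hg, tg])

theorem orbit_GH : MulAction.orbit (GH hF h) (dec ω 17) = toSet 18 (dec ω) SH := by
  refine orbit_words (coding hF h) ok_hg (ws := hws) (by norm_num) SH_def factsS.invH factsS.mH ?_ ?_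
  · intro w hw i hi
    rcases hws_ok w hw i hi with rfl | rfl <;> norm_num
  · intro w hw
    exact W_mem _ fun i hi => L_GH hF h (hws_ok w hw i hi)

theorem baseGC : Base 18 (dec ω) (GC hF h) [17] := (baseCT hF h).mono (GC_le_CT hF h)

theorem card_GQ : Nat.card (GQ hF h) = 32 := by
  rw [card_of_base (coding hF h) ((baseGC hF h).mono (GQ_le_GC hF h)) (orbit_GQ hF h), factsS.pcQ]
theorem card_GH : Nat.card (GH hF h) = 60 := by
  rw [card_of_base (coding hF h) ((baseGC hF h).mono (GH_le_GC hF h)) (orbit_GH hF h), factsS.pcH]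
theorem card_GP : Nat.card (GP hF h) = 128 := by
  rw [card_of_base (coding hF h) ((baseGC hF h).mono (GP_le_GC hF h)) (orbit_GP hF h), factsS.pcP]

theorem GQ_inf_GH : GQ hF h ⊓ GH hF h = ⊥ := by
  have hc := coding hF h
  rw [eq_bot_iff]
  rintro g ⟨h1, h2⟩
  have h3 := (mem_iff_of_base (GQ_le_GC hF h) (baseGC hF h) (orbit_GQ hF h) (GQ_le_GC hF h h1)).1 h1
  have h4 := (mem_iff_of_base (GH_le_GC hF h) (baseGC hF h) (orbit_GH hF h) (GQ_le_GC hF h h1)).1 h2
  have h5 : g (dec ω 17) ∈ toSet 18 (dec ω) (Nat.land SQ SH) := by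
    rw [toSet_inter hc]; exact ⟨h3, h4⟩
  rw [factsS.int, toSet_pow hc (by norm_num), Set.mem_singleton_iff] at h5
  rw [Subgroup.mem_bot]
  refine (baseGC hF h).one g (GQ_le_GC hF h h1) ?_
  intro b hb
  rw [List.mem_singleton.1 hb]; exact h5

/-- every element of `Q` is one of the 32 words -/
theorem exists_word_Q {g : Equiv.Perm (F9 → F)} (hg : g ∈ GQ hF h) : ∃ m < 32, g = W (coding hF h) (bw m) := by
  have hc := coding hF h
  have h1 := (mem_iff_of_base (GQ_le_GC hF h) (baseGC hF h) (orbit_GQ hF h) (GQ_le_GC hF h hg)).1 hg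
  obtain ⟨x, hx, hxS, he⟩ := h1
  rw [SQ_def, testBit_ofList] at hxS
  obtain ⟨m, hm, rfl⟩ := List.mem_map.1 hxS
  have hm' := List.mem_range.1 hm
  refine ⟨m, hm', ?_⟩
  have hlt : ∀ i ∈ bw m, i < 10 := fun i hi => (bw32 m hm' i hi).2.trans (by norm_num)
  apply (baseGC hF h).eq (GQ_le_GC hF h hg) (W_GC hF h hlt)
  intro b hb
  rw [List.mem_singleton.1 hb, W_dec _ (fun i hi => (hlt i hi).trans (by norm_num)) (by norm_num)]
  exact he.symm

theorem exists_word_P {g : Equiv.Perm (F9 → F)} (hg : g ∈ GP hF h) : ∃ m < 128, g = W (coding hF h) (bw m) := by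
  have hc := coding hF h
  have h1 := (mem_iff_of_base (GP_le_GC hF h) (baseGC hF h) (orbit_GP hF h) (GP_le_GC hF h hg)).1 hg
  obtain ⟨x, hx, hxS, he⟩ := h1
  rw [SP_def, testBit_ofList] at hxS
  obtain ⟨m, hm, rfl⟩ := List.mem_map.1 hxS
  have hm' := List.mem_range.1 hm
  refine ⟨m, hm', ?_⟩
  have hlt : ∀ i ∈ bw m, i < 10 := fun i hi => (bw128 m hm' i hi).2
  apply (baseGC hF h).eq (GP_le_GC hF h hg) (W_GC hF h hlt)
  intro b hb
  rw [List.mem_singleton.1 hb, W_dec _ (fun i hi => (hlt i hi).trans (by norm_num)) (by norm_num)]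
  exact he.symm

/-! ### normality of `Q` -/

theorem conj_mem {i j : ℕ} {l : List (ℕ × ℕ)} (hi : i ∈ [3, 4, 5, 6]) (hj : j = 0 ∨ j = 1) (hl : l = tg.getD j [])
    (ht : tb SQ (et [i, j] (runG l.reverse 17)) = true) :
    L (coding hF h) j * L (coding hF h) i * (L (coding hF h) j)⁻¹ ∈ GQ hF h := by
  have hc := coding hF h
  have hok : okOps 18 l = true := by rw [hl]; exact ok_letter j
  have hj10 : j < 10 := by rcases hj with rfl | rfl <;> norm_num
  have hi8 : 3 ≤ i ∧ i < 8 := by
    simp only [List.mem_cons, List.not_mem_nil, or_false] at hi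
    rcases hi with rfl | rfl | rfl | rfl <;> norm_num
  have hmem : L (coding hF h) j * L (coding hF h) i * (L (coding hF h) j)⁻¹ ∈ GC hF h :=
    (GC hF h).mul_mem ((GC hF h).mul_mem (L_GC hF h hj10) (L_GC hF h (by omega))) ((GC hF h).inv_mem (L_GC hF h hj10))
  rw [mem_iff_of_base (GQ_le_GC hF h) (baseGC hF h) (orbit_GQ hF h) hmem]
  have h1 : (L (coding hF h) j)⁻¹ (dec ω 17) = dec ω (runG l.reverse 17) := by
    have : (L (coding hF h) j)⁻¹ = act (coding hF h) l.reverse := by
      rw [act_reverse _ hok, hl]; rfl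
    rw [this, act_dec _ (okOps_reverse hok) (by norm_num), runG_eq]
  have hlt : runG l.reverse 17 < 2 ^ 18 := by
    rw [runG_eq]; exact runF_lt (okOps_reverse hok) (by norm_num)
  have hij : ∀ k ∈ [i, j], k < 11 := by
    intro k hk
    simp only [List.mem_cons, List.not_mem_nil, or_false] at hk
    rcases hk with rfl | rfl <;> omega
  have h2 : (L (coding hF h) j * L (coding hF h) i * (L (coding hF h) j)⁻¹) (dec ω 17) = dec ω (et [i, j] (runG l.reverse 17)) := by
    rw [← W_dec (coding hF h) hij hlt, ← h1, W_cons, W_single]; rfl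
  rw [h2, mem_toSet hc (et_lt hij hlt)]
  exact (tb_eq _ _).symm.trans ht

theorem GC_normalizes : GC hF h ≤ Subgroup.normalizer (GQ hF h : Set (Equiv.Perm (F9 → F))) := by
  have hfin := finite_V (coding hF h)
  have hn := factsS.n
  have key : ∀ i ∈ [3, 4, 5, 6], tb SQ (et [i, 0] (runG s1.reverse 17)) = true ∧ tb SQ (et [i, 1] (runG s2.reverse 17)) = true := by
    intro i hi
    exact cond_tt (all_of hn i hi)
  have hconj : ∀ j, j = 0 ∨ j = 1 → ∀ q ∈ GQ hF h, L (coding hF h) j * q * (L (coding hF h) j)⁻¹ ∈ GQ hF h := by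
    intro j hj
    have h1 : GQ hF h ≤ (GQ hF h).comap (MulAut.conj (L (coding hF h) j)).toMonoidHom := by
      apply gen_le
      intro l hl
      simp only [qg, List.mem_cons, List.not_mem_nil, or_false] at hl
      have h2 : ∀ i ∈ [3, 4, 5, 6], L (coding hF h) j * L (coding hF h) i * (L (coding hF h) j)⁻¹ ∈ GQ hF h := by
        intro i hi
        rcases hj with rfl | rfl
        · exact conj_mem hF h hi (Or.inl rfl) (l := s1) rfl (key i hi).1
        · exact conj_mem hF h hi (Or.inr rfl) (l := s2) rfl (key i hi).2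
      rcases hl with rfl | rfl | rfl | rfl
      · exact h2 3 (by simp)
      · exact h2 4 (by simp)
      · exact h2 5 (by simp)
      · exact h2 6 (by simp)
    exact fun q hq => h1 hq
  apply gen_le
  intro l hl
  simp only [c1g, List.mem_cons, List.not_mem_nil, or_false] at hl
  rcases hl with rfl | rfl
  · exact mem_normalizer_of_conj (hconj 0 (Or.inl rfl))
  · exact mem_normalizer_of_conj (hconj 1 (Or.inr rfl))

/-! ### `Q` is extraspecial -/

theorem T_sq : T hF h * T hF h = 1 := by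
  have := (eq17_iff hF h (w := [7, 7]) (v := []) (by decide) (by decide)).1 factsS.rt
  rw [W_cons, W_single, W_nil] at this
  exact this

theorem T_ne : T hF h ≠ 1 := by
  intro e
  have h1 : W (coding hF h) [7] = W (coding hF h) [] := by rw [W_single, W_nil]; exact e
  have := (eq17_iff hF h (w := [7]) (v := []) (by decide) (by decide)).2 h1
  rw [factsS.tne] at this
  exact absurd this (by simp)

theorem T_comm {g : Equiv.Perm (F9 → F)} (hg : g ∈ CT hF h) : g * T hF h = T hF h * g := ((mem_CT hF h).1 hg).2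

/-- elements commuting with `A` up to the central involution `t` -/
def centT {G : Type*} [Group G] (t : G) (ht : t * t = 1) (C : Subgroup G) (hC : ∀ g ∈ C, g * t = t * g) (A : Set G) :
    Subgroup G where
  carrier := {y | y ∈ C ∧ ∀ x ∈ A, x * y = y * x ∨ x * y = y * x * t}
  one_mem' := ⟨C.one_mem, fun x _ => Or.inl (by simp)⟩
  mul_mem' := by
    rintro a b ⟨ha, ha'⟩ ⟨hb, hb'⟩
    refine ⟨C.mul_mem ha hb, fun x hx => ?_⟩
    rcases ha' x hx with h1 | h1 <;> rcases hb' x hx with h2 | h2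
    · left
      rw [← mul_assoc, h1, mul_assoc, h2, mul_assoc]
    · right
      rw [← mul_assoc, h1, mul_assoc, h2]; simp only [mul_assoc]
    · right
      rw [← mul_assoc, h1, mul_assoc (a * x), ← hC b hb, ← mul_assoc, mul_assoc a x b, h2]; simp only [mul_assoc]
    · left
      rw [← mul_assoc, h1, mul_assoc (a * x), ← hC b hb, ← mul_assoc, mul_assoc a x b, h2, mul_assoc a, mul_assoc (b * x),
        ht, mul_one, mul_assoc a]
  inv_mem' := by
    rintro a ⟨ha, ha'⟩
    refine ⟨C.inv_mem ha, fun x hx => ?_⟩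
    rcases ha' x hx with h1 | h1
    · left
      rw [eq_inv_mul_iff_mul_eq, ← mul_assoc, ← h1, mul_assoc, mul_inv_cancel, mul_one]
    · right
      have h3 : a * t = t * a := hC a ha
      have h4 : x * a * t = a * x := by rw [h1, mul_assoc, ht, mul_one]
      have h5 : x * t * a = a * x := by rw [mul_assoc, ← h3, ← mul_assoc, h4]
      have h6 : a⁻¹ * x * t = a⁻¹ * (x * t * a) * a⁻¹ := by group
      rw [h6, h5]; group

end H10.J3T
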