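import Cfsg.Agent.Lib.H10.J3T3

set_option autoImplicit false
set_option linter.unusedSectionVars false

/-! Structure of the centralizer of an involution: 2^{1+4}:A5, second part. -/

namespace H10.J3T

open H10.BitPar H10.BitOrb H10.BitTab H10.J3Data H10.J3DataT H10.J3Comp H10.J3Order H10.J3Tab H10.J3Model H10.J3Simple
open Cfsg.Spor
open scoped commutatorElement

variable {F : Type*} [Field F] [Fintype F] (hF : Fintype.card F = 4) {ω : F} (h : Good ω)

theorem GQ_le_CT : GQ hF h ≤ CT hF h := (GQ_le_GC hF h).trans (GC_le_CT hF h)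

theorem gens_rel {i j : ℕ} (hi : i ∈ [3, 4, 5, 6]) (hj : j ∈ [3, 4, 5, 6]) :
    L (coding hF h) i * L (coding hF h) j = L (coding hF h) j * L (coding hF h) i ∨
    L (coding hF h) i * L (coding hF h) j = L (coding hF h) j * L (coding hF h) i * T hF h := by
  have hlt : ∀ k ∈ [3, 4, 5, 6], k < 10 := by decide
  have h1 := all_of (cond_tt (all_of factsS.q j hj)).2 i hi
  have hji : ∀ k ∈ [j, i], k < 10 := by
    intro k hk
    simp only [List.mem_cons, List.not_mem_nil, or_false] at hk
    rcases hk with rfl | rfl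
    · exact hlt _ hj
    · exact hlt _ hi
  have hij : ∀ k ∈ [i, j], k < 10 := by
    intro k hk
    simp only [List.mem_cons, List.not_mem_nil, or_false] at hk
    rcases hk with rfl | rfl
    · exact hlt _ hi
    · exact hlt _ hj
  have hij7 : ∀ k ∈ [i, j, 7], k < 10 := by
    intro k hk
    simp only [List.mem_cons, List.not_mem_nil, or_false] at hk
    rcases hk with rfl | rfl | rfl
    · exact hlt _ hi
    · exact hlt _ hj
    · norm_num
  cases h2 : eq17 [j, i] [i, j] with
  | true =>
    left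
    have h3 := (eq17_iff hF h hji hij).1 h2
    rw [W_cons, W_single, W_cons, W_single] at h3
    exact h3
  | false =>
    rw [h2] at h1
    have h1' : eq17 [j, i] [i, j, 7] = true := h1
    right
    have h3 := (eq17_iff hF h hji hij7).1 h1'
    rw [W_cons, W_single, W_cons, W_cons, W_single] at h3
    have h4 := T_comm hF h (g := L (coding hF h) j * L (coding hF h) i)
      (GC_le_CT hF h ((GC hF h).mul_mem (L_GC hF h (hlt _ hj)) (L_GC hF h (hlt _ hi))))
    rw [h4, h3]
    rfl

theorem mem_list_of_qg {l : List (ℕ × ℕ)} (hl : l ∈ qg) : ∃ i ∈ [3, 4, 5, 6], act (coding hF h) l = L (coding hF h) i := by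
  simp only [qg, List.mem_cons, List.not_mem_nil, or_false] at hl
  rcases hl with rfl | rfl | rfl | rfl
  · exact ⟨3, by simp, rfl⟩
  · exact ⟨4, by simp, rfl⟩
  · exact ⟨5, by simp, rfl⟩
  · exact ⟨6, by simp, rfl⟩

theorem L_CT {i : ℕ} (hi : i ∈ [3, 4, 5, 6]) : L (coding hF h) i ∈ CT hF h := by
  have hlt : ∀ k ∈ [3, 4, 5, 6], k < 10 := by decide
  exact GC_le_CT hF h (L_GC hF h (hlt _ hi))

theorem comm_Q {x y : Equiv.Perm (F9 → F)} (hx : x ∈ GQ hF h) (hy : y ∈ GQ hF h) :
    x * y = y * x ∨ x * y = y * x * T hF h := by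
  have hC : ∀ g ∈ CT hF h, g * T hF h = T hF h * g := fun g hg => T_comm hF h hg
  -- generators against generators
  let A : Set (Equiv.Perm (F9 → F)) := {g | ∃ i ∈ [3, 4, 5, 6], g = L (coding hF h) i}
  have h1 : GQ hF h ≤ centT (T hF h) (T_sq hF h) (CT hF h) hC A := by
    apply gen_le
    intro l hl
    obtain ⟨j, hj, e⟩ := mem_list_of_qg hF h hl
    rw [e]
    refine ⟨L_CT hF h hj, ?_⟩
    rintro _ ⟨i, hi, rfl⟩
    exact gens_rel hF h hi hj
  have h2 : GQ hF h ≤ centT (T hF h) (T_sq hF h) (CT hF h) hC (GQ hF h : Set (Equiv.Perm (F9 → F))) := by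
    apply gen_le
    intro l hl
    obtain ⟨j, hj, e⟩ := mem_list_of_qg hF h hl
    rw [e]
    refine ⟨L_CT hF h hj, ?_⟩
    intro y hy
    rcases (h1 hy).2 _ ⟨j, hj, rfl⟩ with h3 | h3
    · exact Or.inl h3.symm
    · right
      rw [h3, mul_assoc, T_sq, mul_one]
  exact (h2 hy).2 x hx

theorem T_center_Q {x : Equiv.Perm (F9 → F)} (hx : x ∈ GQ hF h) (hc : ∀ y ∈ GQ hF h, x * y = y * x) :
    x = 1 ∨ x = T hF h := by
  obtain ⟨m, hm, rfl⟩ := exists_word_Q hF h hx
  have hlt : ∀ i ∈ bw m, i < 10 := fun i hi => (bw32 m hm i hi).2.trans (by norm_num)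
  have h1 := range_all factsS.z m hm
  have h2 : ([3, 4, 5, 6].all fun i => eq17 (bw m ++ [i]) (i :: bw m)) = true := by
    rw [List.all_eq_true]
    intro i hi
    have hi10 : i < 10 := by
      have hlt : ∀ k ∈ [3, 4, 5, 6], k < 10 := by decide
      exact hlt i hi
    have h3 : W (coding hF h) (bw m) * L (coding hF h) i = L (coding hF h) i * W (coding hF h) (bw m) := by
      apply hc
      simp only [List.mem_cons, List.not_mem_nil, or_false] at hi
      exact L_GQ hF h (by omega)
    apply (eq17_iff hF h ?_ ?_).2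
    · rw [W_append, W_single, W_cons, h3]
    · intro k hk
      rcases List.mem_append.1 hk with hk | hk
      · exact hlt k hk
      · rw [List.mem_singleton.1 hk]; exact hi10
    · intro k hk
      rcases List.mem_cons.1 hk with rfl | hk
      · exact hi10
      · exact hlt k hk
  rw [h2] at h1
  have h1' : cond (Nat.beq (et (bw m) 17) (et [] 17)) true (eq17 (bw m) [7]) = true := h1
  cases h4 : eq17 (bw m) [] with
  | true =>
    left
    rw [(eq17_iff hF h hlt (by decide)).1 h4, W_nil]
  | false =>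
    right
    have h5 : cond (eq17 (bw m) []) true (eq17 (bw m) [7]) = true := h1'
    rw [h4] at h5
    have h6 : eq17 (bw m) [7] = true := h5
    rw [(eq17_iff hF h hlt (by decide)).1 h6, W_single]; rfl

theorem pair_Q {x y : Equiv.Perm (F9 → F)} (hx : x ∈ GQ hF h) (hy : y ∈ GQ hF h) (hxx : x * x = 1) (hyy : y * y = 1)
    (hxy : x * y = y * x) (h1 : x ≠ 1) (ht : x ≠ T hF h) : y = 1 ∨ y = T hF h ∨ y = x ∨ y = T hF h * x := by
  obtain ⟨m, hm, rfl⟩ := exists_word_Q hF h hx
  obtain ⟨k, hk, rfl⟩ := exists_word_Q hF h hy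
  have hltm : ∀ i ∈ bw m, i < 10 := fun i hi => (bw32 m hm i hi).2.trans (by norm_num)
  have hltk : ∀ i ∈ bw k, i < 10 := fun i hi => (bw32 k hk i hi).2.trans (by norm_num)
  have happ : ∀ w v : List ℕ, (∀ i ∈ w, i < 10) → (∀ i ∈ v, i < 10) → ∀ i ∈ w ++ v, i < 10 := by
    intro w v hw hv i hi
    rcases List.mem_append.1 hi with hi | hi
    · exact hw i hi
    · exact hv i hi
  have hnil : ∀ i ∈ ([] : List ℕ), i < 10 := by decide
  have h7 : ∀ i ∈ [7], i < 10 := by decide
  have e1 : eq17 (bw m ++ bw m) [] = true := by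
    rw [eq17_iff hF h (happ _ _ hltm hltm) hnil, W_append, W_nil]; exact hxx
  have e2 : eq17 (bw m) [] = false := by
    rw [← Bool.not_eq_true, eq17_iff hF h hltm hnil, W_nil]; exact h1
  have e3 : eq17 (bw m) [7] = false := by
    rw [← Bool.not_eq_true, eq17_iff hF h hltm h7, W_single]; exact ht
  have e4 : eq17 (bw k ++ bw k) [] = true := by
    rw [eq17_iff hF h (happ _ _ hltk hltk) hnil, W_append, W_nil]; exact hyy
  have e5 : eq17 (bw m ++ bw k) (bw k ++ bw m) = true := by
    rw [eq17_iff hF h (happ _ _ hltm hltk) (happ _ _ hltk hltm), W_append, W_append]; exact hxy.symm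
  have h8 := range_all factsS.pair m hm
  rw [e1, e2, e3] at h8
  have h9 := range_all h8 k hk
  rw [e4, e5] at h9
  have h9' : cond (eq17 (bw k) []) true (cond (eq17 (bw k) [7]) true (cond (eq17 (bw k) (bw m)) true
      (eq17 (bw k) (bw m ++ [7])))) = true := h9
  cases f1 : eq17 (bw k) [] with
  | true => left; rw [(eq17_iff hF h hltk hnil).1 f1, W_nil]
  | false =>
    rw [f1] at h9'
    cases f2 : eq17 (bw k) [7] with
    | true => right; left; rw [(eq17_iff hF h hltk h7).1 f2, W_single]; rfl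
    | false =>
      rw [f2] at h9'
      cases f3 : eq17 (bw k) (bw m) with
      | true => right; right; left; exact (eq17_iff hF h hltk hltm).1 f3
      | false =>
        rw [f3] at h9'
        have f4 : eq17 (bw k) (bw m ++ [7]) = true := h9'
        right; right; right
        rw [(eq17_iff hF h hltk (happ _ _ hltm h7)).1 f4, W_append, W_single]; rfl

theorem extraspecial_Q : Cfsg.IsExtraspecial 2 (GQ hF h) := by
  have hfin := finite_V (coding hF h)
  have := Fact.mk Nat.prime_two
  have hTQ := T_GQ hF h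
  have hcen : (⟨T hF h, hTQ⟩ : GQ hF h) ∈ Subgroup.center (GQ hF h) := by
    rw [Subgroup.mem_center_iff]
    intro g
    apply Subtype.ext
    exact T_comm hF h (GQ_le_CT hF h g.2)
  apply H3.Extraspecial.isExtraspecial_of
  · rw [commutator_def, Subgroup.commutator_le]
    intro x _ y _
    rcases comm_Q hF h x.2 y.2 with h1 | h1
    · have h2 : ⁅x, y⁆ = 1 := by
        rw [commutatorElement_eq_one_iff_mul_comm]
        exact Subtype.ext h1
      rw [h2]; exact Subgroup.one_mem _
    · have h2 : ⁅x, y⁆ = ⟨T hF h, hTQ⟩ := by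
        apply Subtype.ext
        show (x : Equiv.Perm (F9 → F)) * y * (x : Equiv.Perm (F9 → F))⁻¹ * (y : Equiv.Perm (F9 → F))⁻¹ = T hF h
        rw [h1, T_comm hF h (GQ_le_CT hF h ((GQ hF h).mul_mem y.2 x.2))]
        group
      rw [h2]; exact hcen
  · have h1 : Subgroup.center (GQ hF h) = Subgroup.zpowers (⟨T hF h, hTQ⟩ : GQ hF h) := by
      apply le_antisymm
      · intro x hx
        rw [Subgroup.mem_center_iff] at hx
        rcases T_center_Q hF h x.2 (fun y hy => (congrArg Subtype.val (hx ⟨y, hy⟩)).symm) with h2 | h2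
        · have : x = 1 := Subtype.ext h2
          rw [this]; exact Subgroup.one_mem _
        · have : x = ⟨T hF h, hTQ⟩ := Subtype.ext h2
          rw [this]; exact Subgroup.mem_zpowers _
      · rw [Subgroup.zpowers_le]; exact hcen
    rw [h1, Nat.card_zpowers]
    apply orderOf_eq_prime
    · apply Subtype.ext
      show T hF h ^ 2 = 1
      rw [pow_two]; exact T_sq hF h
    · intro e
      exact T_ne hF h (congrArg Subtype.val e)
  · refine ⟨⟨_, L3_GQ hF h⟩, ⟨_, L4_GQ hF h⟩, ?_⟩
    rw [Ne, commutatorElement_eq_one_iff_mul_comm]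
    intro e
    have e1 : L (coding hF h) 3 * L (coding hF h) 4 = L (coding hF h) 4 * L (coding hF h) 3 := congrArg Subtype.val e
    have e2 : eq17 [3, 4] [4, 3] = true := by
      rw [eq17_iff hF h (by decide) (by decide), W_cons, W_single, W_cons, W_single]; exact e1.symm
    rw [factsS.nc] at e2
    exact absurd e2 (by simp)

theorem e8_Q (E : Subgroup (GQ hF h)) (hE : Cfsg.IsElementaryAbelian 2 E) : Nat.card E ≤ 2 ^ 2 := by
  classical
  have hfin := finite_V (coding hF h)
  have hcomm : ∀ x ∈ E, ∀ y ∈ E, x * y = y * x := by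
    intro x hx y hy
    have := hE.1
    have h1 := mul_comm' (⟨x, hx⟩ : E) ⟨y, hy⟩
    exact congrArg Subtype.val h1
  have hsq : ∀ x ∈ E, (x : Equiv.Perm (F9 → F)) * x = 1 := by
    intro x hx
    have := hE.2 x hx
    rw [pow_two] at this
    exact congrArg Subtype.val this
  have key : ∀ s : Finset (Equiv.Perm (F9 → F)), (∀ x ∈ E, (x : Equiv.Perm (F9 → F)) ∈ s) → Nat.card E ≤ s.card := by
    intro s hs
    have h1 : Nat.card s = s.card := by rw [Nat.card_eq_fintype_card, Fintype.card_coe]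
    rw [← h1]
    apply Nat.card_le_card_of_injective (fun x : E => (⟨((x : GQ hF h) : Equiv.Perm (F9 → F)), hs _ x.2⟩ : s))
    intro x y e
    have e1 := congrArg (fun z : s => (z : Equiv.Perm (F9 → F))) e
    exact Subtype.ext (Subtype.ext e1)
  by_cases hall : ∀ x ∈ E, (x : Equiv.Perm (F9 → F)) = 1 ∨ (x : Equiv.Perm (F9 → F)) = T hF h
  · refine (key {1, T hF h} ?_).trans ?_
    · intro x hx
      rcases hall x hx with e | e <;> simp [e]
    · exact Finset.card_le_two.trans (by norm_num)
  · push Not at hall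
    obtain ⟨x, hx, h1, h2⟩ := hall
    refine (key {1, T hF h, (x : Equiv.Perm (F9 → F)), T hF h * (x : Equiv.Perm (F9 → F))} ?_).trans ?_
    · intro y hy
      have := pair_Q hF h x.2 y.2 (hsq x hx) (hsq y hy) (congrArg Subtype.val (hcomm x hx y hy)) h1 h2
      rcases this with e | e | e | e <;> simp [e]
    · exact Finset.card_le_four

/-! ### the complement -/

theorem rel235 {A : Type*} [CommGroup A] {x y : A} (fa : x * x = 1) (fb : y * (y * y) = 1) (fab : (x * y) ^ 5 = 1) :
    x = 1 ∧ y = 1 := by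
  have e1 : x * y * y = 1 := by
    have h1 : (x * y) ^ 5 = (x * x) * (x * x) * (y * (y * y)) * (x * y * y) := by
      simp only [pow_succ, pow_zero, one_mul]
      ac_rfl
    rw [h1, fa, fb, one_mul, one_mul, one_mul] at fab
    exact fab
  have fb1 : x = y := by
    have h1 : x = x * y * y * y := by
      rw [mul_assoc, mul_assoc, fb, mul_one]
    rw [h1, e1, one_mul]
  subst fb1
  have fb2 : x = 1 := by rwa [fa, mul_one] at fb
  exact ⟨fb2, fb2⟩

theorem perfect_GH : commutator (GH hF h) = ⊤ := by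
  let a : GH hF h := ⟨L (coding hF h) 2, L_GH hF h (Or.inr rfl)⟩
  let b : GH hF h := ⟨L (coding hF h) 0, L_GH hF h (Or.inl rfl)⟩
  have ha : a * a = 1 := by
    have := (eq17_iff hF h (w := [2, 2]) (v := []) (by decide) (by decide)).1 factsS.ra
    rw [W_cons, W_single, W_nil] at this
    exact Subtype.ext this
  have hb : b * (b * b) = 1 := by
    have := (eq17_iff hF h (w := [0, 0, 0]) (v := []) (by decide) (by decide)).1 factsS.rb
    rw [W_cons, W_cons, W_single, W_nil] at this
    exact Subtype.ext (by rw [mul_assoc] at this; exact this)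
  have hab : (a * b) ^ 5 = 1 := by
    have := (eq17_iff hF h (w := [0, 2, 0, 2, 0, 2, 0, 2, 0, 2]) (v := []) (by decide) (by decide)).1 factsS.rab
    simp only [W_cons, W_nil, one_mul] at this
    apply Subtype.ext
    show (L (coding hF h) 2 * L (coding hF h) 0) ^ 5 = 1
    rw [← this]
    simp only [pow_succ, pow_zero, one_mul, mul_assoc]
  -- the abelianization is trivial
  rw [← Abelianization.ker_of, MonoidHom.ker_eq_top_iff]
  set f := (Abelianization.of : GH hF h →* Abelianization (GH hF h)) with hf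
  have fa : f a * f a = 1 := by rw [← map_mul, ha, map_one]
  have fb : f b * (f b * f b) = 1 := by rw [← map_mul, ← map_mul, hb, map_one]
  have fab : (f a * f b) ^ 5 = 1 := by rw [← map_mul, ← map_pow, hab, map_one]
  obtain ⟨fa2, fb2⟩ := rel235 fa fb fab
  -- generated by a and b
  ext ⟨x, hx⟩
  have key : ∀ x (hx : x ∈ GH hF h), f ⟨x, hx⟩ = 1 := by
    intro x hx
    unfold GH gen at hx
    induction hx using Subgroup.closure_induction with
    | mem x hx =>
      obtain ⟨l, hl, rfl⟩ := hx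
      simp only [hg, List.mem_cons, List.not_mem_nil, or_false] at hl
      rcases hl with rfl | rfl
      · exact fa2
      · exact fb2
    | one => exact map_one f
    | mul x y hx hy h1 h2 =>
      have : (⟨x * y, Subgroup.mul_mem _ hx hy⟩ : GH hF h) = ⟨x, hx⟩ * ⟨y, hy⟩ := rfl
      rw [this, map_mul, h1, h2, one_mul]
    | inv x hx h1 =>
      have : (⟨x⁻¹, Subgroup.inv_mem _ hx⟩ : GH hF h) = ⟨x, hx⟩⁻¹ := rfl
      rw [this, map_inv, h1, inv_one]
  exact key x hx

theorem not_solvable_GH : ¬ Group.IsSolvable (GH hF h) := by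
  intro hs
  have hfin := finite_V (coding hF h)
  have hn : Nontrivial (GH hF h) := by
    rw [← Finite.one_lt_card_iff_nontrivial, card_GH hF h]; norm_num
  have := Group.IsSolvable.commutator_lt_top_of_nontrivial (GH hF h)
  rw [perfect_GH hF h] at this
  exact lt_irrefl _ this

theorem GH_iso : Nonempty (GH hF h ≃* alternatingGroup (Fin 5)) := by
  have hfin := finite_V (coding hF h)
  have := H60.Ord60.isSimple_of_not_solvable (card_GH hF h) (not_solvable_GH hF h)
  exact H60.Ord60.iso_alt5 (card_GH hF h)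

/-! ### the structure as a property of abstract groups -/

/-- shape 2^{1+4}_- : A5 -/
def PP (X : Type*) [Group X] : Prop := ∃ (Q : Subgroup X) (_ : Q.Normal), Cfsg.IsExtraspecial 2 Q ∧ Nat.card Q = 32 ∧
  (∀ E : Subgroup Q, Cfsg.IsElementaryAbelian 2 E → Nat.card E ≤ 2 ^ 2) ∧ (∃ H : Subgroup X, Q.IsComplement' H) ∧
  Nonempty (X ⧸ Q ≃* alternatingGroup (Fin 5))

theorem elem_transport {X Y : Type*} [Group X] [Group Y] (e : X ≃* Y) {E : Subgroup Y} (hE : Cfsg.IsElementaryAbelian 2 E) :
    Cfsg.IsElementaryAbelian 2 (E.comap e.toMonoidHom) ∧ Nat.card (E.comap e.toMonoidHom) = Nat.card E := by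
  refine ⟨⟨?_, ?_⟩, ?_⟩
  · have := hE.1
    refine ⟨⟨?_⟩⟩
    rintro ⟨x, hx⟩ ⟨y, hy⟩
    apply Subtype.ext
    apply e.injective
    have h1 := mul_comm' (⟨e x, hx⟩ : E) ⟨e y, hy⟩
    have h2 := congrArg Subtype.val h1
    show e (x * y) = e (y * x)
    rw [map_mul, map_mul]; exact h2
  · intro x hx
    apply e.injective
    rw [map_pow, map_one]
    exact hE.2 _ hx
  · have h1 : (E.comap e.toMonoidHom).map e.toMonoidHom = E := Subgroup.map_comap_eq_self_of_surjective e.surjective E
    conv_rhs => rw [← h1]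
    exact Nat.card_congr ((E.comap e.toMonoidHom).equivMapOfInjective e.toMonoidHom e.injective).toEquiv

theorem PP.congr {X Y : Type*} [Group X] [Group Y] [Finite X] (e : X ≃* Y) (hX : PP X) : PP Y := by
  obtain ⟨Q, hQ, h1, h2, h3, ⟨H, h4⟩, ⟨f⟩⟩ := hX
  have hY : Finite Y := Finite.of_equiv X e.toEquiv
  have hQ' : (Q.map e.toMonoidHom).Normal := hQ.map e.toMonoidHom e.surjective
  let g : Q ≃* Q.map e.toMonoidHom := Q.equivMapOfInjective e.toMonoidHom e.injective
  refine ⟨Q.map e.toMonoidHom, hQ', H56.Heis.isExtraspecial_congr g h1, ?_, ?_, ⟨H.map e.toMonoidHom, ?_⟩, ?_⟩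
  · rw [← Nat.card_congr g.toEquiv, h2]
  · intro E hE
    obtain ⟨h5, h6⟩ := elem_transport g hE
    rw [← h6]
    exact h3 _ h5
  · apply Subgroup.isComplement'_of_card_mul_and_disjoint
    · rw [← Nat.card_congr g.toEquiv, ← Nat.card_congr (H.equivMapOfInjective e.toMonoidHom e.injective).toEquiv,
        ← Nat.card_congr e.toEquiv]
      exact h4.card_mul_card
    · rw [disjoint_iff, eq_bot_iff]
      rintro _ ⟨⟨x, hx, rfl⟩, ⟨y, hy, hxy⟩⟩
      have h5 : y = x := e.injective hxy
      subst h5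
      have h6 : y ∈ Q ⊓ H := ⟨hx, hy⟩
      rw [(disjoint_iff.1 h4.disjoint), Subgroup.mem_bot] at h6
      rw [h6, Subgroup.mem_bot]; exact map_one e
  · exact ⟨(QuotientGroup.congr Q (Q.map e.toMonoidHom) e rfl).symm.trans f⟩

theorem PP_GC : PP (GC hF h) := by
  have hfin := finite_V (coding hF h)
  have hn : ((GQ hF h).subgroupOf (GC hF h)).Normal := by
    constructor
    intro q hq g
    have := (Subgroup.mem_normalizer_iff.1 (GC_normalizes hF h g.2)) (q : Equiv.Perm (F9 → F))
    exact this.1 hq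
  have e : (GQ hF h).subgroupOf (GC hF h) ≃* GQ hF h := Subgroup.subgroupOfEquivOfLe (GQ_le_GC hF h)
  have e' : (GH hF h).subgroupOf (GC hF h) ≃* GH hF h := Subgroup.subgroupOfEquivOfLe (GH_le_GC hF h)
  have hcompl : ((GQ hF h).subgroupOf (GC hF h)).IsComplement' ((GH hF h).subgroupOf (GC hF h)) := by
    apply Subgroup.isComplement'_of_card_mul_and_disjoint
    · rw [Nat.card_congr e.toEquiv, Nat.card_congr e'.toEquiv, card_GQ hF h, card_GH hF h, card_GC hF h]
    · rw [disjoint_iff, eq_bot_iff]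
      rintro x ⟨h1, h2⟩
      have h3 : (x : Equiv.Perm (F9 → F)) ∈ GQ hF h ⊓ GH hF h := ⟨h1, h2⟩
      rw [GQ_inf_GH hF h, Subgroup.mem_bot] at h3
      exact Subtype.ext h3
  refine ⟨(GQ hF h).subgroupOf (GC hF h), hn, H56.Heis.isExtraspecial_congr e.symm (extraspecial_Q hF h), ?_, ?_,
    ⟨_, hcompl⟩, ?_⟩
  · rw [Nat.card_congr e.toEquiv, card_GQ hF h]
  · intro E hE
    obtain ⟨h5, h6⟩ := elem_transport e.symm hE
    rw [← h6]
    exact e8_Q hF h _ h5
  · obtain ⟨f⟩ := GH_iso hF h
    exact ⟨hcompl.symm.QuotientMulEquiv.trans (e'.trans f)⟩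

end H10.J3T
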