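import Cfsg.Agent.Lib.H10.J3T4

set_option autoImplicit false
set_option linter.unusedSectionVars false

/-! Involutions of J3: one class, centralizer 2^{1+4}:A5. -/

namespace H10.J3T

open H10.BitPar H10.BitOrb H10.BitTab H10.J3Data H10.J3DataT H10.J3Comp H10.J3Order H10.J3Tab H10.J3Model H10.J3Simple
open Cfsg.Spor
open scoped commutatorElement

variable {F : Type*} [Field F] [Fintype F] (hF : Fintype.card F = 4) {ω : F} (h : Good ω)

/-! ### the projection to J3 -/

noncomputable def eHH (ω : F) : threeJ3 F ω ≃* HH ω := (threeJ3 F ω).equivMapOfInjective (toPerm F) toPerm_injective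

noncomputable def pi (ω : F) : HH ω →* J3 F ω :=
  (QuotientGroup.mk' (Subgroup.center (threeJ3 F ω))).comp (eHH ω).symm.toMonoidHom

theorem pi_surj (ω : F) : Function.Surjective (pi ω) :=
  (QuotientGroup.mk'_surjective _).comp (eHH ω).symm.surjective

include hF h in
theorem sc_pow3 : (act (coding hF h) sc) ^ 3 = 1 := by
  ext1 v
  show act (coding hF h) sc (act (coding hF h) sc (act (coding hF h) sc v)) = v
  rw [sc_smul hF h, sc_smul hF h, sc_smul hF h, smul_smul, smul_smul]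
  have h1 : ω * ω * ω = 1 := by
    have := H10.J3Simple.Good.cube h
    rw [← this]; ring
  rw [h1, one_smul]

theorem pi_eq_one {g : HH ω} : pi ω g = 1 ↔ (g : Equiv.Perm (F9 → F)) ∈ Subgroup.zpowers (act (coding hF h) sc) := by
  obtain ⟨s, hs⟩ := exists_s hF h
  have h1 : toPerm F (s : GL F9 F) = act (coding hF h) sc := by
    ext1 v
    rw [sc_smul hF h, toPerm_apply, hs]
    funext z
    simp only [Matrix.mulVec_diagonal]
    rfl
  have h2 : pi ω g = 1 ↔ (eHH ω).symm g ∈ Subgroup.center (threeJ3 F ω) := by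
    show ((eHH ω).symm g : J3 F ω) = 1 ↔ _
    rw [QuotientGroup.eq_one_iff]
  rw [h2, center_eq hF h hs, ← h1]
  constructor
  · rintro ⟨k, hk⟩
    refine ⟨k, ?_⟩
    have h3 : s ^ k = (eHH ω).symm g := hk
    have h4 : g = eHH ω (s ^ k) := by rw [h3, MulEquiv.apply_symm_apply]
    have h5 : (g : Equiv.Perm (F9 → F)) = toPerm F ((s ^ k : threeJ3 F ω) : GL F9 F) := by rw [h4]; rfl
    show (toPerm F (s : GL F9 F)) ^ k = _
    rw [h5, Subgroup.coe_zpow, map_zpow]
  · rintro ⟨k, hk⟩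
    refine ⟨k, ?_⟩
    show s ^ k = _
    rw [MulEquiv.eq_symm_apply]
    apply Subtype.ext
    show toPerm F ((s ^ k : threeJ3 F ω) : GL F9 F) = _
    rw [Subgroup.coe_zpow, map_zpow]
    exact hk

include hF h in
theorem ker_pow3 {g : HH ω} (hg : pi ω g = 1) : g ^ 3 = 1 := by
  obtain ⟨k, hk⟩ := (pi_eq_one hF h).1 hg
  apply Subtype.ext
  show (g : Equiv.Perm (F9 → F)) ^ 3 = 1
  have hk' : (act (coding hF h) sc) ^ k = (g : Equiv.Perm (F9 → F)) := hk
  rw [← hk', ← zpow_natCast, ← zpow_mul, mul_comm, zpow_mul]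
  have h3 : (act (coding hF h) sc) ^ ((3 : ℕ) : ℤ) = 1 := sc_pow3 hF h
  rw [h3, one_zpow]

include hF h in
theorem ker_comm {g : HH ω} (hg : pi ω g = 1) {x : Equiv.Perm (F9 → F)} (hx : x ∈ HH ω) :
    x * (g : Equiv.Perm (F9 → F)) = (g : Equiv.Perm (F9 → F)) * x := by
  obtain ⟨k, hk⟩ := (pi_eq_one hF h).1 hg
  have hk' : (act (coding hF h) sc) ^ k = (g : Equiv.Perm (F9 → F)) := hk
  rw [← hk']
  have : Commute x (act (coding hF h) sc) := sc_comm hF h hx
  exact this.zpow_right k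

/-! ### GC maps isomorphically onto the centralizer -/

theorem GK_decomp {g : Equiv.Perm (F9 → F)} (hg : g ∈ GK hF h) :
    ∃ c ∈ GC hF h, ∃ k : ℤ, g = c * (act (coding hF h) sc) ^ k := by
  have hcomm : ∀ c ∈ GC hF h, ∀ k : ℤ, c * (act (coding hF h) sc) ^ k = (act (coding hF h) sc) ^ k * c := by
    intro c hc k
    have : Commute c (act (coding hF h) sc) := sc_comm hF h (GC_le_HH hF h hc)
    exact this.zpow_right k
  unfold GK gen at hg
  induction hg using Subgroup.closure_induction with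
  | mem x hx =>
    obtain ⟨l, hl, rfl⟩ := hx
    simp only [kkg, List.mem_cons, List.not_mem_nil, or_false] at hl
    rcases hl with rfl | rfl | rfl
    · exact ⟨_, L0_GC hF h, 0, by rw [zpow_zero, mul_one]; rfl⟩
    · exact ⟨_, L1_GC hF h, 0, by rw [zpow_zero, mul_one]; rfl⟩
    · exact ⟨1, (GC hF h).one_mem, 1, by rw [zpow_one, one_mul]⟩
  | one => exact ⟨1, (GC hF h).one_mem, 0, by simp⟩
  | mul x y _ _ hx hy =>
    obtain ⟨c, hc, k, rfl⟩ := hx
    obtain ⟨d, hd, j, rfl⟩ := hy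
    refine ⟨c * d, (GC hF h).mul_mem hc hd, k + j, ?_⟩
    rw [mul_assoc c, ← mul_assoc _ d, ← hcomm d hd k, zpow_add]
    simp only [mul_assoc]
  | inv x _ hx =>
    obtain ⟨c, hc, k, rfl⟩ := hx
    refine ⟨c⁻¹, (GC hF h).inv_mem hc, -k, ?_⟩
    rw [mul_inv_rev, ← zpow_neg, hcomm _ ((GC hF h).inv_mem hc)]

theorem GK_eq_CT : GK hF h = CT hF h := by
  have hfin := finite_V (coding hF h)
  apply Subgroup.eq_of_le_of_card_ge (GK_le_CT hF h)
  rw [card_CT hF h, card_of_base (coding hF h) ((baseCT hF h).mono (GK_le_CT hF h)) (orbit_GK hF h), factsB.pcK]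

theorem T_HH : T hF h ∈ HH ω := GC_le_HH hF h (L_GC hF h (by norm_num))

/-- the involution of J3 -/
noncomputable def tJ : J3 F ω := pi ω ⟨T hF h, T_HH hF h⟩

/-- the embedding of `GC` in J3 -/
noncomputable def phi : GC hF h →* J3 F ω := (pi ω).comp (Subgroup.inclusion (GC_le_HH hF h))

theorem phi_injective : Function.Injective (phi hF h) := by
  have hc := coding hF h
  rw [← MonoidHom.ker_eq_bot_iff, eq_bot_iff]
  intro g hg
  rw [Subgroup.mem_bot]
  have h1 : pi ω (Subgroup.inclusion (GC_le_HH hF h) g) = 1 := hg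
  obtain ⟨k, hk⟩ := (pi_eq_one hF h).1 h1
  have hk' : (act (coding hF h) sc) ^ k = (g : Equiv.Perm (F9 → F)) := hk
  have h2 : k = 3 * (k / 3) + k % 3 := (Int.mul_ediv_add_emod k 3).symm
  have h3 : (act (coding hF h) sc) ^ (k % 3) = (g : Equiv.Perm (F9 → F)) := by
    rw [← hk']
    conv_rhs => rw [h2, zpow_add, zpow_mul]
    have : (act (coding hF h) sc) ^ (3 : ℤ) = 1 := sc_pow3 hF h
    rw [this, one_zpow, one_mul]
  have h4 : (g : Equiv.Perm (F9 → F)) (dec ω 17) ∈ toSet 18 (dec ω) SC1 := by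
    rw [← orbit_GC hF h]; exact mem_orbit_iff.2 ⟨g, g.2, rfl⟩
  have h5 : act (coding hF h) sc (dec ω 17) = dec ω (runF sc 17) := act_dec hc ok_sc (by norm_num)
  have hlt : runF sc 17 < 2 ^ 18 := runF_lt ok_sc (by norm_num)
  have h6 : act (coding hF h) sc (act (coding hF h) sc (dec ω 17)) = dec ω (runF sc (runF sc 17)) := by
    rw [h5, act_dec hc ok_sc hlt]
  rcases (by omega : k % 3 = 0 ∨ k % 3 = 1 ∨ k % 3 = 2) with e | e | e
  · rw [e, zpow_zero] at h3
    exact Subtype.ext h3.symm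
  · exfalso
    rw [e, zpow_one] at h3
    rw [← h3, h5, mem_toSet hc hlt, factsB.z1] at h4
    exact absurd h4 (by simp)
  · exfalso
    rw [e] at h3
    have h7 : (act (coding hF h) sc) ^ (2 : ℤ) = act (coding hF h) sc * act (coding hF h) sc := zpow_two _
    rw [h7] at h3
    rw [← h3, Equiv.Perm.mul_apply, h6, mem_toSet hc (runF_lt ok_sc hlt), factsB.z2] at h4
    exact absurd h4 (by simp)

theorem mem_centralizer_tJ {x : J3 F ω} (hx : x ∈ Subgroup.centralizer ({tJ hF h} : Set (J3 F ω))) :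
    ∃ g ∈ CT hF h, ∃ hg : g ∈ HH ω, pi ω ⟨g, hg⟩ = x := by
  obtain ⟨g, rfl⟩ := pi_surj ω x
  rw [Subgroup.mem_centralizer_singleton_iff] at hx
  refine ⟨g, ?_, g.2, rfl⟩
  rw [mem_CT]
  refine ⟨g.2, ?_⟩
  set t : HH ω := ⟨T hF h, T_HH hF h⟩ with ht
  have hxx : pi ω g * pi ω t = pi ω t * pi ω g := hx
  set z : HH ω := g * t * g⁻¹ * t⁻¹ with hz
  have hz1 : pi ω z = 1 := by
    rw [hz, map_mul, map_mul, map_mul, map_inv, map_inv, hxx]; group
  have ht2 : t * t = 1 := Subtype.ext (T_sq hF h)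
  have hti : t⁻¹ = t := inv_eq_of_mul_eq_one_left ht2
  have hzt : z * t = g * t * g⁻¹ := by rw [hz]; group
  have hcomm : t * z = z * t := Subtype.ext (ker_comm hF h hz1 t.2)
  have h1 : z * z = 1 := by
    have h2 : (z * t) * (z * t) = 1 := by
      rw [hzt]
      have : g * t * g⁻¹ * (g * t * g⁻¹) = g * (t * t) * g⁻¹ := by group
      rw [this, ht2]; group
    have h3 : (z * t) * (z * t) = z * z * (t * t) := by
      rw [mul_assoc, ← mul_assoc t z t, hcomm]; simp only [mul_assoc]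
    rw [h3, ht2, mul_one] at h2
    exact h2
  have h2 := ker_pow3 hF h hz1
  have h3 : z = 1 := by
    have : z ^ 3 = z * (z * z) := by rw [pow_succ, pow_two, mul_assoc]
    rw [this, h1, mul_one] at h2
    exact h2
  rw [h3, one_mul] at hzt
  have h4 : g * t = t * g := by
    calc g * t = (g * t * g⁻¹) * g := by group
      _ = t * g := by rw [← hzt]
  exact congrArg Subtype.val h4

theorem range_phi : (phi hF h).range = Subgroup.centralizer ({tJ hF h} : Set (J3 F ω)) := by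
  apply le_antisymm
  · rintro _ ⟨g, rfl⟩
    rw [Subgroup.mem_centralizer_singleton_iff]
    show pi ω _ * pi ω _ = pi ω _ * pi ω _
    rw [← map_mul, ← map_mul]
    congr 1
    apply Subtype.ext
    exact T_comm hF h (GC_le_CT hF h g.2)
  · intro x hx
    obtain ⟨g, hg, hgH, rfl⟩ := mem_centralizer_tJ hF h hx
    rw [← GK_eq_CT] at hg
    obtain ⟨c, hc, k, rfl⟩ := GK_decomp hF h hg
    refine ⟨⟨c, hc⟩, ?_⟩
    have hsc := sc_HH hF h
    have h1 : (⟨c * (act (coding hF h) sc) ^ k, hgH⟩ : HH ω) = ⟨c, GC_le_HH hF h hc⟩ * ⟨(act (coding hF h) sc) ^ k, (HH ω).zpow_mem hsc k⟩ := rfl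
    rw [h1, map_mul]
    have h2 : pi ω ⟨(act (coding hF h) sc) ^ k, (HH ω).zpow_mem hsc k⟩ = 1 := by
      rw [pi_eq_one hF h]
      exact ⟨k, rfl⟩
    rw [h2, mul_one]
    rfl

/-- `GC` is isomorphic to the centralizer of the involution -/
noncomputable def eGC : GC hF h ≃* Subgroup.centralizer ({tJ hF h} : Set (J3 F ω)) :=
  (MonoidHom.ofInjective (phi_injective hF h)).trans (MulEquiv.subgroupCongr (range_phi hF h))

theorem eGC_apply (g : GC hF h) : ((eGC hF h g : Subgroup.centralizer ({tJ hF h} : Set (J3 F ω))) : J3 F ω) = phi hF h g := rfl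

theorem order_tJ : orderOf (tJ hF h) = 2 := by
  have := Fact.mk Nat.prime_two
  apply orderOf_eq_prime
  · show pi ω _ ^ 2 = 1
    rw [← map_pow, pow_two]
    have : (⟨T hF h, T_HH hF h⟩ : HH ω) * ⟨T hF h, T_HH hF h⟩ = 1 := Subtype.ext (T_sq hF h)
    rw [this, map_one]
  · intro e
    have hT : T hF h ∈ GC hF h := L_GC hF h (by norm_num)
    have h1 : phi hF h ⟨T hF h, hT⟩ = phi hF h 1 := by rw [map_one]; exact e
    exact T_ne hF h (congrArg Subtype.val (phi_injective hF h h1))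

/-! ### one class of involutions -/

include hF h in
theorem base_HH : Base 18 (dec ω) (HH ω) [21, 1, 1604] := by
  refine ⟨by decide, ?_⟩
  intro g hg hb
  have h1 : g ∈ K3 ω := ⟨⟨⟨hg, hb 21 (by simp)⟩, hb 1 (by simp)⟩, hb 1604 (by simp)⟩
  rw [K3_eq hF h, Subgroup.mem_bot] at h1
  exact h1

theorem conjChk_spec {cs : List (List ℕ)} {j : ℕ} (hc : conjChk cs j = true) {i : ℕ} (hi : i < cs.length) :
    cond (eq17 (bw (j + i) ++ bw (j + i)) []) (cond (eq17 (bw (j + i)) []) true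
      (cond (okW (cs.getD i [])) ([21, 1, 1604].all fun b => Nat.beq (et (bw (j + i)) (ev (cs.getD i []) b))
        (ev (cs.getD i []) (et [7] b))) false)) true = true := by
  induction cs generalizing i j with
  | nil => simp at hi
  | cons w cs ih =>
    obtain ⟨h1, h2⟩ := cond_tt hc
    cases i with
    | zero => exact h1
    | succ i =>
      have := ih h2 (i := i) (by simpa using hi)
      rw [List.getD_cons_succ]
      have e : j + (i + 1) = j.succ + i := by omega
      rw [e]; exact this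

include hF h in
theorem conj_P {g : Equiv.Perm (F9 → F)} (hg : g ∈ GP hF h) (h2 : g * g = 1) (h1 : g ≠ 1) :
    ∃ k ∈ HH ω, g * k = k * T hF h := by
  have hc := coding hF h
  obtain ⟨m, hm, rfl⟩ := exists_word_P hF h hg
  have hlt : ∀ i ∈ bw m, i < 10 := fun i hi => (bw128 m hm i hi).2
  have h3 := conjChk_spec factsJ.cj (i := m) (by rw [cw_len]; exact hm)
  rw [Nat.zero_add] at h3
  have e1 : eq17 (bw m ++ bw m) [] = true := by
    rw [eq17_iff hF h (fun i hi => by
      rcases List.mem_append.1 hi with hi | hi <;> exact hlt i hi) (by decide), W_append, W_nil]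
    exact h2
  have e2 : eq17 (bw m) [] = false := by
    rw [← Bool.not_eq_true, eq17_iff hF h hlt (by decide), W_nil]; exact h1
  rw [e1, e2] at h3
  have h3' : cond (okW (cw.getD m [])) ([21, 1, 1604].all fun b => Nat.beq (et (bw m) (ev (cw.getD m []) b))
        (ev (cw.getD m []) (et [7] b))) false = true := h3
  obtain ⟨h4, h5⟩ := cond_tt h3'
  set w := cw.getD m [] with hw
  have hrep : ∀ l ∈ gensL, okOps 18 l = true ∧ IsRep 18 (dec ω) (HH ω) l := by
    intro l hl
    obtain ⟨i, hi, rfl⟩ := List.mem_iff_getElem.1 hl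
    have hi' : i < 45 := hi
    have e := List.getD_eq_getElem gensL [] hi
    have h7 : okOps 18 (gensL.getD i []) = true ∧ IsRep 18 (dec ω) (HH ω) (gensL.getD i []) := ⟨ok_getD hi', isRep_gen hF h hi'⟩
    rw [e] at h7
    exact h7
  have h6 := wOps_rep hrep w
  have h6' : okOps 18 (wordOps w) = true ∧ IsRep 18 (dec ω) (HH ω) (wordOps w) := h6
  refine ⟨act hc (wordOps w), (act_mem hc h6'.1).2 h6'.2, ?_⟩
  have hk : act hc (wordOps w) ∈ HH ω := (act_mem hc h6'.1).2 h6'.2
  have hev : ∀ x < 2 ^ 18, act hc (wordOps w) (dec ω x) = dec ω (ev w x) := by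
    intro x hx
    rw [act_dec hc h6'.1 hx, ev_eq (okW_lt h4) hx]
  have hevlt : ∀ x < 2 ^ 18, ev w x < 2 ^ 18 := by
    intro x hx
    rw [ev_eq (okW_lt h4) hx]; exact runF_lt h6'.1 hx
  apply (base_HH hF h).eq ((HH ω).mul_mem (GC_le_HH hF h (W_GC hF h hlt)) hk) ((HH ω).mul_mem hk (T_HH hF h))
  intro b hb
  have hblt := (base_HH hF h).lt b hb
  have hlt' : ∀ i ∈ bw m, i < 11 := fun i hi => (hlt i hi).trans (by norm_num)
  have h7 : ∀ i ∈ [7], i < 11 := by decide
  show W hc (bw m) (act hc (wordOps w) (dec ω b)) = act hc (wordOps w) (T hF h (dec ω b))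
  have hT : T hF h = W hc [7] := (W_single _ _).symm
  rw [hT, hev b hblt, W_dec hc hlt' (hevlt b hblt), W_dec hc h7 hblt, hev _ (et_lt h7 hblt),
    Nat.eq_of_beq_eq_true (all_of h5 b hb)]

theorem exists_conj_mem {G : Type*} [Group G] [Finite G] {p k m : ℕ} (hp : p.Prime) (hG : Nat.card G = p ^ k * m)
    (hm : ¬ p ∣ m) (P : Subgroup G) (hP : Nat.card P = p ^ k) {x : G} {j : ℕ} (hx : orderOf x = p ^ j) :
    ∃ g : G, g * x * g⁻¹ ∈ P := by
  have := Fact.mk hp
  have hx' : IsPGroup p (Subgroup.zpowers x) := by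
    rw [IsPGroup.iff_card, Nat.card_zpowers]; exact ⟨j, hx⟩
  obtain ⟨Q, hQ⟩ := hx'.exists_le_sylow
  have hfac : (Nat.card G).factorization p = k := by
    rw [hG, Nat.factorization_mul (pow_ne_zero _ hp.ne_zero) (by rintro rfl; exact hm (dvd_zero _)), Finsupp.add_apply,
      Nat.Prime.factorization_pow hp, Finsupp.single_eq_same, Nat.factorization_eq_zero_of_not_dvd hm, add_zero]
  let P' : Sylow p G := Sylow.ofCard P (by rw [hP, hfac])
  obtain ⟨g, hg⟩ := MulAction.exists_smul_eq G Q P'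
  refine ⟨g, ?_⟩
  have h1 : x ∈ (Q : Subgroup G) := hQ (Subgroup.mem_zpowers x)
  have h2 : g * x * g⁻¹ ∈ ((g • Q : Sylow p G) : Subgroup G) := by
    rw [Sylow.coe_subgroup_smul]
    exact Subgroup.smul_mem_pointwise_smul _ (MulAut.conj g) _ h1
  rw [hg] at h2
  exact h2

/-- the Sylow 2-subgroup of J3 -/
noncomputable def PJ : Subgroup (J3 F ω) := ((GP hF h).subgroupOf (GC hF h)).map (phi hF h)

theorem card_PJ : Nat.card (PJ hF h) = 128 := by
  have hfin := finite_V (coding hF h)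
  unfold PJ
  rw [← Nat.card_congr (((GP hF h).subgroupOf (GC hF h)).equivMapOfInjective _ (phi_injective hF h)).toEquiv,
    Nat.card_congr (Subgroup.subgroupOfEquivOfLe (GP_le_GC hF h)).toEquiv, card_GP hF h]

include hF h in
theorem conj_tJ {x : J3 F ω} (hx : orderOf x = 2) : ∃ g : J3 F ω, g * tJ hF h * g⁻¹ = x := by
  have hfin := finite_V (coding hF h)
  have hfJ : Finite (J3 F ω) := Nat.finite_of_card_ne_zero (by rw [card_J3 hF h]; norm_num)
  obtain ⟨g, hg⟩ := exists_conj_mem Nat.prime_two (k := 7) (m := 392445) (by rw [card_J3 hF h]; norm_num) (by norm_num)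
    (PJ hF h) (by rw [card_PJ]; norm_num) (x := x) (j := 1) (by rw [hx]; norm_num)
  obtain ⟨p, hp, hpx⟩ := hg
  have hp' : (p : Equiv.Perm (F9 → F)) ∈ GP hF h := hp
  have hxx : x * x = 1 := by
    have := pow_orderOf_eq_one x
    rwa [hx, pow_two] at this
  have h1 : (p : Equiv.Perm (F9 → F)) * p = 1 := by
    have h2 : phi hF h (p * p) = phi hF h 1 := by
      rw [map_mul, map_one, hpx]
      have : g * x * g⁻¹ * (g * x * g⁻¹) = g * (x * x) * g⁻¹ := by group
      rw [this, hxx]; group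
    exact congrArg Subtype.val (phi_injective hF h h2)
  have h2 : (p : Equiv.Perm (F9 → F)) ≠ 1 := by
    intro e
    have e1 : p = 1 := Subtype.ext e
    rw [e1, map_one] at hpx
    have e2 : x = 1 := by
      have : x = g⁻¹ * (g * x * g⁻¹) * g := by group
      rw [this, ← hpx]; group
    rw [e2, orderOf_one] at hx
    norm_num at hx
  obtain ⟨k, hk, hkk⟩ := conj_P hF h hp' h1 h2
  have h3 : phi hF h p * pi ω ⟨k, hk⟩ = pi ω ⟨k, hk⟩ * tJ hF h := by
    show pi ω _ * pi ω _ = pi ω _ * pi ω _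
    rw [← map_mul, ← map_mul]
    congr 1
    exact Subtype.ext hkk
  refine ⟨g⁻¹ * pi ω ⟨k, hk⟩, ?_⟩
  have h4 : pi ω ⟨k, hk⟩ * tJ hF h * (pi ω ⟨k, hk⟩)⁻¹ = g * x * g⁻¹ := by
    rw [← h3, hpx]; group
  calc g⁻¹ * pi ω ⟨k, hk⟩ * tJ hF h * (g⁻¹ * pi ω ⟨k, hk⟩)⁻¹ = g⁻¹ * (pi ω ⟨k, hk⟩ * tJ hF h * (pi ω ⟨k, hk⟩)⁻¹) * g := by group
    _ = x := by rw [h4]; group

include hF h in
theorem involutions_conj {x y : J3 F ω} (hx : orderOf x = 2) (hy : orderOf y = 2) : IsConj x y := by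
  obtain ⟨g, rfl⟩ := conj_tJ (hF := hF) (h := h) hx
  obtain ⟨k, rfl⟩ := conj_tJ (hF := hF) (h := h) hy
  rw [isConj_iff]
  exact ⟨k * g⁻¹, by group⟩

end H10.J3T
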