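import Cfsg.Agent.Lib.H10.J3Tab
import Cfsg.Agent.Lib.H10.J3DataT

set_option autoImplicit false
set_option linter.unusedSectionVars false

/-! Kernel computations for the centralizer of an involution of J3. -/

namespace H10.J3T

open H10.BitPar H10.BitOrb H10.BitTab H10.J3Data H10.J3DataT H10.J3Comp H10.J3Order H10.J3Tab

/-- generators of the complement of the centre in the centralizer -/
def c1g : List (List (ℕ × ℕ)) := [s1, s2]
def kkg : List (List (ℕ × ℕ)) := [s1, s2, sc]
def qg : List (List (ℕ × ℕ)) := [q1, q2, q3, q4]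
def hg : List (List (ℕ × ℕ)) := [oa, s1]
def pg : List (List (ℕ × ℕ)) := [q1, q2, q3, q4, ou, ov]
def lg : List (List (ℕ × ℕ)) := [lc, ld]
/-- letters -/
def tg : List (List (ℕ × ℕ)) := [s1, s2, oa, q1, q2, q3, q4, ot, ou, ov, sc]

/-! ### bit sets -/

def SC1 : ℕ := bfs 18 c1g 10 (Nat.pow 2 17)
def SK : ℕ := bfs 18 [sc] 2 SC1
def US : ℕ := spanS 18 (movedL 18 ot)
def imgs : List (List (ℕ × ℕ)) := tr.map fun w => wOps lg w
def imgSets : List ℕ := imgs.map fun l => runS 18 l US

def chkB : Bool :=
  cond (Nat.beq (pc 18 SC1) 1920) (cond (Nat.beq (pc 18 SK) 5760) (cond (Nat.beq (pc 18 US) 256) (cond (tb US 5)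
  (cond (invAll 18 c1g SC1) (cond (invAll 18 kkg SK)
  (cond (nodupB imgSets) (cond (allLt (Nat.pow 2 (Nat.pow 2 18)) imgSets)
  (cond (tb SC1 17) (cond (tb SK 17) (cond (tb SC1 (runF sc 17)) false (cond (tb SC1 (runF sc (runF sc 17))) false true)) false) false)
  false) false) false) false) false) false) false) false

theorem chkB_eq : chkB = true := by decide +kernel

/-! ### evaluation in the letters `tg` -/

def tgC : List (List ℕ) := tg.map (colsOf 18)
def C0 : ℕ := mkB0 18 9 tgC
def C1 : ℕ := mkB1 18 9 tgC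
def et (w : List ℕ) (x : ℕ) : ℕ := evP 18 9 C0 C1 w x

/-- the letters of the bits of `m` -/
def bw (m : ℕ) : List ℕ := List.rec (motive := fun _ => ℕ → List ℕ) (fun _ => [])
  (fun g _ ih m => cond (Nat.beq (Nat.mod m 2) 1) (g :: ih (Nat.div m 2)) (ih (Nat.div m 2))) [3, 4, 5, 6, 7, 8, 9] m

/-- equality of two words at the base point 17 -/
def eq17 (w v : List ℕ) : Bool := Nat.beq (et w 17) (et v 17)

def tab (f : ℕ → ℕ) (k : ℕ) : List ℕ := (List.range k).map f

def SQ : ℕ := ofList (tab (fun m => et (bw m) 17) 32)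
def SP : ℕ := ofList (tab (fun m => et (bw m) 17) 128)
def SH : ℕ := ofList (hws.map fun w => et w 17)

def sameE (w : List ℕ) (l : List (ℕ × ℕ)) : Bool := (List.range 18).all fun k => Nat.beq (et w (Nat.pow 2 k)) (runG l (Nat.pow 2 k))

def sameEE (w v : List ℕ) : Bool := (List.range 18).all fun k => Nat.beq (et w (Nat.pow 2 k)) (et v (Nat.pow 2 k))

/-- relations of the letters -/
def chkR1 : Bool :=
  cond (sameE oaW oa) (cond (sameE q1W q1) (cond (sameE q2W q2) (cond (sameE q3W q3) (cond (sameE q4W q4) (cond (sameE otW ot)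
  (cond (sameE ouW ou) (cond (sameE ovW ov) (cond (sameEE [7, 0] [0, 7]) (sameEE [7, 1] [1, 7])
  false) false) false) false) false) false) false) false) false

theorem chkR1_eq : chkR1 = true := by decide +kernel

def qChk : Bool := [3, 4, 5, 6].all fun i => cond (cond (eq17 [i, i] []) true (eq17 [i, i] [7]))
  ([3, 4, 5, 6].all fun j => cond (eq17 [i, j] [j, i]) true (eq17 [i, j] [j, i, 7])) false

/-- two commuting involutions `x, y` of `Q`, `x` not in `⟨t⟩`, satisfy `y ∈ {1, t, x, xt}` -/
def pairChk : Bool := (List.range 32).all fun m =>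
  cond (eq17 (bw m ++ bw m) [])
    (cond (eq17 (bw m) []) true (cond (eq17 (bw m) [7]) true
      ((List.range 32).all fun k =>
        cond (eq17 (bw k ++ bw k) [])
          (cond (eq17 (bw m ++ bw k) (bw k ++ bw m))
            (cond (eq17 (bw k) []) true
            (cond (eq17 (bw k) [7]) true
            (cond (eq17 (bw k) (bw m)) true
            (eq17 (bw k) (bw m ++ [7]))))) true) true)))
    true

/-- no other central elements in `Q` -/
def zChk : Bool := (List.range 32).all fun m =>
  cond ([3, 4, 5, 6].all fun i => eq17 (bw m ++ [i]) (i :: bw m))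
    (cond (eq17 (bw m) []) true (eq17 (bw m) [7])) true

/-- conjugates of the generators of `Q` -/
def nChk : Bool := [3, 4, 5, 6].all fun i => cond (tb SQ (et [i, 0] (runG s1.reverse 17))) (tb SQ (et [i, 1] (runG s2.reverse 17))) false

def chkR2 : Bool :=
  cond (invAll 18 qg SQ) (cond (invAll 18 hg SH) (cond (invAll 18 pg SP) (cond (Nat.beq (pc 18 SQ) 32) (cond (Nat.beq (pc 18 SH) 60)
  (cond (Nat.beq (pc 18 SP) 128) (cond (Nat.beq (Nat.land SQ SH) (Nat.pow 2 17)) (cond (tb SQ (et [7] 17))
  (cond qChk (cond pairChk (cond zChk (cond nChk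
  (cond (eq17 [2, 2] []) (cond (eq17 [0, 0, 0] []) (cond (eq17 [0, 2, 0, 2, 0, 2, 0, 2, 0, 2] []) (cond (eq17 [7, 7] [])
  (cond (eq17 [4, 4] [7]) (cond (tb SQ 17) (cond (tb SP 17) (cond (tb SH 17)
  (cond (eq17 [3, 4] [4, 3]) false (cond (eq17 [7] []) false true)) false) false) false) false)
  false) false) false) false) false) false) false) false) false) false) false) false) false) false) false) false


theorem chkR2_eq : chkR2 = true := by decide +kernel

/-! ### words in the 45 generators -/

def okW (w : List ℕ) : Bool := w.all fun i => Nat.blt i 45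

def sameV (w : List ℕ) (l : List (ℕ × ℕ)) : Bool :=
  cond (okW w) ((List.range 18).all fun k => Nat.beq (ev w (Nat.pow 2 k)) (runG l (Nat.pow 2 k))) false

/-- conjugacy check of the involutions of the Sylow subgroup -/
def conjChk : List (List ℕ) → ℕ → Bool := List.rec (motive := fun _ => ℕ → Bool) (fun _ => true)
  (fun w _ ih m => cond (cond (eq17 (bw m ++ bw m) []) (cond (eq17 (bw m) []) true
      (cond (okW w) ([21, 1, 1604].all fun b => Nat.beq (et (bw m) (ev w b)) (ev w (et [7] b))) false)) true) (ih (Nat.succ m)) false)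

def chkJ : Bool := cond (sameV s1W s1) (cond (sameV s2W s2) (cond (sameV lcW lc) (cond (sameV ldW ld)
  (conjChk cw 0) false) false) false) false

theorem chkJ_eq : chkJ = true := by decide +kernel

theorem cw_len : cw.length = 128 := by decide +kernel
theorem ok_c1g : okAll 18 c1g = true := by decide +kernel
theorem ok_kkg : okAll 18 kkg = true := by decide +kernel
theorem ok_qg : okAll 18 qg = true := by decide +kernel
theorem ok_hg : okAll 18 hg = true := by decide +kernel
theorem ok_pg : okAll 18 pg = true := by decide +kernel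
theorem ok_lg : okAll 18 lg = true := by decide +kernel
theorem ok_tg : okAll 18 tg = true := by decide +kernel
theorem fixlc : runF lc 5 = 5 := by decide +kernel
theorem fixld : runF ld 5 = 5 := by decide +kernel

theorem SC1_def : SC1 = bfs 18 c1g 10 (Nat.pow 2 17) := rfl
theorem SK_def : SK = bfs 18 [sc] 2 SC1 := rfl
theorem SQ_def : SQ = ofList (tab (fun m => et (bw m) 17) 32) := rfl
theorem SP_def : SP = ofList (tab (fun m => et (bw m) 17) 128) := rfl
theorem SH_def : SH = ofList (hws.map fun w => et w 17) := rfl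
theorem US_def : US = spanS 18 (movedL 18 ot) := rfl
theorem C0_def : C0 = mkB0 18 9 tgC := rfl
theorem C1_def : C1 = mkB1 18 9 tgC := rfl

attribute [irreducible] SC1 SK SQ SH SP US C0 C1

end H10.J3T
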