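import Cfsg.Agent.Lib.H10.J3UComp
import Cfsg.Agent.Lib.H10.J3T5

set_option autoImplicit false
set_option linter.unusedSectionVars false

/-! Elements `a, b, c` of J3 with `a` of order 17, `b` of order 8, and their centralizers. -/

namespace H10.J3U

open H10.BitPar H10.BitOrb H10.BitTab H10.J3Data H10.J3DataT H10.J3DataU H10.J3Comp H10.J3Order H10.J3Tab H10.J3Model
open H10.J3Simple H10.J3T Cfsg.Spor

/-! ### the computed facts -/

structure Facts1 : Prop where
  a : sameV aaW aa = true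
  b : sameE bbW bb = true
  c : sameE ccW cc = true
  d : sameE ddW dd = true

theorem facts1 : Facts1 := by
  have h := chkU1_eq
  unfold chkU1 at h
  obtain ⟨h1, h⟩ := cond_tt h
  obtain ⟨h2, h⟩ := cond_tt h
  obtain ⟨h3, h⟩ := cond_tt h
  exact ⟨h1, h2, h3, h⟩

structure Facts2 : Prop where
  a17 : sameU (rp [11] 17) [] = true
  ba : sameU [11, 12] [12, 11, 11] = true
  b4 : sameU [12, 12, 12, 12] [7] = true
  cb : sameU [12, 13] [13, 12, 12, 12, 12, 12] = true
  c2 : sameU [13, 13] [] = true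
  d2 : sameU [14, 14] [] = true
  ca : sameU (rp [11, 13] 10) [] = true
  fa : eu [11] u1 = u1
  fb : eu [12] u1 = u1
  fd : eu [14] u1 = u1
  n1 : notZ (rp [11, 11, 11, 13] 10) 21 = true
  n2 : notZ (rp [11, 11, 11, 7, 13] 10) 21 = true
  a1 : sameU [11] [] = false

theorem facts2 : Facts2 := by
  have h := chkU2_eq
  unfold chkU2 at h
  obtain ⟨h1, h⟩ := cond_tt h
  obtain ⟨h2, h⟩ := cond_tt h
  obtain ⟨h3, h⟩ := cond_tt h
  obtain ⟨h4, h⟩ := cond_tt h
  obtain ⟨h5, h⟩ := cond_tt h
  obtain ⟨h6, h⟩ := cond_tt h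
  obtain ⟨h7, h⟩ := cond_tt h
  obtain ⟨h8, h⟩ := cond_tt h
  obtain ⟨h9, h⟩ := cond_tt h
  obtain ⟨h10, h⟩ := cond_tt h
  obtain ⟨h11, h⟩ := cond_tt h
  obtain ⟨h12, h⟩ := cond_tt h
  obtain ⟨h13, _⟩ := cond_ff h
  exact ⟨h1, h2, h3, h4, h5, h6, h7, Nat.eq_of_beq_eq_true h8, Nat.eq_of_beq_eq_true h9, Nat.eq_of_beq_eq_true h10,
    h11, h12, h13⟩

structure Facts3 : Prop where
  pcA : pc 18 SA = 144
  pcU : pc 18 UA = 65536
  pcO : pc 18 OO = 61560

theorem facts3 : Facts3 := by
  have h := chkU3_eq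
  unfold chkU3 at h
  obtain ⟨h1, h⟩ := cond_tt h
  obtain ⟨h2, h⟩ := cond_tt h
  exact ⟨Nat.eq_of_beq_eq_true h1, Nat.eq_of_beq_eq_true h2, Nat.eq_of_beq_eq_true h⟩

structure Facts4 : Prop where
  all : ofList (gcw.map fun w => eu w 17) = SC1
  cen : gcw.all cenChk = true

theorem facts4 : Facts4 := by
  have h := chkU4_eq
  unfold chkU4 at h
  obtain ⟨h1, h⟩ := cond_tt h
  exact ⟨Nat.eq_of_beq_eq_true h1, h⟩

structure Facts5 : Prop where
  im : (List.range 45).all phiChk = true
  sc2 : ((List.range 18).all fun k =>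
    Nat.beq (runG ph (runG sc (runG ph (Nat.pow 2 k)))) (runG sc (runG sc (Nat.pow 2 k)))) = true
  sq : ((List.range 18).all fun k => Nat.beq (runG ph (runG ph (Nat.pow 2 k))) (Nat.pow 2 k)) = true

theorem facts5 : Facts5 := by
  have h := chkU5_eq
  unfold chkU5 at h
  obtain ⟨h1, h⟩ := cond_tt h
  obtain ⟨h2, h⟩ := cond_tt h
  exact ⟨h1, h2, h⟩

/-! ### words in the letters `ug` -/

theorem tabU : TabOK 18 9 ug D0 D1 :=
  ⟨by norm_num, by norm_num, okAll_mem ok_ug, D0_def, D1_def⟩

theorem eu_eq {w : List ℕ} (hw : ∀ i ∈ w, i < 15) {x : ℕ} (hx : x < 2 ^ 18) : eu w x = runF (wOps ug w) x :=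
  evP_eq tabU hw hx

theorem ok_wU (w : List ℕ) : okOps 18 (wOps ug w) = true := by
  induction w with
  | nil => rfl
  | cons i w ih =>
    have h1 : wOps ug (i :: w) = ug.getD i [] ++ wOps ug w := by simp [wOps]
    rw [h1]
    refine okOps_append ?_ ih
    by_cases hi : i < ug.length
    · rw [List.getD_eq_getElem _ _ hi]; exact okAll_mem ok_ug _ (List.getElem_mem hi)
    · rw [List.getD_eq_default _ _ (not_lt.1 hi)]; rfl

section
variable {V : Type*} [AddCommGroup V] {dc : ℕ → V} (hc : Coding 18 dc)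

/-- the words -/
noncomputable def U (w : List ℕ) : Equiv.Perm V := act hc (wOps ug w)

theorem U_nil : U hc [] = 1 := act_nil hc
theorem U_append (w v : List ℕ) : U hc (w ++ v) = U hc v * U hc w := by
  have h1 : wOps ug (w ++ v) = wOps ug w ++ wOps ug v := by simp [wOps]
  unfold U
  rw [h1, act_append hc (ok_wU w) (ok_wU v)]
theorem U_single (i : ℕ) : U hc [i] = act hc (ug.getD i []) := by
  have h1 : wOps ug [i] = ug.getD i [] := by simp [wOps]
  unfold U
  rw [h1]
theorem U_cons (i j : ℕ) (w : List ℕ) : U hc (i :: j :: w) = U hc (j :: w) * U hc [i] := by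
  have : i :: j :: w = [i] ++ (j :: w) := rfl
  rw [this, U_append]

theorem U_rp (w : List ℕ) (n : ℕ) : U hc (rp w n) = (U hc w) ^ n := by
  induction n with
  | zero => rw [pow_zero]; exact U_nil hc
  | succ n ih =>
    have h1 : rp w (n + 1) = w ++ rp w n := rfl
    rw [h1, U_append, ih, pow_succ]

theorem U_dec {w : List ℕ} (hw : ∀ i ∈ w, i < 15) {x : ℕ} (hx : x < 2 ^ 18) : U hc w (dc x) = dc (eu w x) := by
  unfold U
  rw [act_dec hc (ok_wU w) hx, eu_eq hw hx]

theorem eu_lt {w : List ℕ} (hw : ∀ i ∈ w, i < 15) {x : ℕ} (hx : x < 2 ^ 18) : eu w x < 2 ^ 18 := by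
  rw [eu_eq hw hx]; exact runF_lt (ok_wU w) hx

theorem U_of_same {w v : List ℕ} (hw : ∀ i ∈ w, i < 15) (hv : ∀ i ∈ v, i < 15) (h : sameU w v = true) :
    U hc w = U hc v := by
  apply act_eq_of_sameOps hc (ok_wU w) (ok_wU v)
  rw [sameOps_iff]
  intro k hk
  have h1 := Nat.eq_of_beq_eq_true (range_all h k hk)
  rw [← eu_eq hw (Nat.pow_lt_pow_right (by norm_num) hk), ← eu_eq hv (Nat.pow_lt_pow_right (by norm_num) hk)]
  exact h1

end

theorem rp_lt {w : List ℕ} {m : ℕ} (hw : ∀ i ∈ w, i < m) (n : ℕ) : ∀ i ∈ rp w n, i < m := by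
  induction n with
  | zero => intro i hi; exact absurd hi (by simp [rp])
  | succ n ih =>
    intro i hi
    have h1 : rp w (n + 1) = w ++ rp w n := rfl
    rw [h1, List.mem_append] at hi
    rcases hi with hi | hi
    · exact hw i hi
    · exact ih i hi

variable {F : Type*} [Field F] [Fintype F] (hF : Fintype.card F = 4) {ω : F} (h : Good ω)

/-- the elements -/
noncomputable def A : Equiv.Perm (F9 → F) := act (coding hF h) aa
noncomputable def B : Equiv.Perm (F9 → F) := act (coding hF h) bb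
noncomputable def C : Equiv.Perm (F9 → F) := act (coding hF h) cc
noncomputable def D : Equiv.Perm (F9 → F) := act (coding hF h) dd
noncomputable def S : Equiv.Perm (F9 → F) := act (coding hF h) sc

theorem U11 : U (coding hF h) [11] = A hF h := U_single _ 11
theorem U12 : U (coding hF h) [12] = B hF h := U_single _ 12
theorem U13 : U (coding hF h) [13] = C hF h := U_single _ 13
theorem U14 : U (coding hF h) [14] = D hF h := U_single _ 14
theorem U7 : U (coding hF h) [7] = T hF h := U_single _ 7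
theorem U10 : U (coding hF h) [10] = S hF h := U_single _ 10

theorem ok_aa : okOps 18 aa = true := okAll_mem ok_ug _ (by simp [ug])
theorem ok_bb : okOps 18 bb = true := okAll_mem ok_ug _ (by simp [ug])
theorem ok_cc : okOps 18 cc = true := okAll_mem ok_ug _ (by simp [ug])
theorem ok_dd : okOps 18 dd = true := okAll_mem ok_ug _ (by simp [ug])

theorem A_HH : A hF h ∈ HH ω := (act_mem _ ok_aa).2 (isRep_of_sameV hF h facts1.a)
theorem B_GC : B hF h ∈ GC hF h := by
  have : B hF h = W (coding hF h) bbW := (W_of_sameE _ (by decide) ok_bb facts1.b).symm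
  rw [this]; exact W_GC hF h (by decide)
theorem C_GC : C hF h ∈ GC hF h := by
  have : C hF h = W (coding hF h) ccW := (W_of_sameE _ (by decide) ok_cc facts1.c).symm
  rw [this]; exact W_GC hF h (by decide)
theorem D_GC : D hF h ∈ GC hF h := by
  have : D hF h = W (coding hF h) ddW := (W_of_sameE _ (by decide) ok_dd facts1.d).symm
  rw [this]; exact W_GC hF h (by decide)
theorem B_HH : B hF h ∈ HH ω := GC_le_HH hF h (B_GC hF h)
theorem C_HH : C hF h ∈ HH ω := GC_le_HH hF h (C_GC hF h)
theorem D_HH : D hF h ∈ HH ω := GC_le_HH hF h (D_GC hF h)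
theorem S_HH : S hF h ∈ HH ω := sc_HH hF h

theorem A17 : (A hF h) ^ 17 = 1 := by
  have := U_of_same (coding hF h) (w := rp [11] 17) (v := []) (rp_lt (by decide) 17) (by decide) facts2.a17
  rwa [U_rp, U11, U_nil] at this

theorem A_ne : A hF h ≠ 1 := by
  intro e
  have h1 := facts2.a1
  have h2 : sameU [11] [] = true := by
    unfold sameU
    rw [List.all_eq_true]
    intro k hk
    have hk' : (2 : ℕ) ^ k < 2 ^ 18 := Nat.pow_lt_pow_right (by norm_num) (List.mem_range.1 hk)
    have h3 := congrArg (fun g : Equiv.Perm (F9 → F) => g (dec ω (2 ^ k))) e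
    simp only [Equiv.Perm.one_apply] at h3
    rw [← U11, U_dec (coding hF h) (by decide) hk'] at h3
    have h4 := (coding hF h).inj _ _ (eu_lt (by decide) hk') hk' h3
    show Nat.beq (eu [11] (2 ^ k)) (eu [] (2 ^ k)) = true
    rw [h4]
    exact Nat.beq_refl _
  rw [h2] at h1
  exact absurd h1 (by simp)

theorem BA : B hF h * A hF h = A hF h ^ 2 * B hF h := by
  have := U_of_same (coding hF h) (w := [11, 12]) (v := [12, 11, 11]) (by decide) (by decide) facts2.ba
  simp only [U_cons, U11 hF h, U12 hF h] at this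
  rw [this, pow_two]

theorem B4 : (B hF h) ^ 4 = T hF h := by
  have := U_of_same (coding hF h) (w := [12, 12, 12, 12]) (v := [7]) (by decide) (by decide) facts2.b4
  simp only [U_cons, U12 hF h, U7 hF h] at this
  rw [← this, pow_succ, pow_succ, pow_two]

theorem B8 : (B hF h) ^ 8 = 1 := by
  have : (8 : ℕ) = 4 + 4 := rfl
  rw [this, pow_add, B4, T_sq]

theorem CB : C hF h * B hF h = B hF h ^ 5 * C hF h := by
  have := U_of_same (coding hF h) (w := [12, 13]) (v := [13, 12, 12, 12, 12, 12]) (by decide) (by decide) facts2.cb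
  simp only [U_cons, U12 hF h, U13 hF h] at this
  rw [this, pow_succ, pow_succ, pow_succ, pow_two]

theorem C2 : C hF h * C hF h = 1 := by
  have := U_of_same (coding hF h) (w := [13, 13]) (v := []) (by decide) (by decide) facts2.c2
  simpa only [U_cons, U13 hF h, U_nil] using this

theorem D2 : D hF h * D hF h = 1 := by
  have := U_of_same (coding hF h) (w := [14, 14]) (v := []) (by decide) (by decide) facts2.d2
  simpa only [U_cons, U14 hF h, U_nil] using this

theorem CA10 : (C hF h * A hF h) ^ 10 = 1 := by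
  have := U_of_same (coding hF h) (w := rp [11, 13] 10) (v := []) (rp_lt (by decide) 10) (by decide) facts2.ca
  simpa only [U_rp, U_cons, U11 hF h, U13 hF h, U_nil] using this

theorem u1_lt : u1 < 2 ^ 18 := by norm_num [u1]

theorem fixA : A hF h (dec ω u1) = dec ω u1 := by
  rw [← U11, U_dec _ (by decide) u1_lt, facts2.fa]
theorem fixB : B hF h (dec ω u1) = dec ω u1 := by
  rw [← U12, U_dec _ (by decide) u1_lt, facts2.fb]
theorem fixD : D hF h (dec ω u1) = dec ω u1 := by
  rw [← U14, U_dec _ (by decide) u1_lt, facts2.fd]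

theorem S_apply (v : F9 → F) : S hF h v = ω • v := sc_smul hF h v

include hF h in
theorem S_pow3 : (S hF h) ^ 3 = 1 := sc_pow3 hF h

theorem S_pow (k : ℤ) : S hF h ^ k = 1 ∨ S hF h ^ k = S hF h ∨ S hF h ^ k = S hF h * S hF h := by
  have h1 : S hF h ^ k = S hF h ^ (k % 3) := by
    conv_lhs => rw [← Int.emod_add_mul_ediv k 3]
    rw [zpow_add, zpow_mul]
    have : S hF h ^ (3 : ℤ) = 1 := S_pow3 hF h
    rw [this, one_zpow, mul_one]
  have h2 := Int.emod_nonneg k (b := 3) (by norm_num)
  have h3 := Int.emod_lt_of_pos k (b := 3) (by norm_num)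
  rw [h1]
  generalize k % 3 = m at h2 h3
  interval_cases m
  · left; exact zpow_zero _
  · right; left; exact zpow_one _
  · right; right; exact zpow_two _

/-- an element excluded by `notZ` -/
theorem notZ_spec {w : List ℕ} (hw : ∀ i ∈ w, i < 15) {x : ℕ} (hx : x < 2 ^ 18) (hn : notZ w x = true) (k : ℤ) :
    U (coding hF h) w ≠ S hF h ^ k := by
  have hc := coding hF h
  unfold notZ at hn
  obtain ⟨h1, hn⟩ := cond_ff hn
  obtain ⟨h2, hn⟩ := cond_ff hn
  obtain ⟨h3, _⟩ := cond_ff hn
  intro e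
  have e1 : U (coding hF h) w (dec ω x) = (S hF h ^ k) (dec ω x) := by rw [e]
  rw [U_dec _ hw hx] at e1
  rcases S_pow hF h k with hk | hk | hk <;> rw [hk] at e1
  · exact Nat.ne_of_beq_eq_false h1 (hc.inj _ _ (eu_lt hw hx) hx e1)
  · rw [← U10, U_dec _ (by decide) hx] at e1
    exact Nat.ne_of_beq_eq_false h2 (hc.inj _ _ (eu_lt hw hx) (eu_lt (by decide) hx) e1)
  · rw [← U10, ← U_cons, U_dec _ (by decide) hx] at e1
    exact Nat.ne_of_beq_eq_false h3 (hc.inj _ _ (eu_lt hw hx) (eu_lt (by decide) hx) e1)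

theorem excl1 (k : ℤ) : (C hF h * A hF h ^ 3) ^ 10 ≠ S hF h ^ k := by
  have := notZ_spec hF h (rp_lt (w := [11, 11, 11, 13]) (by decide) 10) (by norm_num) facts2.n1 k
  simp only [U_rp, U_cons, U11 hF h, U13 hF h] at this
  have e : C hF h * A hF h ^ 3 = C hF h * A hF h * A hF h * A hF h := by
    rw [pow_succ, pow_two]; simp only [mul_assoc]
  rw [e]; exact this

theorem excl2 (k : ℤ) : (C hF h * T hF h * A hF h ^ 3) ^ 10 ≠ S hF h ^ k := by
  have := notZ_spec hF h (rp_lt (w := [11, 11, 11, 7, 13]) (by decide) 10) (by norm_num) facts2.n2 k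
  simp only [U_rp, U_cons, U11 hF h, U13 hF h, U7 hF h] at this
  have e : C hF h * T hF h * A hF h ^ 3 = C hF h * T hF h * A hF h * A hF h * A hF h := by
    rw [pow_succ, pow_two]; simp only [mul_assoc]
  rw [e]; exact this

theorem A_def : A hF h = act (coding hF h) aa := rfl
theorem B_def : B hF h = act (coding hF h) bb := rfl
theorem C_def : C hF h = act (coding hF h) cc := rfl
theorem D_def : D hF h = act (coding hF h) dd := rfl
theorem S_def : S hF h = act (coding hF h) sc := rfl

attribute [irreducible] A B C D S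

end H10.J3U
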