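import Cfsg.Agent.Lib.H10.J3U
import Mathlib.GroupTheory.GroupAction.ConjAct

set_option autoImplicit false
set_option linter.unusedSectionVars false

/-! The centralizers of `a` and `b`. -/

namespace H10.J3U

open H10.BitPar H10.BitOrb H10.BitTab H10.J3Data H10.J3DataT H10.J3DataU H10.J3Comp H10.J3Order H10.J3Tab H10.J3Model
open H10.J3Simple H10.J3T Cfsg.Spor

/-- counting conjugates -/
theorem class_le {G : Type*} [Group G] [Finite G] (a : G) (X : Set G) (hX : ∀ x ∈ X, ∃ g, x = g * a * g⁻¹) :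
    X.ncard * Nat.card (Subgroup.centralizer ({a} : Set G)) ≤ Nat.card G := by
  classical
  have h1 : X ⊆ MulAction.orbit (ConjAct G) a := by
    intro x hx
    obtain ⟨g, rfl⟩ := hX x hx
    exact ⟨ConjAct.toConjAct g, ConjAct.toConjAct_smul g a⟩
  have h2 := Subgroup.card_mul_index (MulAction.stabilizer (ConjAct G) a)
  rw [MulAction.index_stabilizer] at h2
  have h3 : Nat.card (MulAction.stabilizer (ConjAct G) a) = Nat.card (Subgroup.centralizer ({a} : Set G)) := by
    rw [ConjAct.stabilizer_eq_centralizer]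
    rfl
  have h4 : Nat.card (ConjAct G) = Nat.card G := rfl
  rw [← h3, ← h4, ← h2, mul_comm]
  exact Nat.mul_le_mul_left _ (Set.ncard_le_ncard h1 (Set.toFinite _))

variable {F : Type*} [Field F] [Fintype F] (hF : Fintype.card F = 4) {ω : F} (h : Good ω)

include hF h in
theorem rep_abc : ∀ l ∈ abc, okOps 18 l = true ∧ IsRep 18 (dec ω) (HH ω) l := by
  intro l hl
  simp only [abc, List.mem_cons, List.not_mem_nil, or_false] at hl
  rcases hl with rfl | rfl | rfl
  · exact ⟨ok_cc, (act_mem (coding hF h) ok_cc).1 (C_def hF h ▸ C_HH hF h)⟩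
  · exact ⟨ok_aa, (act_mem (coding hF h) ok_aa).1 (A_def hF h ▸ A_HH hF h)⟩
  · exact ⟨ok_bb, (act_mem (coding hF h) ok_bb).1 (B_def hF h ▸ B_HH hF h)⟩

/-- the stabilizer -/
noncomputable def LL (ω : F) : Subgroup (Equiv.Perm (F9 → F)) := stab (HH ω) (dec ω u1)

include hF h in
theorem card_LL : Nat.card (LL ω) ≤ 2448 := by
  have h1 : pc 18 OO * Nat.card (LL ω) ≤ Nat.card (HH ω) := by
    rw [OO_def]
    exact le_card_mul (coding hF h) (rep_abc hF h) 10 u1_lt
  rw [facts3.pcO, card_HH, card_threeJ3 hF h] at h1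
  omega

theorem A_LL : A hF h ∈ LL ω := ⟨A_HH hF h, fixA hF h⟩
theorem B_LL : B hF h ∈ LL ω := ⟨B_HH hF h, fixB hF h⟩
theorem D_LL : D hF h ∈ LL ω := ⟨D_HH hF h, fixD hF h⟩

/-- the conjugates -/
theorem conj_spec {i j : ℕ} (hi : i < 8) (hj : j < 18) : ∃ g ∈ LL ω,
    U (coding hF h) (gi i j ++ ([11] ++ gw i j)) = g * A hF h * g⁻¹ := by
  have hB : ∀ i ≤ 8, B hF h ^ (8 - i) = (B hF h ^ i)⁻¹ := by
    intro i hi
    rw [eq_inv_iff_mul_eq_one, ← pow_add, Nat.sub_add_cancel hi, B8]
  have hA : ∀ i ≤ 17, A hF h ^ (17 - i) = (A hF h ^ i)⁻¹ := by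
    intro i hi
    rw [eq_inv_iff_mul_eq_one, ← pow_add, Nat.sub_add_cancel hi, A17]
  have hD : (D hF h)⁻¹ = D hF h := by
    rw [inv_eq_iff_mul_eq_one]; exact D2 hF h
  by_cases h17 : j = 17
  · subst h17
    refine ⟨B hF h ^ i, (LL ω).pow_mem (B_LL hF h) _, ?_⟩
    have e1 : gi i 17 = rp [12] (8 - i) := rfl
    have e2 : gw i 17 = rp [12] i := rfl
    rw [e1, e2, U_append, U_append, U_rp, U_rp, U11, U12, hB i hi.le]
  · have hb : Nat.beq j 17 = false := by
      cases hb : Nat.beq j 17 with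
      | false => rfl
      | true => exact absurd (Nat.eq_of_beq_eq_true hb) h17
    refine ⟨B hF h ^ i * (A hF h ^ j * D hF h), (LL ω).mul_mem ((LL ω).pow_mem (B_LL hF h) _)
      ((LL ω).mul_mem ((LL ω).pow_mem (A_LL hF h) _) (D_LL hF h)), ?_⟩
    have e1 : gi i j = rp [12] (8 - i) ++ (rp [11] (17 - j) ++ [14]) := by unfold gi; rw [hb]; rfl
    have e2 : gw i j = [14] ++ (rp [11] j ++ rp [12] i) := by unfold gw; rw [hb]; rfl
    rw [e1, e2]
    simp only [U_append, U_rp, U11 hF h, U12 hF h, U14 hF h]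
    rw [hB i hi.le, hA j (by omega), mul_inv_rev, mul_inv_rev, hD]
    simp only [mul_assoc]

theorem gw_lt (i j : ℕ) : ∀ k ∈ gi i j ++ ([11] ++ gw i j), k < 15 := by
  have h12 : ∀ n, ∀ k ∈ rp [12] n, k < 15 := rp_lt (by decide)
  have h11 : ∀ n, ∀ k ∈ rp [11] n, k < 15 := rp_lt (by decide)
  have h1 : ∀ k ∈ gi i j, k < 15 := by
    intro k hk
    unfold gi at hk
    cases hb : Nat.beq j 17 <;> rw [hb] at hk
    · simp only [cond_false, List.mem_append] at hk
      rcases hk with hk | hk | hk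
      · exact h12 _ k hk
      · exact h11 _ k hk
      · rw [List.mem_singleton.1 hk]; norm_num
    · exact h12 _ k hk
  have h2 : ∀ k ∈ gw i j, k < 15 := by
    intro k hk
    unfold gw at hk
    cases hb : Nat.beq j 17 <;> rw [hb] at hk
    · simp only [cond_false, List.mem_append] at hk
      rcases hk with hk | hk | hk
      · rw [List.mem_singleton.1 hk]; norm_num
      · exact h11 _ k hk
      · exact h12 _ k hk
    · exact h12 _ k hk
  intro k hk
  rw [List.mem_append, List.mem_append] at hk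
  rcases hk with hk | hk | hk
  · exact h1 k hk
  · rw [List.mem_singleton.1 hk]; norm_num
  · exact h2 k hk

/-- the centralizer of `a` in the stabilizer -/
theorem cent_A_LL {g : Equiv.Perm (F9 → F)} (hg : g ∈ LL ω) (hc : g * A hF h = A hF h * g) :
    g ∈ Subgroup.zpowers (A hF h) := by
  have hcod := coding hF h
  have hfin := finite_V hcod
  let a : LL ω := ⟨A hF h, A_LL hF h⟩
  have : Fact (Nat.Prime 17) := ⟨by norm_num⟩
  have hord : orderOf a = 17 := by
    apply orderOf_eq_prime (p := 17)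
    · apply Subtype.ext; exact A17 hF h
    · intro e; exact A_ne hF h (congrArg Subtype.val e)
  let X : Set (LL ω) := {x | ∃ g, x = g * a * g⁻¹}
  have h1 := class_le a X (fun x hx => hx)
  have h2 : 144 ≤ X.ncard := by
    rw [← facts3.pcA, ← ncard_toSet hcod]
    have h3 : toSet 18 (dec ω) SA ⊆ (fun x : LL ω => (x : Equiv.Perm (F9 → F)) (dec ω 1604)) '' X := by
      rintro _ ⟨x, hx, hxS, rfl⟩
      rw [SA_def, testBit_ofList] at hxS
      obtain ⟨p, hp, rfl⟩ := List.mem_map.1 hxS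
      unfold ijs at hp
      obtain ⟨i, hi, hp⟩ := List.mem_flatMap.1 hp
      obtain ⟨j, hj, rfl⟩ := List.mem_map.1 hp
      obtain ⟨g, hg, e⟩ := conj_spec hF h (List.mem_range.1 hi) (List.mem_range.1 hj)
      refine ⟨⟨g, hg⟩ * a * ⟨g, hg⟩⁻¹, ⟨⟨g, hg⟩, rfl⟩, ?_⟩
      show (g * A hF h * g⁻¹) (dec ω 1604) = _
      rw [← e, U_dec hcod (gw_lt i j) (by norm_num)]
    calc _ ≤ ((fun x : LL ω => (x : Equiv.Perm (F9 → F)) (dec ω 1604)) '' X).ncard :=
          Set.ncard_le_ncard h3 (Set.toFinite _)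
      _ ≤ _ := Set.ncard_image_le (Set.toFinite _)
  have h4 : Nat.card (Subgroup.centralizer ({a} : Set (LL ω))) ≤ 17 := by
    have h5 := card_LL hF h
    have h6 : 144 * Nat.card (Subgroup.centralizer ({a} : Set (LL ω))) ≤ 2448 :=
      (Nat.mul_le_mul_right _ h2).trans (h1.trans h5)
    omega
  have h5 : Subgroup.zpowers a = Subgroup.centralizer ({a} : Set (LL ω)) := by
    apply Subgroup.eq_of_le_of_card_ge
    · rw [Subgroup.zpowers_le, Subgroup.mem_centralizer_singleton_iff]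
    · rw [Nat.card_zpowers, hord]; exact h4
  have h6 : (⟨g, hg⟩ : LL ω) ∈ Subgroup.zpowers a := by
    rw [h5, Subgroup.mem_centralizer_singleton_iff]
    apply Subtype.ext
    exact hc
  obtain ⟨k, hk⟩ := h6
  refine ⟨k, ?_⟩
  have := congrArg Subtype.val hk
  exact this

/-- the fixed space of `a` -/
theorem fix_space {v : F9 → F} (hv : A hF h v = v) : v = 0 ∨ v = dec ω u1 ∨ v = ω • dec ω u1 ∨ v = ω • ω • dec ω u1 := by
  classical
  have hcod := coding hF h
  have hfin := finite_V hcod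
  have hadd := additive_HH ω (A hF h) (A_HH hF h)
  let f : (F9 → F) →+ (F9 → F) := AddMonoidHom.mk' (fun w => w + A hF h w) (fun u v => by
    rw [hadd]; exact add_add_add_comm _ _ _ _)
  have h1 : (f.range : Set (F9 → F)).ncard = 65536 := by
    have hA' : act (coding hF h) aa ∈ HH ω := A_def hF h ▸ A_HH hF h
    have h5 := toSet_moved (coding hF h) ok_aa (additive_HH ω _ hA')
    rw [← A_def hF h, ← UA_def] at h5
    rw [← facts3.pcU, ← ncard_toSet hcod, h5]
    congr 1
    ext v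
    constructor
    · rintro ⟨w, rfl⟩; exact ⟨w, rfl⟩
    · rintro ⟨w, rfl⟩; exact ⟨w, rfl⟩
  have h2 : Nat.card f.ker = 4 := by
    have h3 := f.ker.card_mul_index
    rw [AddSubgroup.index_ker, card_V hF] at h3
    have h4 : Nat.card f.range = 65536 := h1
    rw [h4] at h3
    omega
  have hsub : ∀ w : F9 → F, w ∈ f.ker ↔ A hF h w = w := by
    intro w
    rw [AddMonoidHom.mem_ker]
    show w + A hF h w = 0 ↔ _
    have h3 : w + w = 0 := add_self hcod w
    constructor
    · intro e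
      have : w + A hF h w = w + w := by rw [e, h3]
      exact add_left_cancel this
    · intro e; rw [e, h3]
  have hu0 : dec ω u1 ≠ 0 := by
    intro e
    rw [← dec_zero hcod] at e
    exact absurd (hcod.inj _ _ u1_lt (by norm_num) e) (by norm_num [u1])
  have hω1 : ω ≠ 1 := h.ne1
  have hω0 : ω ≠ 0 := h.ne0
  let K : Finset (F9 → F) := {0, dec ω u1, ω • dec ω u1, ω • ω • dec ω u1}
  have hK : K.card = 4 := by
    have e1 : (0 : F9 → F) ≠ dec ω u1 := fun e => hu0 e.symm
    have e2 : (0 : F9 → F) ≠ ω • dec ω u1 := fun e => smul_ne_zero hω0 hu0 e.symm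
    have e3 : (0 : F9 → F) ≠ ω • ω • dec ω u1 := fun e => smul_ne_zero hω0 (smul_ne_zero hω0 hu0) e.symm
    have e4 : dec ω u1 ≠ ω • dec ω u1 := by
      intro e
      have h5 : (1 - ω) • dec ω u1 = 0 := by rw [sub_smul, one_smul, ← e, sub_self]
      rcases smul_eq_zero.1 h5 with h6 | h6
      · exact hω1 (sub_eq_zero.1 h6).symm
      · exact hu0 h6
    have e5 : dec ω u1 ≠ ω • ω • dec ω u1 := by
      intro e
      have h5 : (1 - ω * ω) • dec ω u1 = 0 := by rw [sub_smul, one_smul, mul_smul, ← e, sub_self]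
      rcases smul_eq_zero.1 h5 with h6 | h6
      · have h7 : ω * ω = 1 := (sub_eq_zero.1 h6).symm
        have h8 := H10.J3Simple.Good.cube h
        apply hω1
        calc ω = ω * (ω * ω) := by rw [h7, mul_one]
          _ = ω ^ 3 := by ring
          _ = 1 := h8
      · exact hu0 h6
    have e6 : ω • dec ω u1 ≠ ω • ω • dec ω u1 := by
      intro e
      exact e4 (smul_right_injective _ hω0 e)
    simp only [K]
    rw [Finset.card_insert_of_notMem, Finset.card_insert_of_notMem, Finset.card_insert_of_notMem, Finset.card_singleton]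
    · simp only [Finset.mem_singleton]; exact e6
    · simp only [Finset.mem_insert, Finset.mem_singleton, not_or]; exact ⟨e4, e5⟩
    · simp only [Finset.mem_insert, Finset.mem_singleton, not_or]; exact ⟨e1, e2, e3⟩
  have hKf : (K : Set (F9 → F)) ⊆ (f.ker : Set (F9 → F)) := by
    intro w hw
    have hsm : ∀ w, A hF h w = w → A hF h (ω • w) = ω • w := by
      intro w hw
      rw [smul_HH ω (A_HH hF h), hw]
    have hA0 : A hF h 0 = 0 := (hsub 0).1 f.ker.zero_mem
    simp only [K, Finset.coe_insert, Finset.coe_singleton, Set.mem_insert_iff, Set.mem_singleton_iff] at hw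
    show w ∈ f.ker
    rw [hsub]
    rcases hw with rfl | rfl | rfl | rfl
    · exact hA0
    · exact fixA hF h
    · exact hsm _ (fixA hF h)
    · exact hsm _ (hsm _ (fixA hF h))
  have hKe : (K : Set (F9 → F)) = (f.ker : Set (F9 → F)) := by
    apply Set.eq_of_subset_of_ncard_le hKf
    · rw [Set.ncard_coe_finset, hK]
      exact h2.le
  have hvK : v ∈ (K : Set (F9 → F)) := by
    rw [hKe]; exact (hsub v).2 hv
  simpa only [K, Finset.coe_insert, Finset.coe_singleton, Set.mem_insert_iff, Set.mem_singleton_iff] using hvK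

theorem S_comm {x : Equiv.Perm (F9 → F)} (hx : x ∈ HH ω) : x * S hF h = S hF h * x := by
  rw [S_def]; exact sc_comm hF h hx

/-- the centralizer of `a` in 3.J3 -/
theorem cent_A {g : Equiv.Perm (F9 → F)} (hg : g ∈ HH ω) (hc : g * A hF h = A hF h * g) :
    ∃ i j : ℤ, g = A hF h ^ i * S hF h ^ j := by
  have hcod := coding hF h
  have h1 : A hF h (g (dec ω u1)) = g (dec ω u1) := by
    have : (A hF h * g) (dec ω u1) = (g * A hF h) (dec ω u1) := by rw [hc]
    have h2 : A hF h (g (dec ω u1)) = g (A hF h (dec ω u1)) := this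
    rw [h2, fixA]
  have hg0 : g 0 = 0 := by
    have := additive_HH ω g hg 0 0
    rw [add_zero] at this
    have h7 : g 0 + 0 = g 0 + g 0 := by rw [add_zero]; exact this
    exact (add_left_cancel h7).symm
  have hu0 : dec ω u1 ≠ 0 := by
    intro e
    rw [← dec_zero hcod] at e
    exact absurd (hcod.inj _ _ u1_lt (by norm_num) e) (by norm_num [u1])
  have key : ∃ j : ℤ, (g * S hF h ^ (-j)) (dec ω u1) = dec ω u1 := by
    have hgs : ∀ v, g (ω • v) = ω • g v := fun v => smul_HH ω hg ω v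
    have hc3 := H10.J3Simple.Good.cube h
    have h3 : ∀ v : F9 → F, ω • ω • ω • v = v := by
      intro v
      rw [smul_smul, smul_smul]
      have : ω * ω * ω = 1 := by rw [← hc3]; ring
      rw [this, one_smul]
    rcases fix_space hF h h1 with e | e | e | e
    · exfalso
      exact hu0 (g.injective (e.trans hg0.symm))
    · exact ⟨0, by rw [neg_zero, zpow_zero, mul_one]; exact e⟩
    · refine ⟨-2, ?_⟩
      rw [neg_neg]
      show g ((S hF h ^ (2 : ℤ)) (dec ω u1)) = _
      rw [zpow_two]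
      show g (S hF h (S hF h (dec ω u1))) = _
      rw [S_apply, S_apply, hgs, hgs, e, h3]
    · refine ⟨-1, ?_⟩
      rw [neg_neg, zpow_one]
      show g (S hF h (dec ω u1)) = _
      rw [S_apply, hgs, e, h3]
  obtain ⟨j, hj⟩ := key
  have hS : S hF h ^ (-j) ∈ HH ω := (HH ω).zpow_mem (S_HH hF h) _
  have h2 : g * S hF h ^ (-j) ∈ LL ω := ⟨(HH ω).mul_mem hg hS, hj⟩
  have hcomm : ∀ x ∈ HH ω, ∀ k : ℤ, x * S hF h ^ k = S hF h ^ k * x := by
    intro x hx k
    have : Commute x (S hF h) := S_comm hF h hx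
    exact this.zpow_right k
  have h3 : g * S hF h ^ (-j) * A hF h = A hF h * (g * S hF h ^ (-j)) := by
    rw [mul_assoc, ← hcomm _ (A_HH hF h), ← mul_assoc, hc, mul_assoc]
  obtain ⟨i, hi⟩ := cent_A_LL hF h h2 h3
  refine ⟨i, j, ?_⟩
  have hi' : A hF h ^ i = g * S hF h ^ (-j) := hi
  rw [hi', mul_assoc, ← zpow_add, neg_add_cancel, zpow_zero, mul_one]

theorem ug_tg : ∀ i < 11, ug.getD i [] = tg.getD i [] := by
  intro i hi
  interval_cases i <;> rfl

theorem U_eq_W {w : List ℕ} (hw : ∀ i ∈ w, i < 11) : U (coding hF h) w = W (coding hF h) w := by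
  have h1 : wOps ug w = wOps tg w := by
    unfold wOps
    apply List.flatMap_congr
    intro i hi
    exact ug_tg i (hw i hi)
  unfold U W
  rw [h1]

theorem gcw_lt : ∀ w ∈ gcw, ∀ i ∈ w, i < 8 := by
  intro w hw
  unfold gcw at hw
  obtain ⟨v, hv, hw⟩ := List.mem_flatMap.1 hw
  obtain ⟨m, hm, rfl⟩ := List.mem_map.1 hw
  intro i hi
  rcases List.mem_append.1 hi with hi | hi
  · rcases hws_ok v hv i hi with rfl | rfl <;> norm_num
  · exact (bw32 m (List.mem_range.1 hm) i hi).2

/-- all elements of `GC` -/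
theorem GC_words {g : Equiv.Perm (F9 → F)} (hg : g ∈ GC hF h) : ∃ w ∈ gcw, g = U (coding hF h) w := by
  have hc := coding hF h
  have h1 : g (dec ω 17) ∈ toSet 18 (dec ω) SC1 := by
    rw [← orbit_GC hF h]; exact mem_orbit_iff.2 ⟨g, hg, rfl⟩
  obtain ⟨x, hx, hxS, e⟩ := h1
  rw [← facts4.all, testBit_ofList] at hxS
  obtain ⟨w, hw, rfl⟩ := List.mem_map.1 hxS
  have hw8 := gcw_lt w hw
  refine ⟨w, hw, ?_⟩
  rw [U_eq_W hF h fun i hi => (hw8 i hi).trans (by norm_num)]
  apply (baseGC hF h).eq hg (W_GC hF h fun i hi => (hw8 i hi).trans (by norm_num))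
  intro b hb
  rw [List.mem_singleton.1 hb, ← e, ← U_eq_W hF h fun i hi => (hw8 i hi).trans (by norm_num),
    U_dec hc (fun i hi => (hw8 i hi).trans (by norm_num)) (by norm_num)]

/-- the centralizer of `b` in `GC` -/
theorem cent_B_GC {g : Equiv.Perm (F9 → F)} (hg : g ∈ GC hF h) (hcm : g * B hF h = B hF h * g) :
    ∃ i : ℕ, g = B hF h ^ i := by
  have hc := coding hF h
  have h17 : (17 : ℕ) < 2 ^ 18 := by norm_num
  obtain ⟨w, hw, rfl⟩ := GC_words hF h hg
  have hw15 : ∀ i ∈ w, i < 15 := fun i hi => (gcw_lt w hw i hi).trans (by norm_num)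
  have h12 : ∀ i ∈ [12], i < 15 := by decide
  have h1 := all_of facts4.cen w hw
  unfold cenChk at h1
  have h2 : eu [12] (eu w 17) = eu w (eu [12] 17) := by
    apply hc.inj _ _ (eu_lt h12 (eu_lt hw15 h17)) (eu_lt hw15 (eu_lt h12 h17))
    rw [← U_dec hc h12 (eu_lt hw15 h17), ← U_dec hc hw15 h17, ← U_dec hc hw15 (eu_lt h12 h17), ← U_dec hc h12 h17, U12]
    show (B hF h * U hc w) (dec ω 17) = (U hc w * B hF h) (dec ω 17)
    rw [hcm]
  rw [h2, Nat.beq_refl, cond_true, List.any_eq_true] at h1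
  obtain ⟨i, _, hi⟩ := h1
  have hi' := Nat.eq_of_beq_eq_true hi
  refine ⟨i, (baseGC hF h).eq hg ((GC hF h).pow_mem (B_GC hF h) i) ?_⟩
  intro b hb
  rw [List.mem_singleton.1 hb, U_dec hc hw15 h17, hi', ← U_dec hc (rp_lt h12 i) h17, U_rp, U12]

/-- the centralizer of `b` in 3.J3 -/
theorem cent_B {g : Equiv.Perm (F9 → F)} (hg : g ∈ HH ω) (hc : g * B hF h = B hF h * g) :
    ∃ (i : ℕ) (j : ℤ), g = B hF h ^ i * S hF h ^ j := by
  have h1 : g * T hF h = T hF h * g := by
    have : Commute g (B hF h) := hc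
    rw [← B4]
    exact this.pow_right 4
  have h2 : g ∈ GK hF h := by
    rw [GK_eq_CT hF h]
    exact (mem_CT hF h).2 ⟨hg, h1⟩
  obtain ⟨c, hcG, k, e⟩ := GK_decomp hF h h2
  rw [← S_def] at e
  have hcomm : ∀ x ∈ HH ω, ∀ k : ℤ, x * S hF h ^ k = S hF h ^ k * x := by
    intro x hx k
    have : Commute x (S hF h) := S_comm hF h hx
    exact this.zpow_right k
  have h3 : c * B hF h = B hF h * c := by
    rw [e, mul_assoc, ← hcomm _ (B_HH hF h), ← mul_assoc, ← mul_assoc] at hc
    exact mul_right_cancel hc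
  obtain ⟨i, hi⟩ := cent_B_GC hF h hcG h3
  exact ⟨i, k, by rw [e, hi]⟩

end H10.J3U
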