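import Cfsg.Agent.Lib.H10.J3Lines
import Cfsg.Prelude.Def_Classical
import Cfsg.Prelude.Def_Sporadic

set_option autoImplicit false
set_option linter.unusedSectionVars false
set_option linter.unusedVariables false

/-! 3.J3 inside SU(9,2). -/

namespace H10.J3Unitary

open H10.BitPar H10.BitOrb H10.J3Data H10.J3Data2 H10.J3Model H10.J3Comp H10.J3Order H10.J3Simple H10.J3Lines Cfsg.Spor
open scoped commutatorElement

theorem inv1 : invAll 18 gensL T1 = true := by decide +kernel

variable {F : Type*} [Field F] [Fintype F]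

theorem inv_T1 (hF : Fintype.card F = 4) {ω : F} (h : Good ω) : Inv 18 (dec ω) (HH ω) T1 := by
  rw [HH_eq]
  exact inv_closure (coding hF h) inv1 (okAll_mem ok_gens) (rep_gens hF h)

/-- the norm -/
def nrm (v : F9 → F) : F := ∑ z, (v z) ^ 3

/-- the Hermitian form -/
def hf (u v : F9 → F) : F := ∑ z, u z * (v z) ^ 2

theorem nrm_cases (hF : Fintype.card F = 4) {ω : F} (h : Good ω) (v : F9 → F) : nrm v = 0 ∨ nrm v = 1 := by
  obtain ⟨x, hx, rfl⟩ := (coding hF h).surj v
  unfold nrm
  rw [sum_cube h x hx]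
  generalize ((nzM 0).testBit x ^^ _) = b
  cases b
  · left; rfl
  · right; rfl

theorem mem_T1_iff (hF : Fintype.card F = 4) {ω : F} (h : Good ω) (v : F9 → F) :
    v ∈ toSet 18 (dec ω) T1 ↔ v ≠ 0 ∧ nrm v = 0 := by
  constructor
  · intro hv
    obtain ⟨x, hx, rfl⟩ := (coding hF h).surj v
    rw [mem_toSet (coding hF h) hx, Nat.eq_of_beq_eq_true chkPS, PS_def, testBit_PS', testBit_ff, decide_eq_true hx] at hv
    by_cases hx0 : x = 0
    · subst hx0
      exfalso
      have hz : ∀ k, k < 9 → (nzM k).testBit 0 = false := by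
        intro k hk
        rw [testBit_nzM hk (by norm_num)]; simp
      rw [hz 0 (by norm_num), hz 1 (by norm_num), hz 2 (by norm_num), hz 3 (by norm_num), hz 4 (by norm_num),
        hz 5 (by norm_num), hz 6 (by norm_num), hz 7 (by norm_num), hz 8 (by norm_num)] at hv
      simp at hv
    · refine ⟨fun h0 => hx0 ?_, ?_⟩
      · rw [← dec_zero (coding hF h)] at h0
        exact (coding hF h).inj _ _ hx (by norm_num) h0
      · unfold nrm
        rw [sum_cube h x hx]
        rw [decide_eq_false hx0] at hv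
        generalize ((nzM 0).testBit x ^^ _) = b at hv
        cases b
        · simp [bF]
        · simp at hv
  · rintro ⟨hv, h0⟩
    exact mem_T1 hF h hv h0

theorem nrm_inv (hF : Fintype.card F = 4) {ω : F} (h : Good ω) {g : Equiv.Perm (F9 → F)} (hg : g ∈ HH ω) (v : F9 → F) :
    nrm (g v) = nrm v := by
  have hg0 : g 0 = 0 := by
    have := smul_HH ω hg 0 0
    rwa [zero_smul, zero_smul] at this
  by_cases hv : v = 0
  · rw [hv, hg0]
  · have hgv : g v ≠ 0 := by
      intro e
      apply hv
      apply g.injective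
      rw [e, hg0]
    have h1 := inv_T1 hF h g hg v
    rw [mem_T1_iff hF h, mem_T1_iff hF h] at h1
    rcases nrm_cases hF h v with h2 | h2 <;> rcases nrm_cases hF h (g v) with h3 | h3
    · rw [h2, h3]
    · have := (h1.2 ⟨hv, h2⟩).2
      rw [h3] at this
      exact absurd this one_ne_zero
    · have := (h1.1 ⟨hgv, h3⟩).2
      rw [h2] at this
      exact absurd this one_ne_zero
    · rw [h2, h3]

theorem pow_four (hF : Fintype.card F = 4) (a : F) : a ^ 4 = a := by
  rw [← hF]; exact FiniteField.pow_card a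

theorem trace_hf (hF : Fintype.card F = 4) {ω : F} (h : Good ω) (u v : F9 → F) :
    hf u v + (hf u v) ^ 2 = nrm (u + v) + nrm u + nrm v := by
  have h2 := h.two
  have hsq : (hf u v) ^ 2 = ∑ z, (u z) ^ 2 * v z := by
    have hch : CharP F 2 := CharTwo.of_one_ne_zero_of_two_eq_zero one_ne_zero h2
    unfold hf
    rw [sum_pow_char 2]
    apply Finset.sum_congr rfl
    intro z _
    have := pow_four hF (v z)
    rw [mul_pow, ← pow_mul, this]
  rw [hsq]
  unfold hf nrm
  rw [← Finset.sum_add_distrib, ← Finset.sum_add_distrib, ← Finset.sum_add_distrib]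
  apply Finset.sum_congr rfl
  intro z _
  rw [Pi.add_apply]
  linear_combination (-(u z) ^ 3 - (v z) ^ 3 - (u z) * (v z) ^ 2 - (u z) ^ 2 * (v z)) * h2

theorem hf_smul (c : F) (u v : F9 → F) : hf (c • u) v = c * hf u v := by
  unfold hf
  rw [Finset.mul_sum]
  apply Finset.sum_congr rfl
  intro z _
  rw [Pi.smul_apply, smul_eq_mul]; ring

theorem hf_inv (hF : Fintype.card F = 4) {ω : F} (h : Good ω) {g : Equiv.Perm (F9 → F)} (hg : g ∈ HH ω) (u v : F9 → F) :
    hf (g u) (g v) = hf u v := by
  have h2 := h.two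
  have hsq := h.sq
  have key : ∀ u v, hf (g u) (g v) + (hf (g u) (g v)) ^ 2 = hf u v + (hf u v) ^ 2 := by
    intro u v
    rw [trace_hf hF h, trace_hf hF h, ← additive_HH ω g hg, nrm_inv hF h hg, nrm_inv hF h hg, nrm_inv hF h hg]
  have h3 := key u v
  have h4 := key (ω • u) v
  rw [smul_HH ω hg, hf_smul, hf_smul] at h4
  generalize hf (g u) (g v) = a at h3 h4
  generalize hf u v = b at h3 h4
  -- a + a^2 = b + b^2, ωa + ω²a² = ωb + ω²b²
  have h5 : (ω + ω ^ 2) * (a - b) = 0 := by
    linear_combination -h4 + ω ^ 2 * h3 + ω * (a - b) * h2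
  rcases mul_eq_zero.1 h5 with h6 | h6
  · exfalso
    apply one_ne_zero (α := F)
    linear_combination h6 - hsq - ω * h2
  · exact sub_eq_zero.1 h6

theorem det_one (hF : Fintype.card F = 4) {ω : F} (h : Good ω) (g : threeJ3 F ω) :
    ((g : GL F9 F) : Matrix F9 F9 F).det = 1 := by
  let f : threeJ3 F ω →* Fˣ := (Matrix.GeneralLinearGroup.det).comp (threeJ3 F ω).subtype
  have h1 : commutator (threeJ3 F ω) ≤ f.ker := by
    rw [commutator_def, Subgroup.commutator_le]
    intro a _ b _
    rw [MonoidHom.mem_ker, map_commutatorElement, commutatorElement_eq_one_iff_mul_comm]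
    exact mul_comm _ _
  rw [commutator_threeJ3 hF h] at h1
  have h2 : f g = 1 := h1 (Subgroup.mem_top g)
  have h3 : Matrix.GeneralLinearGroup.det (g : GL F9 F) = 1 := h2
  have h4 := congrArg Units.val h3
  rwa [Matrix.GeneralLinearGroup.val_det_apply, Units.val_one] at h4

/-! ### transport to `Fin 9` -/

noncomputable def e9 : F9 ≃ Fin 9 := Fintype.equivFinOfCardEq (by rw [Fintype.card_prod, ZMod.card])

noncomputable def psi (hF : Fintype.card F = 4) {ω : F} (h : Good ω) : threeJ3 F ω →* Matrix.SpecialLinearGroup (Fin 9) F where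
  toFun g := ⟨Matrix.reindexAlgEquiv F F e9 ((g : GL F9 F) : Matrix F9 F9 F), by
    rw [Matrix.det_reindexAlgEquiv]; exact det_one hF h g⟩
  map_one' := by
    apply Subtype.ext
    show Matrix.reindexAlgEquiv F F e9 (1 : Matrix F9 F9 F) = 1
    exact map_one _
  map_mul' a b := by
    apply Subtype.ext
    show Matrix.reindexAlgEquiv F F e9 (((a : GL F9 F) : Matrix F9 F9 F) * ((b : GL F9 F) : Matrix F9 F9 F)) = _
    rw [map_mul]; rfl

theorem psi_injective (hF : Fintype.card F = 4) {ω : F} (h : Good ω) : Function.Injective (psi hF h) := by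
  intro a b hab
  apply Subtype.ext
  apply Units.ext
  exact (Matrix.reindexAlgEquiv F F e9).injective (congrArg Subtype.val hab)

theorem psi_mem (hF : Fintype.card F = 4) {ω : F} (h : Good ω) (g : threeJ3 F ω) : psi hF h g ∈ Cfsg.SU 9 F 2 := by
  have key : ∀ (u : Fin 9 → F), (Cfsg.slToMat 9 F (psi hF h g)).mulVec u = ((((g : GL F9 F) : Matrix F9 F9 F).mulVec (u ∘ e9)) ∘ e9.symm) := by
    intro u
    show (Matrix.reindex e9 e9 ((g : GL F9 F) : Matrix F9 F9 F)).mulVec u = _
    rw [Matrix.reindex_apply, Matrix.submatrix_mulVec_equiv]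
    rfl
  have hform : ∀ u v : F9 → F, Cfsg.hermForm 9 F 2 (u ∘ e9.symm) (v ∘ e9.symm) = hf u v := by
    intro u v
    unfold Cfsg.hermForm hf
    exact Equiv.sum_comp e9.symm (fun z => u z * v z ^ 2)
  intro u v
  rw [key, key, hform]
  have h1 := hf_inv hF h (g := toPerm F (g : GL F9 F)) ⟨_, g.2, rfl⟩ (u ∘ e9) (v ∘ e9)
  rw [toPerm_apply, toPerm_apply] at h1
  rw [h1, ← hform]
  congr 1
  · funext i; simp
  · funext i; simp

noncomputable def psi' (hF : Fintype.card F = 4) {ω : F} (h : Good ω) : threeJ3 F ω →* Cfsg.SU 9 F 2 :=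
  (psi hF h).codRestrict _ (psi_mem hF h)

theorem psi'_injective (hF : Fintype.card F = 4) {ω : F} (h : Good ω) : Function.Injective (psi' hF h) := by
  intro a b hab
  exact psi_injective hF h (congrArg Subtype.val hab)

/-- centres correspond -/
theorem map_center {A B : Type*} [Group A] [Group B] (e : A ≃* B) :
    (Subgroup.center A).map (e : A →* B) = Subgroup.center B := by
  ext b
  constructor
  · rintro ⟨a, ha, rfl⟩
    rw [Subgroup.mem_center_iff]
    intro g
    obtain ⟨c, rfl⟩ := e.surjective g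
    show e c * e a = e a * e c
    rw [← map_mul, ← map_mul, Subgroup.mem_center_iff.1 ha c]
  · intro hb
    refine ⟨e.symm b, ?_, e.apply_symm_apply b⟩
    show e.symm b ∈ Subgroup.center A
    rw [Subgroup.mem_center_iff]
    intro g
    apply e.injective
    rw [map_mul, map_mul, e.apply_symm_apply]
    exact Subgroup.mem_center_iff.1 hb (e g)

theorem card_center_congr {A B : Type*} [Group A] [Group B] (e : A ≃* B) :
    Nat.card (Subgroup.center B) = Nat.card (Subgroup.center A) := by
  rw [← map_center e]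
  exact (Nat.card_congr ((Subgroup.center A).equivMapOfInjective (e : A →* B) e.injective).toEquiv).symm

theorem transport {A B : Type*} [Group A] [Group B] (e : A ≃* B) (h : Cfsg.IsJ3 (A ⧸ Subgroup.center A)) :
    Cfsg.IsJ3 (B ⧸ Subgroup.center B) := by
  let f : (A ⧸ Subgroup.center A) ≃* B ⧸ Subgroup.center B := QuotientGroup.congr _ _ e (map_center e)
  refine ⟨?_, ?_⟩
  · exact f.isSimpleGroup_congr.1 h.1
  · rw [← h.2]
    exact (Nat.card_congr f.toEquiv).symm

theorem isJ3 (hF : Fintype.card F = 4) {ω : F} (h : Good ω) :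
    Cfsg.IsJ3 (threeJ3 F ω ⧸ Subgroup.center (threeJ3 F ω)) := ⟨simple_J3 hF h, card_J3 hF h⟩

theorem main (hF : Fintype.card F = 4) {ω : F} (h : Good ω) :
    ∃ H : Subgroup (Cfsg.SU 9 F 2), Nat.card (Subgroup.center H) = 3 ∧ Cfsg.IsJ3 (H ⧸ Subgroup.center H) := by
  have e : threeJ3 F ω ≃* (psi' hF h).range := MonoidHom.ofInjective (psi'_injective hF h)
  exact ⟨(psi' hF h).range, (card_center_congr e).trans (card_center hF h), transport e (isJ3 hF h)⟩

end H10.J3Unitary

namespace H10.J3Unitary

/-- a field with four elements and a primitive cube root of unity -/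
theorem exists_field : ∃ (F : Type) (_ : Field F) (_ : Fintype F) (ω : F), Fintype.card F = 4 ∧ ω ^ 2 + ω + 1 = 0 := by
  classical
  let F := GaloisField 2 2
  let i : Fintype F := Fintype.ofFinite F
  have hcard : Fintype.card F = 4 := by
    rw [← Nat.card_eq_fintype_card, GaloisField.card 2 2 (by norm_num)]; norm_num
  have h1 : ∃ a : F, a ≠ 0 ∧ a ≠ 1 := by
    by_contra hne
    push Not at hne
    have h2 : (Finset.univ : Finset F) ⊆ {0, 1} := by
      intro a _
      rw [Finset.mem_insert, Finset.mem_singleton]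
      by_cases h0 : a = 0
      · exact Or.inl h0
      · exact Or.inr (hne a h0)
    have h3 := Finset.card_le_card h2
    rw [Finset.card_univ, hcard] at h3
    have h4 : ({0, 1} : Finset F).card ≤ 2 := Finset.card_le_two
    omega
  obtain ⟨a, h0, h1⟩ := h1
  refine ⟨F, inferInstance, i, a, hcard, ?_⟩
  have h2 : a ^ 4 = a := by
    have := FiniteField.pow_card a
    rwa [hcard] at this
  have h3 : a * (a - 1) * (a ^ 2 + a + 1) = 0 := by linear_combination h2
  rcases mul_eq_zero.1 h3 with h4 | h4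
  · exfalso
    rcases mul_eq_zero.1 h4 with h5 | h5
    · exact h0 h5
    · exact h1 (sub_eq_zero.1 h5)
  · exact h4

end H10.J3Unitary
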