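import Cfsg.Agent.Lib.H40.OutForm

set_option autoImplicit false

open Subgroup

universe u

/-! Variants of the results of `H40.OutForm` (by helper40), with other normal forms of the image of `a`. -/

namespace H10.OutForm

variable {G : Type u} [Group G]

/-- An automorphism can be multiplied by an inner one so that it fixes `b`, maps `a` to `a` or `a ^ m`, and maps `c`
to `c * d` with `d` in the centralizer of `b`. -/
theorem exists_form' [Finite G] {a b c : G} {p r : ℕ} (m : ℕ) (hp : p.Prime) (ha : orderOf a = p)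
    (hidx : ¬ p ∣ (zpowers a).index) (hCa : ∀ g : G, g * a = a * g → g ∈ zpowers a)
    (hr : b * a = a ^ r * b) (hr1 : ((r : ZMod p)) ≠ 1)
    (hk : ∀ k : ZMod p, k ≠ 0 → ∃ i : ℕ, k * (r : ZMod p) ^ i = 1 ∨ k * (r : ZMod p) ^ i = m)
    {C : Set G} (hC : ∀ g : G, g * b = b * g → g ∈ C) {s : ℕ} (hs : c * b = b ^ s * c) (φ : MulAut G) :
    ∃ g : G, ((MulAut.conj g * φ) a = a ∨ (MulAut.conj g * φ) a = a ^ m) ∧ (MulAut.conj g * φ) b = b ∧
      ∃ d ∈ C, (MulAut.conj g * φ) c = c * d := by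
  have : Fact p.Prime := ⟨hp⟩
  have hpow : ∀ m n : ℤ, (m : ZMod p) = (n : ZMod p) → a ^ m = a ^ n := by
    intro m n h
    rw [zpow_eq_zpow_iff_modEq, ha]
    exact (ZMod.intCast_eq_intCast_iff m n p).mp h
  have hpow0 : ∀ m : ℤ, a ^ m = 1 → (m : ZMod p) = 0 := by
    intro m h
    rw [ZMod.intCast_zmod_eq_zero_iff_dvd, ← ha]
    exact orderOf_dvd_iff_zpow_eq_one.mpr h
  have hbconj : ∀ m : ℤ, b * a ^ m * b⁻¹ = a ^ (r * m : ℤ) := by
    intro m
    have h1 : b * a * b⁻¹ = a ^ (r : ℤ) := by rw [hr, zpow_natCast]; group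
    rw [← conj_zpow, h1, ← zpow_mul]
  -- step 1: move `⟨φ a⟩` to `⟨a⟩`
  obtain ⟨g₁, k, h1⟩ : ∃ (g : G) (k : ℤ), (MulAut.conj g * φ) a = a ^ k := by
    have hpg : ∀ x : G, orderOf x = p → IsPGroup p (zpowers x) := by
      intro x hx
      apply IsPGroup.of_card (n := 1)
      rw [Nat.card_zpowers, hx, pow_one]
    have hPG := hpg a ha
    let P : Sylow p G := hPG.toSylow hidx
    have hQG := hpg (φ a) (by rw [MulEquiv.orderOf_eq, ha])
    obtain ⟨Q, hQ⟩ := hQG.exists_le_sylow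
    obtain ⟨g, hg⟩ := MulAction.exists_smul_eq G Q P
    refine ⟨g, ?_⟩
    have h2 : g * φ a * g⁻¹ ∈ (P : Subgroup G) := by
      rw [← hg, Sylow.coe_subgroup_smul]
      exact Subgroup.smul_mem_pointwise_smul (φ a) (MulAut.conj g) _ (hQ (mem_zpowers _))
    obtain ⟨k, hk⟩ : g * φ a * g⁻¹ ∈ zpowers a := h2
    exact ⟨k, hk.symm⟩
  set φ₁ := MulAut.conj g₁ * φ with hφ₁
  have hk0 : (k : ZMod p) ≠ 0 := by
    intro h
    have h2 : a ^ k = 1 := by rw [hpow k 0 (by rw [h, Int.cast_zero]), zpow_zero]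
    rw [h2] at h1
    have h3 : a = 1 := by
      have := congrArg φ₁.symm h1
      simpa using this
    rw [h3, orderOf_one] at ha
    exact hp.one_lt.ne ha
  -- step 2: `φ₁ b = b * a ^ j`
  obtain ⟨j, h2⟩ : ∃ j : ℤ, φ₁ b = b * a ^ j := by
    obtain ⟨t, ht⟩ : ∃ t : ℤ, (k : ZMod p) * (t : ZMod p) = 1 := by
      obtain ⟨t, ht⟩ := ZMod.intCast_surjective ((k : ZMod p)⁻¹)
      exact ⟨t, by rw [ht, mul_inv_cancel₀ hk0]⟩
    have e1 : φ₁ b * a ^ k * (φ₁ b)⁻¹ = a ^ (k * r : ℤ) := by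
      have := congrArg φ₁ (hbconj 1)
      rw [map_mul, map_mul, map_inv, map_zpow, map_zpow, h1, zpow_one, ← zpow_mul, mul_one] at this
      exact this
    have e2 : φ₁ b * a * (φ₁ b)⁻¹ = a ^ (r : ℤ) := by
      have h3 : a = (a ^ k) ^ t := by
        rw [← zpow_mul]
        conv_lhs => rw [← zpow_one a]
        apply hpow
        push_cast
        rw [ht]
      have h4 : (φ₁ b * a ^ k * (φ₁ b)⁻¹) ^ t = (a ^ (k * r : ℤ)) ^ t := by rw [e1]
      rw [conj_zpow, ← h3, ← zpow_mul] at h4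
      rw [h4]
      apply hpow
      push_cast
      rw [mul_right_comm, ht, one_mul]
    have e3 : b⁻¹ * φ₁ b * a = a * (b⁻¹ * φ₁ b) := by
      have h3 : φ₁ b * a = a ^ (r : ℤ) * φ₁ b := by rw [← e2]; group
      have h4 : b⁻¹ * a ^ (r : ℤ) = a * b⁻¹ := by
        have := hbconj 1
        rw [zpow_one, mul_one] at this
        rw [← this]; group
      rw [mul_assoc, h3, ← mul_assoc, h4, mul_assoc]
    obtain ⟨j, hj⟩ := hCa _ e3
    refine ⟨j, ?_⟩
    have hj' : a ^ j = b⁻¹ * φ₁ b := hj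
    rw [hj', mul_inv_cancel_left]
  -- step 3: conjugate by a power of `a`
  obtain ⟨i, hi⟩ : ∃ i : ℤ, ((r : ZMod p) - 1) * (i : ZMod p) = (j : ZMod p) := by
    obtain ⟨i, hi⟩ := ZMod.intCast_surjective (((r : ZMod p) - 1)⁻¹ * (j : ZMod p))
    exact ⟨i, by rw [hi, mul_inv_cancel_left₀ (sub_ne_zero.mpr hr1)]⟩
  set g₂ := a ^ (r * i : ℤ) with hg₂
  have h3a : (MulAut.conj g₂ * φ₁) a = a ^ k := by
    rw [MulAut.mul_apply, h1, MulAut.conj_apply, hg₂, ← zpow_add, ← zpow_neg, ← zpow_add]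
    congr 1; ring
  have h3b : (MulAut.conj g₂ * φ₁) b = b := by
    rw [MulAut.mul_apply, h2, MulAut.conj_apply, hg₂, ← hbconj i]
    have : b * a ^ i * b⁻¹ * (b * a ^ j) * (b * a ^ i * b⁻¹)⁻¹ = b * (a ^ (i + j) * a ^ (-(r * i : ℤ))) := by
      rw [hbconj i, zpow_neg, zpow_add, ← hbconj i]; group
    rw [this, ← zpow_add, hpow _ 0, zpow_zero, mul_one]
    push_cast
    linear_combination -hi
  -- step 4: conjugate by a power of `b`
  obtain ⟨n, hn⟩ := hk (k : ZMod p) hk0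
  have hbn : ∀ n : ℕ, ∀ m : ℤ, b ^ n * a ^ m * (b ^ n)⁻¹ = a ^ (m * (r : ℤ) ^ n) := by
    intro n
    induction n with
    | zero => intro m; simp
    | succ n ih =>
      intro m
      have : b ^ (n + 1) * a ^ m * (b ^ (n + 1))⁻¹ = b ^ n * (b * a ^ m * b⁻¹) * (b ^ n)⁻¹ := by
        rw [pow_succ]; group
      rw [this, hbconj, ih]
      congr 1
      ring
  set g₃ := b ^ n with hg₃
  have h4 : MulAut.conj (g₃ * g₂ * g₁) * φ = MulAut.conj g₃ * (MulAut.conj g₂ * φ₁) := by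
    rw [map_mul, map_mul, hφ₁, mul_assoc, mul_assoc]
  have h4a : (MulAut.conj (g₃ * g₂ * g₁) * φ) a = a ^ (k * (r : ℤ) ^ n) := by
    rw [h4, MulAut.mul_apply, h3a, MulAut.conj_apply, hg₃, hbn]
  have h4b : (MulAut.conj (g₃ * g₂ * g₁) * φ) b = b := by
    rw [h4, MulAut.mul_apply, h3b, MulAut.conj_apply, hg₃]; group
  refine ⟨g₃ * g₂ * g₁, ?_, h4b, ?_⟩
  · rcases hn with hn | hn
    · left
      rw [h4a]
      conv_rhs => rw [← zpow_one a]
      apply hpow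
      push_cast
      exact hn
    · right
      rw [h4a, ← zpow_natCast a m]
      apply hpow
      push_cast
      exact hn
  · set φ₃ := MulAut.conj (g₃ * g₂ * g₁) * φ
    refine ⟨c⁻¹ * φ₃ c, ?_, by group⟩
    apply hC
    have e1 : φ₃ c * b = b ^ s * φ₃ c := by
      have := congrArg φ₃ hs
      rwa [map_mul, map_mul, map_pow, h4b] at this
    rw [mul_assoc, e1, ← mul_assoc, ← mul_assoc]
    congr 1
    rw [inv_mul_eq_iff_eq_mul, ← mul_assoc, hs]
    group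

/-- outer automorphism group of order two -/
theorem card_out_eq_two' [Finite G] {a b c a₀ a₁ : G} {C : Set G} {d₀ : G}
    (hform : ∀ φ : MulAut G, ∃ g : G, ((MulAut.conj g * φ) a = a ∨ (MulAut.conj g * φ) a = a₁) ∧
      (MulAut.conj g * φ) b = b ∧ ∃ d ∈ C, (MulAut.conj g * φ) c = c * d)
    (hext : ∀ ψ : MulAut G, ψ a = a → ψ b = b → ψ c = c → ψ = 1)
    (hex : ∀ ψ : MulAut G, (ψ a = a ∨ ψ a = a₁) → ψ b = b → ∀ d ∈ C, ψ c = c * d →
      (ψ a = a ∧ d = 1) ∨ (ψ a = a₀ ∧ d = d₀))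
    (hout : ∃ ψ : MulAut G, ψ ∉ Cfsg.Inn G) :
    Nat.card (Cfsg.Out G) = 2 := by
  have hext' : ∀ ψ ψ' : MulAut G, ψ a = ψ' a → ψ b = ψ' b → ψ c = ψ' c → ψ = ψ' := by
    intro ψ ψ' h1 h2 h3
    have : ψ'⁻¹ * ψ = 1 := by
      apply hext
      · rw [MulAut.mul_apply, h1, MulAut.inv_apply_self]
      · rw [MulAut.mul_apply, h2, MulAut.inv_apply_self]
      · rw [MulAut.mul_apply, h3, MulAut.inv_apply_self]
    rw [inv_mul_eq_one] at this
    exact this.symm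
  have hinn : ∀ g : G, MulAut.conj g ∈ Cfsg.Inn G := fun g => ⟨g, rfl⟩
  have hcase : ∀ φ : MulAut G, φ ∉ Cfsg.Inn G → ∃ g : G, (MulAut.conj g * φ) a = a₀ ∧
      (MulAut.conj g * φ) b = b ∧ (MulAut.conj g * φ) c = c * d₀ := by
    intro φ hφ
    obtain ⟨g, h1, h2, d, hd, h3⟩ := hform φ
    rcases hex _ h1 h2 d hd h3 with ⟨h4, h5⟩ | ⟨h4, h5⟩
    · exfalso
      apply hφ
      rw [h5, mul_one] at h3
      have h6 : MulAut.conj g * φ = 1 := hext _ h4 h2 h3
      have h8 : φ = MulAut.conj g⁻¹ := by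
        rw [map_inv]
        exact (inv_eq_of_mul_eq_one_right h6).symm
      rw [h8]
      exact hinn _
    · exact ⟨g, h4, h2, by rw [h3, h5]⟩
  obtain ⟨ψ, hψ⟩ := hout
  have hindex : (Cfsg.Inn G).index = 2 := by
    rw [Subgroup.index_eq_two_iff]
    refine ⟨ψ⁻¹, fun φ => ?_⟩
    by_cases hφ : φ ∈ Cfsg.Inn G
    · right
      refine ⟨hφ, fun h => hψ ?_⟩
      have h1 := (Cfsg.Inn G).mul_mem ((Cfsg.Inn G).inv_mem hφ) h
      rw [inv_mul_cancel_left] at h1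
      exact (Subgroup.inv_mem_iff _).mp h1
    · left
      refine ⟨?_, hφ⟩
      obtain ⟨g, h1, h2, h3⟩ := hcase φ hφ
      obtain ⟨g', h1', h2', h3'⟩ := hcase ψ hψ
      have h4 : MulAut.conj g * φ = MulAut.conj g' * ψ := hext' _ _ (by rw [h1, h1']) (by rw [h2, h2'])
        (by rw [h3, h3'])
      have h5 : φ * ψ⁻¹ = (MulAut.conj g)⁻¹ * MulAut.conj g' := by
        rw [eq_inv_mul_iff_mul_eq, ← mul_assoc, h4, mul_inv_cancel_right]
      rw [h5]
      exact (Cfsg.Inn G).mul_mem ((Cfsg.Inn G).inv_mem (hinn _)) (hinn _)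
  rw [Cfsg.Out, ← Subgroup.index_eq_card, hindex]

end H10.OutForm
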