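import Cfsg.Agent.Lib.H10.J3U2
import Cfsg.Agent.Lib.H10.OutForm2
import Cfsg.Agent.Lib.H10.J3Unitary

set_option autoImplicit false
set_option linter.unusedSectionVars false

/-! The outer automorphism group of J3 has order 2. -/

namespace H10.J3U

open H10.BitPar H10.BitOrb H10.BitTab H10.J3Data H10.J3DataT H10.J3DataU H10.J3Comp H10.J3Order H10.J3Tab H10.J3Model
open H10.J3Simple H10.J3T Cfsg.Spor

/-- a simple group with a proper subgroup of index `n` has order dividing `n!` -/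
theorem card_dvd_factorial {G : Type*} [Group G] [Finite G] [IsSimpleGroup G] {K : Subgroup G} (hK : K ≠ ⊤) :
    Nat.card G ∣ K.index.factorial := by
  classical
  have h1 : K.normalCore = ⊥ := by
    rcases IsSimpleGroup.eq_bot_or_eq_top_of_normal K.normalCore inferInstance with h | h
    · exact h
    · exfalso; apply hK; rw [eq_top_iff, ← h]; exact K.normalCore_le
  have h2 : K.normalCore.index ∣ K.index.factorial := by
    let _ := Fintype.ofFinite (G ⧸ K)
    rw [Subgroup.normalCore_eq_ker, Subgroup.index_ker]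
    have h1 : Nat.card (Equiv.Perm (G ⧸ K)) = K.index.factorial := by
      rw [Nat.card_eq_fintype_card, Fintype.card_perm, ← Nat.card_eq_fintype_card]
      rfl
    rw [← h1]
    exact Subgroup.card_subgroup_dvd_card _
  rwa [h1, Subgroup.index_bot] at h2

/-- an automorphism of a perfect group which is inner modulo the centre is inner -/
theorem inner_of_inner_mod {X : Type*} [Group X] (hperf : commutator X = ⊤) (e : X ≃* X) (g : X)
    (he : ∀ x, (g * x * g⁻¹)⁻¹ * e x ∈ Subgroup.center X) (x : X) : e x = g * x * g⁻¹ := by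
  let f : X →* X := MonoidHom.mk' (fun x => (g * x * g⁻¹)⁻¹ * e x) (fun x y => by
    have h1 : (g * y⁻¹ * g⁻¹) * ((g * x * g⁻¹)⁻¹ * e x) = ((g * x * g⁻¹)⁻¹ * e x) * (g * y⁻¹ * g⁻¹) :=
      Subgroup.mem_center_iff.1 (he x) (g * y⁻¹ * g⁻¹)
    calc (g * (x * y) * g⁻¹)⁻¹ * e (x * y) = (g * y⁻¹ * g⁻¹) * ((g * x * g⁻¹)⁻¹ * e x) * e y := by
          rw [map_mul]; group
      _ = ((g * x * g⁻¹)⁻¹ * e x) * (g * y⁻¹ * g⁻¹) * e y := by rw [h1]
      _ = ((g * x * g⁻¹)⁻¹ * e x) * ((g * y * g⁻¹)⁻¹ * e y) := by group)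
  have hf : ∀ x, f x ∈ Subgroup.center X := he
  have h1 : commutator X ≤ f.ker := by
    rw [commutator_def, Subgroup.commutator_le]
    intro a _ b _
    have h2 : f b * f a = f a * f b := Subgroup.mem_center_iff.1 (hf a) (f b)
    rw [MonoidHom.mem_ker, commutatorElement_def, map_mul, map_mul, map_mul, map_inv, map_inv, ← h2]
    group
  have h2 : f x = 1 := by
    have : x ∈ f.ker := h1 (by rw [hperf]; exact Subgroup.mem_top x)
    exact this
  have h3 : (g * x * g⁻¹)⁻¹ * e x = 1 := h2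
  rw [inv_mul_eq_one] at h3
  exact h3.symm

variable {F : Type*} [Field F] [Fintype F] (hF : Fintype.card F = 4) {ω : F} (h : Good ω)

/-- elements of J3 -/
noncomputable def aJ : J3 F ω := pi ω ⟨A hF h, A_HH hF h⟩
noncomputable def bJ : J3 F ω := pi ω ⟨B hF h, B_HH hF h⟩
noncomputable def cJ : J3 F ω := pi ω ⟨C hF h, C_HH hF h⟩

include hF h in
theorem pi_one_iff {g : HH ω} : pi ω g = 1 ↔ ∃ k : ℤ, S hF h ^ k = (g : Equiv.Perm (F9 → F)) := by
  rw [pi_eq_one hF h, ← S_def]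
  exact Iff.rfl

include hF h in
/-- commuting elements lift to commuting elements -/
theorem lift_comm {g y : HH ω} {n m : ℕ} (hy : y ^ n = 1) (hn : n * m % 3 = 1) (hc : pi ω g * pi ω y = pi ω y * pi ω g) :
    g * y = y * g := by
  have hz : pi ω (g * y * g⁻¹ * y⁻¹) = 1 := by
    rw [map_mul, map_mul, map_mul, hc, map_inv, map_inv]; group
  obtain ⟨z, hz'⟩ : ∃ z : HH ω, z = g * y * g⁻¹ * y⁻¹ := ⟨_, rfl⟩
  rw [← hz'] at hz
  have h3 : z ^ 3 = 1 := ker_pow3 hF h hz
  have hcomm : ∀ x : HH ω, x * z = z * x := fun x => Subtype.ext (ker_comm hF h hz x.2)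
  have h4 : g * y * g⁻¹ = z * y := by rw [hz']; group
  have h5 : (z * y) ^ n = 1 := by
    rw [← h4, conj_pow, hy, mul_one, mul_inv_cancel]
  have h6 : (z * y) ^ n = z ^ n * y ^ n := (Commute.mul_pow (hcomm y).symm n)
  rw [h6, hy, mul_one] at h5
  have h7 : z ^ (n * m) = 1 := by rw [pow_mul, h5, one_pow]
  have h8 : z = 1 := by
    have e : n * m = 3 * (n * m / 3) + 1 := by omega
    rw [e, pow_add, pow_mul, h3, one_pow, one_mul, pow_one] at h7
    exact h7
  rw [h8, one_mul] at h4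
  calc g * y = g * y * g⁻¹ * g := by group
    _ = y * g := by rw [h4]

theorem aJ_pow : (aJ hF h) ^ 17 = 1 := by
  unfold aJ
  rw [← map_pow]
  have : (⟨A hF h, A_HH hF h⟩ : HH ω) ^ 17 = 1 := Subtype.ext (A17 hF h)
  rw [this, map_one]

theorem bJ_pow : (bJ hF h) ^ 8 = 1 := by
  unfold bJ
  rw [← map_pow]
  have : (⟨B hF h, B_HH hF h⟩ : HH ω) ^ 8 = 1 := Subtype.ext (B8 hF h)
  rw [this, map_one]

theorem bJ_pow4 : (bJ hF h) ^ 4 = tJ hF h := by
  unfold bJ tJ
  rw [← map_pow]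
  congr 1
  exact Subtype.ext (B4 hF h)

theorem order_aJ : orderOf (aJ hF h) = 17 := by
  have : Fact (Nat.Prime 17) := ⟨by norm_num⟩
  apply orderOf_eq_prime (aJ_pow hF h)
  intro e
  have h3 := ker_pow3 hF h e
  have h4 : A hF h ^ 3 = 1 := congrArg Subtype.val h3
  apply A_ne hF h
  have h17 := A17 hF h
  calc A hF h = A hF h ^ 18 * (A hF h ^ 17)⁻¹ := by rw [pow_succ' _ 17]; group
    _ = (A hF h ^ 3) ^ 6 := by rw [h17, inv_one, mul_one, ← pow_mul]
    _ = 1 := by rw [h4, one_pow]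

theorem order_bJ : orderOf (bJ hF h) = 8 := by
  have : Fact (Nat.Prime 2) := ⟨Nat.prime_two⟩
  have h1 : (8 : ℕ) = 2 ^ (2 + 1) := rfl
  rw [h1]
  apply orderOf_eq_prime_pow
  · show ¬ (bJ hF h) ^ 4 = 1
    rw [bJ_pow4]
    intro e
    have := order_tJ hF h
    rw [e, orderOf_one] at this
    exact absurd this (by norm_num)
  · exact bJ_pow hF h

theorem cent_aJ (g : J3 F ω) (hg : g * aJ hF h = aJ hF h * g) : g ∈ Subgroup.zpowers (aJ hF h) := by
  obtain ⟨g, rfl⟩ := pi_surj ω g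
  have h1 : g * ⟨A hF h, A_HH hF h⟩ = ⟨A hF h, A_HH hF h⟩ * g :=
    lift_comm hF h (n := 17) (m := 2) (Subtype.ext (A17 hF h)) (by norm_num) hg
  obtain ⟨i, j, e⟩ := cent_A hF h g.2 (congrArg Subtype.val h1)
  refine ⟨i, ?_⟩
  have h2 : g = (⟨A hF h, A_HH hF h⟩ : HH ω) ^ i * (⟨S hF h, S_HH hF h⟩ : HH ω) ^ j := Subtype.ext e
  have h3 : pi ω (⟨S hF h, S_HH hF h⟩ : HH ω) = 1 := (pi_one_iff hF h).2 ⟨1, zpow_one _⟩
  show (aJ hF h) ^ i = pi ω g
  rw [h2, map_mul, map_zpow, map_zpow, h3, one_zpow, mul_one]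
  rfl

theorem cent_bJ (g : J3 F ω) (hg : g * bJ hF h = bJ hF h * g) : ∃ i : ℕ, g = bJ hF h ^ i := by
  obtain ⟨g, rfl⟩ := pi_surj ω g
  have h1 : g * ⟨B hF h, B_HH hF h⟩ = ⟨B hF h, B_HH hF h⟩ * g :=
    lift_comm hF h (n := 8) (m := 2) (Subtype.ext (B8 hF h)) (by norm_num) hg
  obtain ⟨i, j, e⟩ := cent_B hF h g.2 (congrArg Subtype.val h1)
  refine ⟨i, ?_⟩
  have h2 : g = (⟨B hF h, B_HH hF h⟩ : HH ω) ^ i * (⟨S hF h, S_HH hF h⟩ : HH ω) ^ j := Subtype.ext e
  have h3 : pi ω (⟨S hF h, S_HH hF h⟩ : HH ω) = 1 := (pi_one_iff hF h).2 ⟨1, zpow_one _⟩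
  rw [h2, map_mul, map_pow, map_zpow, h3, one_zpow, mul_one]
  rfl

theorem rel_ba : bJ hF h * aJ hF h = aJ hF h ^ 2 * bJ hF h := by
  unfold aJ bJ
  rw [← map_mul, ← map_pow, ← map_mul]
  congr 1
  exact Subtype.ext (BA hF h)

theorem rel_cb : cJ hF h * bJ hF h = bJ hF h ^ 5 * cJ hF h := by
  unfold cJ bJ
  rw [← map_mul, ← map_pow, ← map_mul]
  congr 1
  exact Subtype.ext (CB hF h)

theorem rel_cc : cJ hF h * cJ hF h = 1 := by
  unfold cJ
  rw [← map_mul, ← map_one (pi ω)]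
  congr 1
  exact Subtype.ext (C2 hF h)

theorem rel_ca : (cJ hF h * aJ hF h) ^ 10 = 1 := by
  unfold cJ aJ
  rw [← map_mul, ← map_pow, ← map_one (pi ω)]
  congr 1
  exact Subtype.ext (CA10 hF h)

theorem nrel1 : (cJ hF h * aJ hF h ^ 3) ^ 10 ≠ 1 := by
  unfold cJ aJ
  rw [← map_pow, ← map_mul, ← map_pow]
  intro e
  obtain ⟨k, hk⟩ := (pi_one_iff hF h).1 e
  exact excl1 hF h k hk.symm

theorem nrel2 : (cJ hF h * tJ hF h * aJ hF h ^ 3) ^ 10 ≠ 1 := by
  unfold cJ aJ tJ
  rw [← map_pow, ← map_mul, ← map_mul, ← map_pow]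
  intro e
  obtain ⟨k, hk⟩ := (pi_one_iff hF h).1 e
  exact excl2 hF h k hk.symm

theorem hex (ψ : MulAut (J3 F ω)) (hψa : ψ (aJ hF h) = aJ hF h ∨ ψ (aJ hF h) = aJ hF h ^ 3) (hψb : ψ (bJ hF h) = bJ hF h)
    (d : J3 F ω) (hd : ∃ i : ℕ, d = bJ hF h ^ i) (hψc : ψ (cJ hF h) = cJ hF h * d) :
    (ψ (aJ hF h) = aJ hF h ∧ d = 1) ∨ (ψ (aJ hF h) = aJ hF h ∧ d = tJ hF h) := by
  obtain ⟨i, rfl⟩ := hd
  -- `c b^i` is an involution
  have h1 : cJ hF h * bJ hF h ^ i * (cJ hF h * bJ hF h ^ i) = 1 := by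
    rw [← hψc, ← map_mul, rel_cc, map_one]
  have h2 : cJ hF h * bJ hF h ^ i = bJ hF h ^ (5 * i) * cJ hF h := by
    have hconj : cJ hF h * bJ hF h * (cJ hF h)⁻¹ = bJ hF h ^ 5 := by rw [rel_cb]; group
    have h3 : (cJ hF h * bJ hF h * (cJ hF h)⁻¹) ^ i = bJ hF h ^ (5 * i) := by rw [hconj, ← pow_mul]
    rw [conj_pow] at h3
    rw [← h3]; group
  have h3 : bJ hF h ^ (6 * i) = 1 := by
    have e : cJ hF h * bJ hF h ^ i * (cJ hF h * bJ hF h ^ i) = bJ hF h ^ (5 * i) * bJ hF h ^ i := by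
      have e1 := congrArg (fun z => z * (cJ hF h * bJ hF h ^ i)) h2
      have e2 : bJ hF h ^ (5 * i) * cJ hF h * (cJ hF h * bJ hF h ^ i) = bJ hF h ^ (5 * i) * bJ hF h ^ i := by
        rw [mul_assoc, ← mul_assoc (cJ hF h), rel_cc, one_mul]
      exact e1.trans e2
    rw [e, ← pow_add] at h1
    have : 5 * i + i = 6 * i := by ring
    rwa [this] at h1
  have h4 : 8 ∣ 6 * i := by rw [← order_bJ hF h]; exact orderOf_dvd_of_pow_eq_one h3
  have h5 : bJ hF h ^ i = 1 ∨ bJ hF h ^ i = tJ hF h := by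
    have h6 : i % 8 = 0 ∨ i % 8 = 4 := by omega
    have h7 : bJ hF h ^ i = bJ hF h ^ (i % 8) := by
      rw [← order_bJ hF h, pow_mod_orderOf]
    rw [h7]
    rcases h6 with h6 | h6
    · left; rw [h6, pow_zero]
    · right; rw [h6, bJ_pow4]
  have h6 : ψ (aJ hF h) = aJ hF h := by
    rcases hψa with h6 | h6
    · exact h6
    · exfalso
      have h7 : (ψ (cJ hF h) * ψ (aJ hF h)) ^ 10 = 1 := by rw [← map_mul, ← map_pow, rel_ca, map_one]
      rw [hψc, h6] at h7
      rcases h5 with h5 | h5 <;> rw [h5] at h7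
      · rw [mul_one] at h7; exact nrel1 hF h h7
      · exact nrel2 hF h h7
  rcases h5 with h5 | h5
  · left; exact ⟨h6, h5⟩
  · right; exact ⟨h6, h5⟩

/-! ### generation -/

theorem card_gen : 8372160 ≤ Nat.card (gen (coding hF h) abc) := by
  have hc := coding hF h
  have hfin := finite_V hc
  have hmem : ∀ l ∈ abc, okOps 18 l = true ∧ IsRep 18 (dec ω) (gen (coding hF h) abc) l := by
    intro l hl
    have hok := (rep_abc hF h l hl).1
    exact ⟨hok, (act_mem hc hok).1 (act_mem_gen hc hl)⟩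
  have h1 : pc 18 OO * Nat.card (stab (gen (coding hF h) abc) (dec ω u1)) ≤ Nat.card (gen (coding hF h) abc) := by
    rw [OO_def]
    exact le_card_mul hc hmem 10 u1_lt
  have hA : A hF h ∈ stab (gen (coding hF h) abc) (dec ω u1) := by
    refine ⟨?_, fixA hF h⟩
    rw [A_def]; exact act_mem_gen hc (by simp [abc])
  have hB : B hF h ∈ stab (gen (coding hF h) abc) (dec ω u1) := by
    refine ⟨?_, fixB hF h⟩
    rw [B_def]; exact act_mem_gen hc (by simp [abc])
  have h17 : 17 ∣ Nat.card (stab (gen (coding hF h) abc) (dec ω u1)) := by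
    have h2 : orderOf (A hF h) = 17 := by
      have : Fact (Nat.Prime 17) := ⟨by norm_num⟩
      exact orderOf_eq_prime (A17 hF h) (A_ne hF h)
    rw [← h2, ← Nat.card_zpowers]
    exact Subgroup.card_dvd_of_le (by rw [Subgroup.zpowers_le]; exact hA)
  have h8 : 8 ∣ Nat.card (stab (gen (coding hF h) abc) (dec ω u1)) := by
    have h2 : orderOf (B hF h) = 8 := by
      have : Fact (Nat.Prime 2) := ⟨Nat.prime_two⟩
      have h1 : (8 : ℕ) = 2 ^ (2 + 1) := rfl
      rw [h1]
      apply orderOf_eq_prime_pow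
      · show ¬ (B hF h) ^ 4 = 1
        rw [B4]; exact T_ne hF h
      · exact B8 hF h
    rw [← h2, ← Nat.card_zpowers]
    exact Subgroup.card_dvd_of_le (by rw [Subgroup.zpowers_le]; exact hB)
  have h136 : 136 ∣ Nat.card (stab (gen (coding hF h) abc) (dec ω u1)) :=
    Nat.Coprime.mul_dvd_of_dvd_of_dvd (m := 17) (n := 8) (by norm_num) h17 h8
  have h2 : 136 ≤ Nat.card (stab (gen (coding hF h) abc) (dec ω u1)) := Nat.le_of_dvd Nat.card_pos h136
  rw [facts3.pcO] at h1
  calc 8372160 = 61560 * 136 := by norm_num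
    _ ≤ _ := Nat.mul_le_mul_left _ h2
    _ ≤ _ := h1

theorem hgen : Subgroup.closure ({aJ hF h, bJ hF h, cJ hF h} : Set (J3 F ω)) = ⊤ := by
  have hc := coding hF h
  have hfin := finite_V hc
  have hfJ : Finite (J3 F ω) := Nat.finite_of_card_ne_zero (by rw [card_J3 hF h]; norm_num)
  have hsimp := simple_J3 hF h
  by_contra hne
  let K : Subgroup (J3 F ω) := Subgroup.closure ({aJ hF h, bJ hF h, cJ hF h} : Set (J3 F ω))
  have hmemK : ∀ x ∈ ({aJ hF h, bJ hF h, cJ hF h} : Set (J3 F ω)), x ∈ K := fun x hx => Subgroup.subset_closure hx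
  have h1 : gen (coding hF h) abc ≤ (K.comap (pi ω)).map (HH ω).subtype := by
    apply gen_le
    intro l hl
    simp only [abc, List.mem_cons, List.not_mem_nil, or_false] at hl
    rcases hl with rfl | rfl | rfl
    · rw [← C_def hF h]
      exact ⟨⟨C hF h, C_HH hF h⟩, hmemK _ (by simp [cJ]), rfl⟩
    · rw [← A_def hF h]
      exact ⟨⟨A hF h, A_HH hF h⟩, hmemK _ (by simp [aJ]), rfl⟩
    · rw [← B_def hF h]
      exact ⟨⟨B hF h, B_HH hF h⟩, hmemK _ (by simp [bJ]), rfl⟩
  have h2 : 8372160 ≤ Nat.card (K.comap (pi ω)) := by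
    calc 8372160 ≤ _ := card_gen hF h
      _ ≤ Nat.card ((K.comap (pi ω)).map (HH ω).subtype) :=
        Nat.card_le_card_of_injective _ (Subgroup.inclusion_injective h1)
      _ = Nat.card (K.comap (pi ω)) :=
        (Nat.card_congr ((K.comap (pi ω)).equivMapOfInjective (HH ω).subtype (HH ω).subtype_injective).toEquiv).symm
  have h3 : (K.comap (pi ω)).index = K.index := Subgroup.index_comap_of_surjective K (pi_surj ω)
  have h4 := Subgroup.card_mul_index (K.comap (pi ω))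
  rw [h3, card_HH, card_threeJ3 hF h] at h4
  have h5 : K.index ≤ 18 := by
    by_contra hgt
    have h6 : 19 ≤ K.index := by omega
    have h7 : 8372160 * 19 ≤ 150698880 := by
      rw [← h4]; exact Nat.mul_le_mul h2 h6
    omega
  have h6 := card_dvd_factorial (K := K) hne
  rw [card_J3 hF h] at h6
  have h7 : 19 ∣ K.index.factorial := Dvd.dvd.trans (by norm_num) h6
  have h8 := ((by norm_num : Nat.Prime 19).dvd_factorial).1 h7
  omega

/-! ### the semilinear automorphism -/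

/-- the semilinear map -/
noncomputable def P : Equiv.Perm (F9 → F) := act (coding hF h) ph

theorem P_sq : P hF h * P hF h = 1 := by
  have hc := coding hF h
  unfold P
  rw [← act_append hc ok_ph ok_ph, ← act_nil hc]
  apply act_eq_of_sameOps hc (okOps_append ok_ph ok_ph) rfl
  rw [sameOps_iff]
  intro k hk
  have h1 := Nat.eq_of_beq_eq_true (range_all facts5.sq k hk)
  rw [runG_eq, runG_eq] at h1
  rw [runF_append]
  exact h1

theorem P_inv : (P hF h)⁻¹ = P hF h := by rw [inv_eq_iff_mul_eq_one]; exact P_sq hF h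

theorem P_S : P hF h * S hF h * P hF h = S hF h * S hF h := by
  have hc := coding hF h
  rw [S_def]
  unfold P
  rw [← act_append hc ok_sc ok_sc, mul_assoc, ← act_append hc ok_ph ok_sc, ← act_append hc (okOps_append ok_ph ok_sc) ok_ph]
  apply act_eq_of_sameOps hc (okOps_append (okOps_append ok_ph ok_sc) ok_ph) (okOps_append ok_sc ok_sc)
  rw [sameOps_iff]
  intro k hk
  have h1 := Nat.eq_of_beq_eq_true (range_all facts5.sc2 k hk)
  simp only [runG_eq] at h1
  rw [runF_append, runF_append, runF_append]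
  exact h1

theorem P_gen {i : ℕ} (hi : i < 45) : P hF h * act (coding hF h) (gensL.getD i []) * P hF h ∈ HH ω := by
  have hc := coding hF h
  have h1 := range_all facts5.im i hi
  unfold phiChk at h1
  obtain ⟨h2, h3⟩ := cond_tt h1
  have hw := okW_lt h2
  have hokw : okOps 18 (wordOps (phW.getD i [])) = true := by
    obtain ⟨g, _, _⟩ := isRep_word hF h hw
    have : ∀ w : List ℕ, (∀ i ∈ w, i < 45) → okOps 18 (wordOps w) = true := by
      intro w hw
      induction w with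
      | nil => rfl
      | cons i w ih =>
        have : wordOps (i :: w) = gensL.getD i [] ++ wordOps w := by simp [wordOps]
        rw [this]
        exact okOps_append (ok_getD (hw i List.mem_cons_self)) (ih fun j hj => hw j (List.mem_cons_of_mem _ hj))
    exact this _ hw
  have h4 : P hF h * act (coding hF h) (gensL.getD i []) * P hF h = act (coding hF h) (wordOps (phW.getD i [])) := by
    unfold P
    rw [mul_assoc, ← act_append hc ok_ph (ok_getD hi), ← act_append hc (okOps_append ok_ph (ok_getD hi)) ok_ph]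
    apply act_eq_of_sameOps hc (okOps_append (okOps_append ok_ph (ok_getD hi)) ok_ph) hokw
    rw [sameOps_iff]
    intro k hk
    have h5 := Nat.eq_of_beq_eq_true (range_all h3 k hk)
    have hk' : (2 : ℕ) ^ k < 2 ^ 18 := Nat.pow_lt_pow_right (by norm_num) hk
    have h6 : ∀ j ∈ [i], j < 45 := by
      intro j hj; rw [List.mem_singleton.1 hj]; exact hi
    have h7 : runG ph (2 ^ k) < 2 ^ 18 := by rw [runG_eq]; exact runF_lt ok_ph hk'
    have h8 : wordOps [i] = gensL.getD i [] := by simp [wordOps]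
    have h9 : runG ph (ev [i] (runG ph (2 ^ k))) = ev (phW.getD i []) (2 ^ k) := h5
    rw [ev_eq h6 h7, ev_eq hw hk', h8, runG_eq, runG_eq] at h9
    rw [runF_append, runF_append]
    exact h9
  rw [h4]
  exact (act_mem hc hokw).2 (isRep_word hF h hw)

theorem P_HH {g : Equiv.Perm (F9 → F)} (hg : g ∈ HH ω) : P hF h * g * P hF h ∈ HH ω := by
  have hc := coding hF h
  rw [HH_eq] at hg
  induction hg using Subgroup.closure_induction with
  | mem x hx =>
    obtain ⟨l, hl, hr⟩ := rep_gens hF h x hx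
    obtain ⟨i, hi, rfl⟩ := List.mem_iff_getElem.1 hl
    have h45 : i < 45 := by rw [← length_gensL]; exact hi
    have h1 := P_gen hF h h45
    rw [List.getD_eq_getElem _ _ hi] at h1
    rw [act_unique hc (okAll_mem ok_gens _ hl) hr]
    exact h1
  | one => rw [mul_one, P_sq]; exact (HH ω).one_mem
  | mul x y _ _ hx hy =>
    have : P hF h * (x * y) * P hF h = (P hF h * x * P hF h) * (P hF h * y * P hF h) := by
      have h1 := P_sq hF h
      calc P hF h * (x * y) * P hF h = P hF h * x * 1 * y * P hF h := by group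
        _ = _ := by rw [← h1]; group
    rw [this]; exact (HH ω).mul_mem hx hy
  | inv x _ hx =>
    have : P hF h * x⁻¹ * P hF h = (P hF h * x * P hF h)⁻¹ := by
      rw [mul_inv_rev, mul_inv_rev, P_inv, mul_assoc]
    rw [this]; exact (HH ω).inv_mem hx

/-- conjugation by the semilinear map -/
noncomputable def conjP : HH ω ≃* HH ω where
  toFun g := ⟨P hF h * g * P hF h, P_HH hF h g.2⟩
  invFun g := ⟨P hF h * g * P hF h, P_HH hF h g.2⟩
  left_inv g := by
    apply Subtype.ext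
    show P hF h * (P hF h * g * P hF h) * P hF h = g
    have h1 := P_sq hF h
    calc P hF h * (P hF h * g * P hF h) * P hF h = (P hF h * P hF h) * g * (P hF h * P hF h) := by group
      _ = g := by rw [h1, one_mul, mul_one]
  right_inv g := by
    apply Subtype.ext
    show P hF h * (P hF h * g * P hF h) * P hF h = g
    have h1 := P_sq hF h
    calc P hF h * (P hF h * g * P hF h) * P hF h = (P hF h * P hF h) * g * (P hF h * P hF h) := by group
      _ = g := by rw [h1, one_mul, mul_one]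
  map_mul' x y := by
    apply Subtype.ext
    show P hF h * (x * y) * P hF h = (P hF h * x * P hF h) * (P hF h * y * P hF h)
    have h1 := P_sq hF h
    calc P hF h * (x * y) * P hF h = P hF h * x * 1 * y * P hF h := by group
      _ = _ := by rw [← h1]; group

noncomputable def eX : threeJ3 F ω ≃* threeJ3 F ω := ((eHH ω).trans (conjP hF h)).trans (eHH ω).symm

noncomputable def psi0 : MulAut (J3 F ω) :=
  QuotientGroup.congr (Subgroup.center (threeJ3 F ω)) (Subgroup.center (threeJ3 F ω)) (eX hF h)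
    (H10.J3Unitary.map_center (eX hF h))

theorem psi0_not_inn : psi0 hF h ∉ Cfsg.Inn (J3 F ω) := by
  rintro ⟨x, hx⟩
  obtain ⟨g, rfl⟩ := QuotientGroup.mk'_surjective _ x
  have h1 : ∀ y : threeJ3 F ω, (g * y * g⁻¹)⁻¹ * eX hF h y ∈ Subgroup.center (threeJ3 F ω) := by
    intro y
    rw [← QuotientGroup.eq]
    have h2 := congrArg (fun f : MulAut (J3 F ω) => f (QuotientGroup.mk' _ y)) hx
    exact h2
  have h2 := inner_of_inner_mod (commutator_threeJ3 hF h) (eX hF h) g h1
  let s : threeJ3 F ω := (eHH ω).symm ⟨S hF h, S_HH hF h⟩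
  have h3 := h2 s
  have h4 : eHH ω (eX hF h s) = ⟨S hF h, S_HH hF h⟩ * ⟨S hF h, S_HH hF h⟩ := by
    have : eHH ω (eX hF h s) = conjP hF h (eHH ω s) := by
      show eHH ω ((eHH ω).symm _) = _
      rw [MulEquiv.apply_symm_apply]; rfl
    rw [this]
    show conjP hF h (eHH ω ((eHH ω).symm _)) = _
    rw [MulEquiv.apply_symm_apply]
    exact Subtype.ext (P_S hF h)
  rw [h3, map_mul, map_mul, map_inv] at h4
  have h5 : eHH ω s = ⟨S hF h, S_HH hF h⟩ := (eHH ω).apply_symm_apply _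
  rw [h5] at h4
  have h6 : eHH ω g * (⟨S hF h, S_HH hF h⟩ : HH ω) = ⟨S hF h, S_HH hF h⟩ * eHH ω g :=
    Subtype.ext (S_comm hF h (eHH ω g).2)
  rw [h6, mul_inv_cancel_right] at h4
  have h7 : (⟨S hF h, S_HH hF h⟩ : HH ω) = 1 := by
    have := h4.symm
    rwa [mul_eq_left] at this
  have h8 : S hF h = 1 := congrArg Subtype.val h7
  have h9 := S_apply hF h (dec ω u1)
  rw [h8] at h9
  have hu0 : dec ω u1 ≠ 0 := by
    intro e
    rw [← dec_zero (coding hF h)] at e
    exact absurd ((coding hF h).inj _ _ u1_lt (by norm_num) e) (by norm_num [u1])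
  have h10 : (1 - ω) • dec ω u1 = 0 := by
    have h9' : dec ω u1 = ω • dec ω u1 := h9
    rw [sub_smul, one_smul, ← h9', sub_self]
  rcases smul_eq_zero.1 h10 with h11 | h11
  · exact h.ne1 (sub_eq_zero.1 h11).symm
  · exact hu0 h11

include hF h in
theorem card_out : Nat.card (Cfsg.Out (J3 F ω)) = 2 := by
  have hfJ : Finite (J3 F ω) := Nat.finite_of_card_ne_zero (by rw [card_J3 hF h]; norm_num)
  have hidx : ¬ 17 ∣ (Subgroup.zpowers (aJ hF h)).index := by
    have h1 := Subgroup.card_mul_index (Subgroup.zpowers (aJ hF h))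
    rw [Nat.card_zpowers, order_aJ, card_J3 hF h] at h1
    omega
  have hform : ∀ φ : MulAut (J3 F ω), ∃ g : J3 F ω, ((MulAut.conj g * φ) (aJ hF h) = aJ hF h ∨
      (MulAut.conj g * φ) (aJ hF h) = aJ hF h ^ 3) ∧ (MulAut.conj g * φ) (bJ hF h) = bJ hF h ∧
      ∃ d ∈ {d : J3 F ω | ∃ i : ℕ, d = bJ hF h ^ i}, (MulAut.conj g * φ) (cJ hF h) = cJ hF h * d := by
    intro φ
    have hk : ∀ k : ZMod 17, k ≠ 0 → ∃ i : ℕ, i < 8 ∧ (k * ((2 : ℕ) : ZMod 17) ^ i = 1 ∨ k * ((2 : ℕ) : ZMod 17) ^ i = ((3 : ℕ) : ZMod 17)) := by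
      decide
    exact H10.OutForm.exists_form' 3 (by norm_num : Nat.Prime 17) (order_aJ hF h) hidx (cent_aJ hF h) (rel_ba hF h)
      (by decide) (fun k hk0 => by obtain ⟨i, _, hi⟩ := hk k hk0; exact ⟨i, hi⟩) (cent_bJ hF h) (rel_cb hF h) φ
  exact H10.OutForm.card_out_eq_two' hform
    (fun ψ h1 h2 h3 => H40.OutForm.ext_of_closure_three (hgen hF h) ψ h1 h2 h3)
    (fun ψ h1 h2 d hd h3 => hex hF h ψ h1 h2 d hd h3) ⟨psi0 hF h, psi0_not_inn hF h⟩

end H10.J3U
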