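import Cfsg.Agent.Lib.H10.J3TComp
import Cfsg.Agent.Lib.H10.J3DataU

set_option autoImplicit false
set_option linter.unusedSectionVars false

/-! Kernel computations for the outer automorphism group of J3. -/

namespace H10.J3U

open H10.BitPar H10.BitOrb H10.BitTab H10.J3Data H10.J3DataT H10.J3DataU H10.J3Comp H10.J3Order H10.J3Tab H10.J3T

/-- letters -/
def ug : List (List (ℕ × ℕ)) := [s1, s2, oa, q1, q2, q3, q4, ot, ou, ov, sc, aa, bb, cc, dd]

def ugC : List (List ℕ) := ug.map (colsOf 18)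
def D0 : ℕ := mkB0 18 9 ugC
def D1 : ℕ := mkB1 18 9 ugC
def eu (w : List ℕ) (x : ℕ) : ℕ := evP 18 9 D0 D1 w x

def sameU (w v : List ℕ) : Bool := (List.range 18).all fun k => Nat.beq (eu w (Nat.pow 2 k)) (eu v (Nat.pow 2 k))

def rp (w : List ℕ) : ℕ → List ℕ := Nat.rec (motive := fun _ => List ℕ) [] (fun _ ih => w ++ ih)

def u1 : ℕ := 114602

/-- not a multiple of `x` -/
def notZ (w : List ℕ) (x : ℕ) : Bool :=
  cond (Nat.beq (eu w x) x) false (cond (Nat.beq (eu w x) (eu [10] x)) false (cond (Nat.beq (eu w x) (eu [10, 10] x)) false true))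

def chkU1 : Bool := cond (sameV aaW aa) (cond (sameE bbW bb) (cond (sameE ccW cc) (sameE ddW dd) false) false) false

def chkU2 : Bool :=
  cond (sameU (rp [11] 17) []) (cond (sameU [11, 12] [12, 11, 11]) (cond (sameU [12, 12, 12, 12] [7])
  (cond (sameU [12, 13] [13, 12, 12, 12, 12, 12]) (cond (sameU [13, 13] []) (cond (sameU [14, 14] []) (cond (sameU (rp [11, 13] 10) [])
  (cond (Nat.beq (eu [11] u1) u1) (cond (Nat.beq (eu [12] u1) u1) (cond (Nat.beq (eu [14] u1) u1)
  (cond (notZ (rp [11, 11, 11, 13] 10) 21) (cond (notZ (rp [11, 11, 11, 7, 13] 10) 21)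
  (cond (sameU [11] []) false true)
  false) false) false) false) false) false) false) false) false) false) false) false

/-- conjugates of `a` -/
def gw (i j : ℕ) : List ℕ := cond (Nat.beq j 17) (rp [12] i) ([14] ++ (rp [11] j ++ rp [12] i))
def gi (i j : ℕ) : List ℕ := cond (Nat.beq j 17) (rp [12] (8 - i)) (rp [12] (8 - i) ++ (rp [11] (17 - j) ++ [14]))
def ijs : List (ℕ × ℕ) := (List.range 8).flatMap fun i => (List.range 18).map fun j => (i, j)
def SA : ℕ := ofList (ijs.map fun p => eu (gi p.1 p.2 ++ ([11] ++ gw p.1 p.2)) 1604)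

def UA : ℕ := spanS 18 (movedL 18 aa)

def abc : List (List (ℕ × ℕ)) := [cc, aa, bb]
def OO : ℕ := bfs 18 abc 10 (Nat.pow 2 u1)

def chkU3 : Bool := cond (Nat.beq (pc 18 SA) 144) (cond (Nat.beq (pc 18 UA) 65536) (Nat.beq (pc 18 OO) 61560) false) false

/-- all elements of `GC` -/
def gcw : List (List ℕ) := hws.flatMap fun w => (List.range 32).map fun m => w ++ bw m
def cenChk (w : List ℕ) : Bool :=
  cond (Nat.beq (eu [12] (eu w 17)) (eu w (eu [12] 17)))
    ((List.range 8).any fun i => Nat.beq (eu w 17) (eu (rp [12] i) 17)) true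

def chkU4 : Bool := cond (Nat.beq (ofList (gcw.map fun w => eu w 17)) SC1) (gcw.all cenChk) false

/-- the semilinear map -/
def phiChk (i : ℕ) : Bool := cond (okW (phW.getD i [])) ((List.range 18).all fun k =>
  Nat.beq (runG ph (ev [i] (runG ph (Nat.pow 2 k)))) (ev (phW.getD i []) (Nat.pow 2 k))) false

def chkU5 : Bool := cond ((List.range 45).all phiChk) (cond ((List.range 18).all fun k =>
  Nat.beq (runG ph (runG sc (runG ph (Nat.pow 2 k)))) (runG sc (runG sc (Nat.pow 2 k)))) ((List.range 18).all fun k =>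
  Nat.beq (runG ph (runG ph (Nat.pow 2 k))) (Nat.pow 2 k)) false) false

theorem chkU1_eq : chkU1 = true := by decide +kernel
theorem chkU2_eq : chkU2 = true := by decide +kernel
theorem chkU3_eq : chkU3 = true := by decide +kernel
theorem chkU4_eq : chkU4 = true := by decide +kernel
theorem chkU5_eq : chkU5 = true := by decide +kernel
theorem ok_ug : okAll 18 ug = true := by decide +kernel
theorem ok_ph : okOps 18 ph = true := by decide +kernel

theorem D0_def : D0 = mkB0 18 9 ugC := rfl
theorem D1_def : D1 = mkB1 18 9 ugC := rfl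
theorem SA_def : SA = ofList (ijs.map fun p => eu (gi p.1 p.2 ++ ([11] ++ gw p.1 p.2)) 1604) := rfl
theorem UA_def : UA = spanS 18 (movedL 18 aa) := rfl
theorem OO_def : OO = bfs 18 abc 10 (Nat.pow 2 u1) := rfl

attribute [irreducible] D0 D1 SA UA OO

end H10.J3U
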