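import Mathlib.GroupTheory.GroupAction.Quotient
import Mathlib.GroupTheory.GroupAction.FixingSubgroup
import Mathlib.GroupTheory.Index
import Mathlib.GroupTheory.Subgroup.Simple
import Mathlib.SetTheory.Cardinal.Finite
import Mathlib.Logic.Equiv.Fin.Basic

set_option autoImplicit false

/-! A simple group acts faithfully on the cosets of a proper subgroup: realization inside `Perm (Fin n)`. -/

namespace H10.PermReal

/-- faithful transitive action on `Fin n` as a subgroup of `Perm (Fin n)`, the stabilizer of `0` being isomorphic to `S` -/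
theorem exists_perm {G : Type*} [Group G] [IsSimpleGroup G] (S : Subgroup G) {n : ℕ} [NeZero n]
    (hn : S.index = n) (hS : S ≠ ⊤) :
    ∃ (H : Subgroup (Equiv.Perm (Fin n))) (e : G ≃* H), MulAction.IsPretransitive H (Fin n) ∧
      ∀ g : G, e g ∈ MulAction.stabilizer H (0 : Fin n) ↔ g ∈ S := by
  classical
  have hcard : Nat.card (G ⧸ S) = n := hn
  have hfin : Finite (G ⧸ S) := Nat.finite_of_card_ne_zero (by rw [hcard]; exact NeZero.ne n)
  let e0 : (G ⧸ S) ≃ Fin n := Finite.equivFinOfCardEq hcard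
  let e1 : (G ⧸ S) ≃ Fin n := e0.trans (Equiv.swap (e0 (QuotientGroup.mk 1)) 0)
  have he1 : e1 (QuotientGroup.mk 1) = 0 := Equiv.swap_apply_left _ _
  let f : G →* Equiv.Perm (Fin n) := (e1.permCongrHom.toMonoidHom).comp (MulAction.toPermHom G (G ⧸ S))
  have hf : ∀ (g : G) (x : G ⧸ S), f g (e1 x) = e1 (g • x) := by
    intro g x
    show e1 (g • (e1.symm (e1 x))) = _
    rw [Equiv.symm_apply_apply]
  have hstab : ∀ g : G, f g 0 = 0 ↔ g ∈ S := by
    intro g
    rw [← he1, hf, e1.apply_eq_iff_eq]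
    rw [MulAction.Quotient.smul_mk, QuotientGroup.eq, smul_eq_mul, mul_one, mul_one, S.inv_mem_iff]
  have hinj : Function.Injective f := by
    rw [← MonoidHom.ker_eq_bot_iff]
    rcases IsSimpleGroup.eq_bot_or_eq_top_of_normal f.ker inferInstance with h | h
    · exact h
    · exfalso
      apply hS
      rw [eq_top_iff]
      intro g _
      have : g ∈ f.ker := by rw [h]; trivial
      rw [← hstab, MonoidHom.mem_ker.1 this]; rfl
  refine ⟨f.range, MonoidHom.ofInjective hinj, ⟨?_⟩, ?_⟩
  · intro x y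
    obtain ⟨x, rfl⟩ := e1.surjective x
    obtain ⟨y, rfl⟩ := e1.surjective y
    obtain ⟨g, hg⟩ := MulAction.exists_smul_eq G x y
    refine ⟨⟨f g, g, rfl⟩, ?_⟩
    show f g (e1 x) = e1 y
    rw [hf, hg]
  · intro g
    rw [← hstab]
    exact Iff.rfl

/-- the stabilizer of `0` -/
theorem stabilizer_equiv {G : Type*} [Group G] {n : ℕ} [NeZero n] {H : Subgroup (Equiv.Perm (Fin n))} (e : G ≃* H)
    {S : Subgroup G} (h : ∀ g : G, e g ∈ MulAction.stabilizer H (0 : Fin n) ↔ g ∈ S) :
    Nonempty (S ≃* MulAction.stabilizer H (0 : Fin n)) := by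
  refine ⟨(e.subgroupMap S).trans (MulEquiv.subgroupCongr ?_)⟩
  ext x
  constructor
  · rintro ⟨g, hg, rfl⟩
    exact (h g).2 hg
  · intro hx
    refine ⟨e.symm x, ?_, by simp⟩
    have := (h (e.symm x)).1 (by rw [e.apply_symm_apply]; exact hx)
    exact this

end H10.PermReal
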