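import Cfsg.Agent.Lib.H10.J3Unitary
import Cfsg.Agent.Lib.H10.J3DataW
import Cfsg.Agent.Lib.H10.PermReal

set_option autoImplicit false
set_option linter.unusedSectionVars false

/-! The stabilizer in 3.J3 of a totally isotropic 4-space with 6156 images: 3 x L2(16):2. -/

namespace H10.BitOrb

open H10.BitPar

variable {n : ℕ} {V : Type*} [AddCommGroup V] {dec : ℕ → V}

/-- setwise stabilizer -/
def sstab (H : Subgroup (Equiv.Perm V)) (W : Set V) : Subgroup (Equiv.Perm V) where
  carrier := {g | g ∈ H ∧ ∀ v, g v ∈ W ↔ v ∈ W}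
  one_mem' := ⟨H.one_mem, fun _ => Iff.rfl⟩
  mul_mem' := fun {a b} ha hb => ⟨H.mul_mem ha.1 hb.1, fun v => (ha.2 (b v)).trans (hb.2 v)⟩
  inv_mem' := fun {a} ha => ⟨H.inv_mem ha.1, fun v => by
    have := ha.2 (a⁻¹ v)
    have h1 : a (a⁻¹ v) = v := a.apply_symm_apply v
    rw [h1] at this
    exact this.symm⟩

theorem sstab_le (H : Subgroup (Equiv.Perm V)) (W : Set V) : sstab H W ≤ H := fun _ hg => hg.1

theorem mem_runS (hc : Coding n dec) {σ : Equiv.Perm V} {l : List (ℕ × ℕ)} (hl : okOps n l = true) (hσ : Rep n dec σ l)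
    (S : ℕ) (v : V) : σ v ∈ toSet n dec (runS n l S) ↔ v ∈ toSet n dec S := by
  obtain ⟨x, hx, rfl⟩ := hc.surj v
  rw [hσ x hx, mem_toSet hc (runF_lt hl hx), mem_toSet hc hx]
  rw [testBit_runS hl S x hx]

theorem IsRep.sstab (hc : Coding n dec) {H : Subgroup (Equiv.Perm V)} {l : List (ℕ × ℕ)} (hl : okOps n l = true)
    {W : ℕ} (h : IsRep n dec H l) (hW : runS n l W = W) : IsRep n dec (sstab H (toSet n dec W)) l := by
  obtain ⟨g, hg, hr⟩ := h
  refine ⟨g, ⟨hg, fun v => ?_⟩, hr⟩
  have := mem_runS hc hl hr W v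
  rw [hW] at this
  exact this

/-- the images of `W` under a list of elements of `L` are distinct: index of the setwise stabilizer -/
theorem index_sstab_ge (hc : Coding n dec) {L : Subgroup (Equiv.Perm V)} {W : ℕ} {ws : List (List (ℕ × ℕ))}
    (hws : ∀ l ∈ ws, okOps n l = true ∧ IsRep n dec L l) (hlt : ∀ l ∈ ws, runS n l W < 2 ^ 2 ^ n)
    (hnd : (ws.map fun l => runS n l W).Nodup) :
    ws.length * Nat.card (sstab L (toSet n dec W)) ≤ Nat.card L := by
  classical
  have := finite_V hc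
  have hfin : Finite L := inferInstance
  -- cosets
  set K := (sstab L (toSet n dec W)).subgroupOf L with hK
  have h1 : Nat.card (sstab L (toSet n dec W)) = Nat.card K := by
    rw [hK]
    exact (Nat.card_congr (Subgroup.subgroupOfEquivOfLe (sstab_le L _)).toEquiv).symm
  have h2 := K.card_mul_index
  rw [h1, ← h2, mul_comm]
  apply Nat.mul_le_mul_left
  -- elements
  have h3 : ∀ i : Fin ws.length, ∃ g : L, Rep n dec (g : Equiv.Perm V) (ws.get i) := by
    intro i
    obtain ⟨g, hg, hr⟩ := (hws _ (List.get_mem ws i)).2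
    exact ⟨⟨g, hg⟩, hr⟩
  choose g hg using h3
  have h4 : Function.Injective (fun i => (QuotientGroup.mk (g i) : L ⧸ K)) := by
    intro i j hij
    have h5 : (g i)⁻¹ * g j ∈ K := QuotientGroup.eq.1 hij
    have h6 : ∀ v, ((g i : Equiv.Perm V)⁻¹ * (g j : Equiv.Perm V)) v ∈ toSet n dec W ↔ v ∈ toSet n dec W := by
      intro v
      have := Subgroup.mem_subgroupOf.1 h5
      exact this.2 v
    have h7 : runS n (ws.get i) W = runS n (ws.get j) W := by
      apply Nat.eq_of_testBit_eq
      intro x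
      by_cases hx : x < 2 ^ n
      · have e1 := mem_toSet hc hx (S := runS n (ws.get i) W)
        have e2 := mem_toSet hc hx (S := runS n (ws.get j) W)
        rw [Bool.eq_iff_iff, ← e1, ← e2]
        have f1 := mem_runS hc (hws _ (List.get_mem ws i)).1 (hg i) W ((g i : Equiv.Perm V)⁻¹ (dec x))
        have f2 := mem_runS hc (hws _ (List.get_mem ws j)).1 (hg j) W ((g j : Equiv.Perm V)⁻¹ (dec x))
        have e3 : ∀ (a : Equiv.Perm V) (v : V), a (a⁻¹ v) = v := fun a v => a.apply_symm_apply v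
        rw [e3] at f1 f2
        rw [f1, f2]
        have f3 := h6 ((g j : Equiv.Perm V)⁻¹ (dec x))
        rw [Equiv.Perm.mul_apply, e3] at f3
        exact f3
      · have hb : ∀ S : ℕ, S < 2 ^ 2 ^ n → S.testBit x = false := by
          intro S hS
          apply Nat.testBit_eq_false_of_lt
          exact lt_of_lt_of_le hS (Nat.pow_le_pow_right (by norm_num) (not_lt.1 hx))
        rw [hb _ (hlt _ (List.get_mem ws i)), hb _ (hlt _ (List.get_mem ws j))]
    have h8 : (ws.map fun l => runS n l W).get (Fin.cast (by simp) i) = (ws.map fun l => runS n l W).get (Fin.cast (by simp) j) := by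
      simpa using h7
    have h9 := List.nodup_iff_injective_get.1 hnd h8
    exact Fin.ext (by simpa using congrArg Fin.val h9)
  have h5 := Nat.card_le_card_of_injective _ h4
  rw [Nat.card_eq_fintype_card, Fintype.card_fin] at h5
  exact h5

/-- the stabilizers commute -/
theorem stab_sstab (H : Subgroup (Equiv.Perm V)) (W : Set V) (b : V) : stab (sstab H W) b = sstab (stab H b) W := by
  ext g
  constructor
  · rintro ⟨⟨h1, h2⟩, h3⟩; exact ⟨⟨h1, h3⟩, h2⟩
  · rintro ⟨⟨h1, h3⟩, h2⟩; exact ⟨⟨h1, h2⟩, h3⟩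

theorem orbit_sstab {H : Subgroup (Equiv.Perm V)} {W : Set V} {b : V} (hb : b ∈ W) :
    MulAction.orbit (sstab H W) b ⊆ W := by
  intro v hv
  obtain ⟨g, hg, rfl⟩ := mem_orbit_iff.1 hv
  exact (hg.2 b).2 hb

end H10.BitOrb
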