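import Cfsg.Agent.Lib.H10.J3W

set_option autoImplicit false
set_option linter.unusedSectionVars false

/-! Kernel computation of the stabilizer of a totally isotropic 4-space. -/

namespace H10.BitOrb

open H10.BitPar

/-- the set with the given elements -/
def ofList (L : List ℕ) : ℕ := List.rec (motive := fun _ => ℕ) 0 (fun x _ ih => Nat.lor (Nat.pow 2 x) ih) L

/-- not equal to any in the list -/
def notIn (S : ℕ) (L : List ℕ) : Bool := List.rec (motive := fun _ => Bool) true
  (fun T _ ih => cond (Nat.beq S T) false ih) L

def nodupB (L : List ℕ) : Bool := List.rec (motive := fun _ => Bool) true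
  (fun T L ih => cond (notIn T L) ih false) L

theorem notIn_iff {S : ℕ} {L : List ℕ} (h : notIn S L = true) : S ∉ L := by
  induction L with
  | nil => simp
  | cons T L ih =>
    have h2 : cond (Nat.beq S T) false (notIn S L) = true := h
    cases h3 : Nat.beq S T with
    | true => rw [h3] at h2; exact absurd h2 (by simp)
    | false =>
      rw [h3] at h2
      intro hmem
      rcases List.mem_cons.1 hmem with rfl | hmem
      · exact Nat.ne_of_beq_eq_false h3 rfl
      · exact ih h2 hmem

theorem nodupB_iff {L : List ℕ} (h : nodupB L = true) : L.Nodup := by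
  induction L with
  | nil => exact List.nodup_nil
  | cons T L ih =>
    have h2 : cond (notIn T L) (nodupB L) false = true := h
    cases h3 : notIn T L with
    | true => rw [h3] at h2; exact List.nodup_cons.2 ⟨notIn_iff h3, ih h2⟩
    | false => rw [h3] at h2; exact absurd h2 (by simp)

/-- all less than the bound -/
def allLt (b : ℕ) (L : List ℕ) : Bool := List.rec (motive := fun _ => Bool) true
  (fun T _ ih => cond (Nat.blt T b) ih false) L

theorem allLt_iff {b : ℕ} {L : List ℕ} (h : allLt b L = true) : ∀ x ∈ L, x < b := by
  induction L with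
  | nil => intro x hx; simp at hx
  | cons T L ih =>
    have h2 : cond (Nat.blt T b) (allLt b L) false = true := h
    cases h3 : Nat.blt T b with
    | true =>
      rw [h3] at h2
      intro x hx
      rcases List.mem_cons.1 hx with rfl | hx
      · simpa [Nat.blt] using h3
      · exact ih h2 x hx
    | false => rw [h3] at h2; exact absurd h2 (by simp)

/-- operations of a word in the given operations (first letter first) -/
def wOps (gs : List (List (ℕ × ℕ))) (w : List ℕ) : List (ℕ × ℕ) := w.flatMap fun i => gs.getD i []

theorem wOps_rep {n : ℕ} {V : Type*} [AddCommGroup V] {dec : ℕ → V} {H : Subgroup (Equiv.Perm V)}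
    {gs : List (List (ℕ × ℕ))} (hgs : ∀ l ∈ gs, okOps n l = true ∧ IsRep n dec H l) (w : List ℕ) :
    okOps n (wOps gs w) = true ∧ IsRep n dec H (wOps gs w) := by
  induction w with
  | nil => exact ⟨rfl, IsRep.nil⟩
  | cons i w ih =>
    have h1 : wOps gs (i :: w) = gs.getD i [] ++ wOps gs w := by simp [wOps]
    have h2 : okOps n (gs.getD i []) = true ∧ IsRep n dec H (gs.getD i []) := by
      by_cases hi : i < gs.length
      · rw [List.getD_eq_getElem _ _ hi]
        exact hgs _ (List.getElem_mem hi)
      · rw [List.getD_eq_default _ _ (not_lt.1 hi)]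
        exact ⟨rfl, IsRep.nil⟩
    rw [h1]
    exact ⟨okOps_append h2.1 ih.1, IsRep.append h2.1 h2.2 ih.2⟩

end H10.BitOrb

namespace H10.J3W

open H10.BitPar H10.BitOrb H10.J3Data H10.J3DataW H10.J3Comp H10.J3Order

def Wn : ℕ := ofList WL
def sg : List (List (ℕ × ℕ)) := [wa, wb, sc]
def lg : List (List (ℕ × ℕ)) := [wc, wd]
def TS : ℕ := bfs 18 sg 15 (Nat.pow 2 4660)
def imgs : List (List (ℕ × ℕ)) := tr.map fun w => wOps lg w
def imgSets : List ℕ := imgs.map fun l => runS 18 l Wn

def chkW : Bool := cond (invAll 18 sg Wn) (cond (Nat.beq (pc 18 Wn) 255) (cond (tb Wn 5) (cond (Nat.beq (pc 18 TS) 24480)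
  (cond (Nat.beq (pc 18 T1) 130815) (cond (nodupB imgSets) (cond (allLt (Nat.pow 2 (Nat.pow 2 18)) imgSets)
    (Nat.beq (runF wc 5) 5) false) false) false) false) false) false) false

theorem chkW_eq : chkW = true := by decide +kernel

theorem samewa : sameW waW wa = true := by decide +kernel
theorem samewb : sameW wbW wb = true := by decide +kernel
theorem samewc : sameW wcW wc = true := by decide +kernel
theorem samewd : sameW wdW wd = true := by decide +kernel
theorem ok_sg : okAll 18 sg = true := by decide +kernel
theorem ok_lg : okAll 18 lg = true := by decide +kernel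
theorem fixwc : runF wc 5 = 5 := by decide +kernel
theorem fixwd : runF wd 5 = 5 := by decide +kernel

theorem Wn_def : Wn = ofList WL := rfl
theorem TS_def : TS = bfs 18 sg 15 (Nat.pow 2 4660) := rfl

attribute [irreducible] Wn TS

end H10.J3W
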